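import Mathlib

/-!
Helper (helper46): a zipper machine for braid-move certificates in Coxeter groups. The word is
`l.reverse ++ r`; the program is a number whose base-4 digits are the instructions
(1: cursor left, 2: cursor right, 3: cancel `a a` or apply the braid relation at the cursor).
-/

namespace Cfsg.Agent.H46

open CoxeterSystem List

section CoxZip

variable {B : Type*} [DecidableEq B]

/-- Strip `m` letters alternating `a b a ...` from the front. -/
def coxStrip : ℕ → B → B → List B → Option (List B)
  | 0, _, _, r => some r
  | _ + 1, _, _, [] => none
  | m + 1, a, b, c :: r => if c = a then coxStrip m b a r else none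

/-- Prepend `m` letters alternating `a b a ...`. -/
def coxPut : ℕ → B → B → List B → List B
  | 0, _, _, r => r
  | m + 1, a, b, r => a :: coxPut m b a r

theorem coxStrip_eq : ∀ (m : ℕ) (a b : B) (r rest : List B),
    coxStrip m a b r = some rest → r = coxPut m a b rest
  | 0, a, b, r, rest, h => by
    simp only [coxStrip, Option.some.injEq] at h
    rw [coxPut, h]
  | m + 1, a, b, [], rest, h => by simp [coxStrip] at h
  | m + 1, a, b, c :: r, rest, h => by
    rw [coxStrip] at h
    split_ifs at h with hc
    subst hc
    rw [coxPut, coxStrip_eq m b c r rest h]

theorem coxPut_eq : ∀ (m : ℕ) (a b : B) (r : List B),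
    coxPut m a b r = (alternatingWord b a m).reverse ++ r
  | 0, a, b, r => by simp [coxPut, alternatingWord]
  | m + 1, a, b, r => by
    rw [coxPut, coxPut_eq m b a r, alternatingWord_succ]
    simp

/-- The zipper machine. -/
def coxZRun (mf : B → B → ℕ) : ℕ → ℕ → List B → List B → Option (List B × List B)
  | 0, _, l, r => some (l, r)
  | fuel + 1, c, l, r =>
    if c = 0 then some (l, r)
    else if c % 4 = 1 then
      match l with
      | x :: l' => coxZRun mf fuel (c / 4) l' (x :: r)
      | [] => none
    else if c % 4 = 2 then
      match r with
      | x :: r' => coxZRun mf fuel (c / 4) (x :: l) r'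
      | [] => none
    else
      match r with
      | a :: b :: r' =>
        if a = b then coxZRun mf fuel (c / 4) l r'
        else
          match coxStrip (mf a b) a b (a :: b :: r') with
          | some rest => coxZRun mf fuel (c / 4) l (coxPut (mf a b) b a rest)
          | none => none
      | _ => none

variable {M : CoxeterMatrix B} {W : Type*} [Group W] (cs : CoxeterSystem M W)

theorem coxPut_braid (a b : B) (rest : List B) :
    cs.wordProd (coxPut (M a b) a b rest) = cs.wordProd (coxPut (M a b) b a rest) := by
  rw [coxPut_eq, coxPut_eq, wordProd_append, wordProd_append, wordProd_reverse, wordProd_reverse]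
  have h := cs.wordProd_braidWord_eq a b
  unfold braidWord at h
  rw [M.symmetric b a] at h
  rw [h]

theorem coxZRun_sound (mf : B → B → ℕ) (hm : ∀ a b, mf a b = M a b) :
    ∀ (fuel c : ℕ) (l r l' r' : List B), coxZRun mf fuel c l r = some (l', r') →
      cs.wordProd (l.reverse ++ r) = cs.wordProd (l'.reverse ++ r')
  | 0, c, l, r, l', r', h => by
    simp only [coxZRun, Option.some.injEq, Prod.mk.injEq] at h
    rw [h.1, h.2]
  | fuel + 1, c, l, r, l', r', h => by
    unfold coxZRun at h
    split_ifs at h with h0 h1 h2
    · simp only [Option.some.injEq, Prod.mk.injEq] at h
      rw [h.1, h.2]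
    · cases l with
      | nil => simp at h
      | cons x l'' =>
        simp only at h
        rw [← coxZRun_sound mf hm fuel _ _ _ _ _ h]
        simp
    · cases r with
      | nil => simp at h
      | cons x r'' =>
        simp only at h
        rw [← coxZRun_sound mf hm fuel _ _ _ _ _ h]
        simp
    · match r, h with
      | [], h => simp at h
      | [_], h => simp at h
      | a :: b :: r'', h =>
        simp only at h
        split_ifs at h with hab
        · subst hab
          rw [← coxZRun_sound mf hm fuel _ _ _ _ _ h]
          rw [wordProd_append, wordProd_append, wordProd_cons, wordProd_cons,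
            simple_mul_simple_cancel_left]
        · split at h
          · rename_i rest hs
            rw [← coxZRun_sound mf hm fuel _ _ _ _ _ h]
            rw [coxStrip_eq _ _ _ _ _ hs, wordProd_append, wordProd_append, hm,
              coxPut_braid]
          · simp at h

end CoxZip

end Cfsg.Agent.H46
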