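import Mathlib
import Cfsg.Agent.H46.CoxZip

/-!
Helper (helper46): orders of presented Coxeter groups through a chain of parabolic subgroups.
For consecutive parabolic subgroups `W_k ≤ W_{k+1}` (generated by the first `k`, `k+1` simple
reflections) a list `X` of words is shown to be a transversal: closure under left multiplication
is certified by braid moves (`coxZRun`), and distinctness of the cosets by an invariant computed
in a permutation action of the group.
-/

namespace Cfsg.Agent.H46

open CoxeterSystem

section CoxChain

variable {n N : ℕ} (M : CoxeterMatrix (Fin n))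

/-- The parabolic subgroup generated by the first `k` simple reflections. -/
def coxPar (k : ℕ) : Subgroup M.Group :=
  Subgroup.closure (M.simple '' {i : Fin n | i.val < k})

theorem coxPar_zero : coxPar M 0 = ⊥ := by
  unfold coxPar
  simp

theorem coxPar_top : coxPar M n = ⊤ := by
  unfold coxPar
  have h1 : {i : Fin n | i.val < n} = Set.univ := by
    ext i; simp
  rw [h1, Set.image_univ]
  have := M.toCoxeterSystem.subgroup_closure_range_simple
  rwa [CoxeterMatrix.toCoxeterSystem_simple] at this

theorem coxPar_mono {k l : ℕ} (h : k ≤ l) : coxPar M k ≤ coxPar M l := by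
  apply Subgroup.closure_mono
  apply Set.image_mono
  intro i hi
  exact lt_of_lt_of_le hi h

theorem coxPar_simple {k : ℕ} (j : Fin n) (hj : j.val < k) :
    M.toCoxeterSystem.simple j ∈ coxPar M k := by
  rw [CoxeterMatrix.toCoxeterSystem_simple]
  exact Subgroup.subset_closure ⟨j, hj, rfl⟩

theorem coxPar_wordProd {k : ℕ} (w : List (Fin n)) (hw : ∀ j ∈ w, j.val < k) :
    M.toCoxeterSystem.wordProd w ∈ coxPar M k := by
  induction w with
  | nil => rw [wordProd_nil]; exact one_mem _
  | cons a w ih =>
    rw [wordProd_cons]
    exact mul_mem (coxPar_simple M a (hw a (by simp))) (ih (fun j hj => hw j (by simp [hj])))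

variable {M}

/-- The action of a word on a point, for a family of maps `f`. -/
def coxAct (f : Fin n → Fin N → Fin N) (w : List (Fin n)) (p : Fin N) : Fin N :=
  w.foldr (fun j q => f j q) p

/-- The homomorphism to the monoid of self-maps defined by a liftable family, as a function. -/
noncomputable def coxRho (f : Fin n → Fin N → Fin N)
    (hf : CoxeterMatrix.IsLiftable (G := Function.End (Fin N)) M f) (w : M.Group) :
    Fin N → Fin N :=
  (M.toCoxeterSystem.lift (G := Function.End (Fin N)) ⟨f, hf⟩) w

variable (f : Fin n → Fin N → Fin N)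
  (hf : CoxeterMatrix.IsLiftable (G := Function.End (Fin N)) M f)

theorem coxRho_simple (j : Fin n) (p : Fin N) :
    coxRho f hf (M.toCoxeterSystem.simple j) p = f j p :=
  congrArg (fun g : Function.End (Fin N) => (g : Fin N → Fin N) p)
    (M.toCoxeterSystem.lift_apply_simple (G := Function.End (Fin N)) hf j)

theorem coxRho_mul (a b : M.Group) (p : Fin N) :
    coxRho f hf (a * b) p = coxRho f hf a (coxRho f hf b p) :=
  congrArg (fun g : Function.End (Fin N) => (g : Fin N → Fin N) p)
    (map_mul (M.toCoxeterSystem.lift (G := Function.End (Fin N)) ⟨f, hf⟩) a b)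

theorem coxRho_one (p : Fin N) : coxRho f hf 1 p = p :=
  congrArg (fun g : Function.End (Fin N) => (g : Fin N → Fin N) p)
    (map_one (M.toCoxeterSystem.lift (G := Function.End (Fin N)) ⟨f, hf⟩))

theorem coxRho_wordProd (w : List (Fin n)) (p : Fin N) :
    coxRho f hf (M.toCoxeterSystem.wordProd w) p = coxAct f w p := by
  induction w with
  | nil => rw [wordProd_nil, coxRho_one]; rfl
  | cons a w ih =>
    rw [wordProd_cons, coxRho_mul, coxRho_simple, ih]; rfl

/-- A fixed weight function on points (small values, used to fingerprint sets of points). -/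
@[irreducible] def coxWt (q : ℕ) : ℕ :=
  Nat.mod (Nat.add (Nat.mul (Nat.mul (Nat.mul (q + 1) (q + 1)) (q + 1)) 1000003) (Nat.mul q 7919))
    2147483647

/-- The invariant attached to a self-map: for each list `A`, the sum of the weights of `φ p`
over `p ∈ A`. -/
def coxInv (As : List (List (Fin N))) (φ : Fin N → Fin N) : List ℕ :=
  As.map (fun A => (A.map (fun p => coxWt (φ p).val)).sum)

/-- A self-map permuting each of the lists in `As` (in the form used). -/
def CoxStab (As : List (List (Fin N))) (φ : Fin N → Fin N) : Prop :=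
  ∀ A ∈ As, ∀ g : Fin N → ℕ, (A.map (fun p => g (φ p))).sum = (A.map g).sum

theorem coxStab_of_mem {k : ℕ} (As : List (List (Fin N)))
    (hA : ∀ j : Fin n, j.val < k → ∀ A ∈ As, (A.map (f j)).Perm A)
    (u : M.Group) (hu : u ∈ coxPar M k) : CoxStab As (coxRho f hf u) := by
  unfold coxPar at hu
  induction hu using Subgroup.closure_induction with
  | mem x hx =>
    obtain ⟨j, hj, rfl⟩ := hx
    intro A hAm g
    have h1 : (A.map (fun p => g (coxRho f hf (M.simple j) p))) = (A.map (f j)).map g := by
      rw [List.map_map]
      apply List.map_congr_left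
      intro p _
      have := coxRho_simple f hf j p
      rw [CoxeterMatrix.toCoxeterSystem_simple] at this
      simp [this]
    rw [h1]
    exact ((hA j hj A hAm).map g).sum_eq
  | one =>
    intro A _ g
    simp only [coxRho_one]
  | mul x y _ _ hx hy =>
    intro A hAm g
    have h1 : (A.map (fun p => g (coxRho f hf (x * y) p))) =
        A.map (fun p => (fun q => g (coxRho f hf x q)) (coxRho f hf y p)) := by
      apply List.map_congr_left
      intro p _
      simp only [coxRho_mul]
    rw [h1, hy A hAm (fun q => g (coxRho f hf x q)), hx A hAm g]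
  | inv x _ hx =>
    intro A hAm g
    have h1 := hx A hAm (fun q => g (coxRho f hf x⁻¹ q))
    rw [← h1]
    congr 1
    apply List.map_congr_left
    intro p _
    rw [← coxRho_mul, inv_mul_cancel, coxRho_one]

theorem coxInv_mul_right (As : List (List (Fin N))) (w u : M.Group)
    (hu : CoxStab As (coxRho f hf u)) :
    coxInv As (coxRho f hf (w * u)) = coxInv As (coxRho f hf w) := by
  unfold coxInv
  apply List.map_congr_left
  intro A hAm
  have := hu A hAm (fun q => coxWt (coxRho f hf w q).val)
  rw [← this]
  congr 1
  apply List.map_congr_left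
  intro p _
  rw [coxRho_mul]

theorem coxInv_wordProd (As : List (List (Fin N))) (x : List (Fin n)) :
    coxInv As (coxRho f hf (M.toCoxeterSystem.wordProd x)) = coxInv As (coxAct f x) := by
  unfold coxInv
  apply List.map_congr_left
  intro A _
  congr 1
  apply List.map_congr_left
  intro p _
  rw [coxRho_wordProd]

/-! ### The certificate checker for one level -/

/-- One certificate entry: program, index of a coset representative, code of a tail letter. -/
abbrev CoxEntry := ℕ × ℕ × ℕ

/-- The tail word coded by a number: `0` is the empty word, `j + 1` the letter `j`. -/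
def coxTail (n : ℕ) (t : ℕ) : List (Fin n) :=
  if t = 0 then [] else ((List.finRange n)[t - 1]?).toList

/-- Check one entry for the word `b :: x`. -/
def coxEntryOK (mf : Fin n → Fin n → ℕ) (k : ℕ) (X : List (List (Fin n))) (x : List (Fin n))
    (b : Fin n) (e : CoxEntry) : Bool :=
  match X[e.2.1]? with
  | some x' =>
    (match coxZRun mf 1000000 e.1 [] (b :: x) with
     | some lr => lr.1.reverse ++ lr.2 == x' ++ coxTail n e.2.2
     | none => false) && (coxTail n e.2.2).all (fun j => decide (j.val < k))
  | none => false

/-- Check the row of entries attached to the representative `x`. -/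
def coxRowOK (mf : Fin n → Fin n → ℕ) (k : ℕ) (X : List (List (Fin n))) (x : List (Fin n))
    (row : List CoxEntry) : Bool :=
  (List.finRange n).all (fun b => decide (k < b.val) ||
    (match row[b.val]? with
     | some e => coxEntryOK mf k X x b e
     | none => false))

/-- Check all rows. -/
def coxRowsOK (mf : Fin n → Fin n → ℕ) (k : ℕ) (X : List (List (Fin n))) :
    List (List (Fin n)) → List (List CoxEntry) → Bool
  | [], _ => true
  | x :: xs, row :: rows => coxRowOK mf k X x row && coxRowsOK mf k X xs rows
  | _ :: _, [] => false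

/-- The property certified for a representative `x`: left multiples by the generators of the
larger parabolic stay in `X` times the smaller parabolic. -/
def CoxRowProp (M : CoxeterMatrix (Fin n)) (k : ℕ) (X : List (List (Fin n))) (x : List (Fin n)) :
    Prop :=
  ∀ b : Fin n, b.val < k + 1 →
    ∃ x' ∈ X, ∃ t : List (Fin n), (∀ j ∈ t, j.val < k) ∧
      M.toCoxeterSystem.wordProd (b :: x) = M.toCoxeterSystem.wordProd (x' ++ t)

theorem coxRowsOK_sound (mf : Fin n → Fin n → ℕ) (hm : ∀ a b, mf a b = M a b)
    (k : ℕ) (X : List (List (Fin n))) :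
    ∀ (xs : List (List (Fin n))) (rows : List (List CoxEntry)),
      coxRowsOK mf k X xs rows = true → ∀ x ∈ xs, ∀ b : Fin n, b.val < k + 1 →
        ∃ x' ∈ X, ∃ t : List (Fin n), (∀ j ∈ t, j.val < k) ∧
          M.toCoxeterSystem.wordProd (b :: x) = M.toCoxeterSystem.wordProd (x' ++ t)
  | [], _, _, x, hx, _, _ => absurd hx (by simp)
  | _ :: _, [], h, _, _, _, _ => by simp [coxRowsOK] at h
  | y :: xs, row :: rows, h, x, hx, b, hb => by
    rw [coxRowsOK, Bool.and_eq_true] at h
    rcases List.mem_cons.mp hx with rfl | hx'
    · have h1 := h.1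
      unfold coxRowOK at h1
      rw [List.all_eq_true] at h1
      have h2 := h1 b (List.mem_finRange b)
      rw [Bool.or_eq_true] at h2
      rcases h2 with h2 | h2
      · simp only [decide_eq_true_eq] at h2
        omega
      · split at h2
        · rename_i e _
          unfold coxEntryOK at h2
          split at h2
          · rename_i x' hx'
            rw [Bool.and_eq_true] at h2
            obtain ⟨h3, h5⟩ := h2
            refine ⟨x', List.mem_of_getElem? hx', coxTail n e.2.2, ?_, ?_⟩
            · intro j hj
              rw [List.all_eq_true] at h5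
              simpa using h5 j hj
            · split at h3
              · rename_i lr hlr
                have h6 : lr.1.reverse ++ lr.2 = x' ++ coxTail n e.2.2 := by simpa using h3
                have h7 := coxZRun_sound M.toCoxeterSystem mf hm _ _ _ _ lr.1 lr.2 hlr
                rw [h6] at h7
                simpa using h7
              · exact absurd h3 (by simp)
          · exact absurd h2 (by simp)
        · exact absurd h2 (by simp)
    · exact coxRowsOK_sound mf hm k X xs rows h.2 x hx' b hb

/-- Check the rows of the representatives number `start, ..., start + len - 1`. -/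
def coxRowsFrom (mf : Fin n → Fin n → ℕ) (k : ℕ) (X : List (List (Fin n))) (start len : ℕ)
    (rows : List (List CoxEntry)) : Bool :=
  coxRowsOK mf k X ((X.drop start).take len) rows

theorem coxRowsFrom_sound (mf : Fin n → Fin n → ℕ) (hm : ∀ a b, mf a b = M a b)
    (k : ℕ) (X : List (List (Fin n))) (start len : ℕ) (rows : List (List CoxEntry))
    (h : coxRowsFrom mf k X start len rows = true) :
    ∀ i, start ≤ i → i < start + len → ∀ (hi : i < X.length), CoxRowProp M k X X[i] := by
  intro i h1 h2 hi
  have hlen : i - start < ((X.drop start).take len).length := by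
    rw [List.length_take, List.length_drop]; omega
  have hmem : X[i] ∈ (X.drop start).take len := by
    have h3 : ((X.drop start).take len)[i - start]'hlen = X[i] := by
      rw [List.getElem_take, List.getElem_drop]
      congr 1
      omega
    rw [← h3]
    exact List.getElem_mem _
  exact coxRowsOK_sound mf hm k X _ rows h X[i] hmem

/-- A list of lists of numbers without repetition, as a check. -/
def coxNodupB : List (List ℕ) → Bool
  | [] => true
  | a :: l => !(l.contains a) && coxNodupB l

theorem coxNodupB_sound : ∀ (l : List (List ℕ)), coxNodupB l = true → l.Nodup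
  | [], _ => List.nodup_nil
  | a :: l, h => by
    rw [coxNodupB, Bool.and_eq_true] at h
    rw [List.nodup_cons]
    refine ⟨?_, coxNodupB_sound l h.2⟩
    have h1 := h.1
    simpa using h1

/-- The remaining checks for one level. -/
def coxRestOK (f : Fin n → Fin N → Fin N) (k : ℕ)
    (X : List (List (Fin n))) (As : List (List (Fin N))) (I : List (List ℕ)) : Bool :=
  X.contains [] && (X.all (fun x => x.all (fun j => decide (j.val < k + 1))) &&
    ((List.finRange n).all (fun j => decide (k ≤ j.val) || As.all (fun A => (A.map (f j)).isPerm A)) &&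
      ((X.map (fun x => coxInv As (coxAct f x)) == I) && coxNodupB I)))

/-- The data of a verified level, as propositions. -/
structure CoxLevel (M : CoxeterMatrix (Fin n)) (f : Fin n → Fin N → Fin N) (k : ℕ)
    (X : List (List (Fin n))) (As : List (List (Fin N))) : Prop where
  rows : ∀ x ∈ X, ∀ b : Fin n, b.val < k + 1 →
        ∃ x' ∈ X, ∃ t : List (Fin n), (∀ j ∈ t, j.val < k) ∧
          M.toCoxeterSystem.wordProd (b :: x) = M.toCoxeterSystem.wordProd (x' ++ t)
  nil : [] ∈ X
  letters : ∀ x ∈ X, ∀ j ∈ x, j.val < k + 1
  perm : ∀ j : Fin n, j.val < k → ∀ A ∈ As, (A.map (f j)).Perm A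
  nodup : (X.map (fun x => coxInv As (coxAct f x))).Nodup

theorem coxLevel_of_OK (k : ℕ) (X : List (List (Fin n)))
    (As : List (List (Fin N))) (I : List (List ℕ))
    (hrows : ∀ x ∈ X, CoxRowProp M k X x)
    (h : coxRestOK f k X As I = true) : CoxLevel M f k X As := by
  unfold coxRestOK at h
  simp only [Bool.and_eq_true] at h
  obtain ⟨h2, h3, h4, h5, h6⟩ := h
  refine ⟨hrows, by simpa using h2, ?_, ?_, ?_⟩
  · intro x hx j hj
    rw [List.all_eq_true] at h3
    have := h3 x hx
    rw [List.all_eq_true] at this
    simpa using this j hj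
  · intro j hj A hA
    rw [List.all_eq_true] at h4
    have := h4 j (List.mem_finRange j)
    rw [Bool.or_eq_true] at this
    rcases this with this | this
    · simp only [decide_eq_true_eq] at this
      omega
    · rw [List.all_eq_true] at this
      exact List.isPerm_iff.mp (this A hA)
  · have h7 : X.map (fun x => coxInv As (coxAct f x)) = I := by simpa using h5
    rw [h7]
    exact coxNodupB_sound I h6

variable {f}

theorem CoxLevel.decomp {k : ℕ} {X : List (List (Fin n))} {As : List (List (Fin N))}
    (L : CoxLevel M f k X As) (w : M.Group) (hw : w ∈ coxPar M (k + 1)) :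
    ∃ x ∈ X, ∃ u ∈ coxPar M k, w = M.toCoxeterSystem.wordProd x * u := by
  unfold coxPar at hw
  induction hw using Subgroup.closure_induction_left with
  | one => exact ⟨[], L.nil, 1, one_mem _, by rw [wordProd_nil, one_mul]⟩
  | mul_left s hs y _ ih =>
    obtain ⟨b, hb, rfl⟩ := hs
    obtain ⟨x, hx, u, hu, rfl⟩ := ih
    obtain ⟨x', hx', t, ht, heq⟩ := L.rows x hx b hb
    refine ⟨x', hx', M.toCoxeterSystem.wordProd t * u, mul_mem (coxPar_wordProd M t ht) hu, ?_⟩
    have h1 : M.simple b * M.toCoxeterSystem.wordProd x =
        M.toCoxeterSystem.wordProd x' * M.toCoxeterSystem.wordProd t := by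
      rw [← wordProd_append, ← heq, wordProd_cons, CoxeterMatrix.toCoxeterSystem_simple]
    rw [← mul_assoc, h1, mul_assoc]
  | inv_mul_cancel s hs y _ ih =>
    obtain ⟨b, hb, rfl⟩ := hs
    obtain ⟨x, hx, u, hu, rfl⟩ := ih
    obtain ⟨x', hx', t, ht, heq⟩ := L.rows x hx b hb
    refine ⟨x', hx', M.toCoxeterSystem.wordProd t * u, mul_mem (coxPar_wordProd M t ht) hu, ?_⟩
    have hinv : (M.simple b)⁻¹ = M.simple b := by
      have := M.toCoxeterSystem.inv_simple b
      rwa [CoxeterMatrix.toCoxeterSystem_simple] at this
    have h1 : M.simple b * M.toCoxeterSystem.wordProd x =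
        M.toCoxeterSystem.wordProd x' * M.toCoxeterSystem.wordProd t := by
      rw [← wordProd_append, ← heq, wordProd_cons, CoxeterMatrix.toCoxeterSystem_simple]
    rw [hinv, ← mul_assoc, h1, mul_assoc]

/-- The invariant of any element of the larger parabolic is one of the listed ones. -/
theorem CoxLevel.inv_mem {k : ℕ} {X : List (List (Fin n))} {As : List (List (Fin N))}
    (L : CoxLevel M f k X As) (w : M.Group) (hw : w ∈ coxPar M (k + 1)) :
    ∃ x ∈ X, ∃ u ∈ coxPar M k, w = M.toCoxeterSystem.wordProd x * u ∧
      coxInv As (coxRho f hf w) = coxInv As (coxAct f x) := by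
  obtain ⟨x, hx, u, hu, rfl⟩ := L.decomp w hw
  refine ⟨x, hx, u, hu, rfl, ?_⟩
  rw [coxInv_mul_right f hf As _ u (coxStab_of_mem f hf As L.perm u hu), coxInv_wordProd]

/-- An element of the larger parabolic acting trivially lies in the smaller one. -/
theorem CoxLevel.faithful_step {k : ℕ} {X : List (List (Fin n))} {As : List (List (Fin N))}
    (L : CoxLevel M f k X As) (w : M.Group) (hw : w ∈ coxPar M (k + 1))
    (hρ : ∀ p, coxRho f hf w p = p) : w ∈ coxPar M k := by
  obtain ⟨x, hx, u, hu, rfl, hinv⟩ := L.inv_mem hf w hw
  have h1 : coxInv As (coxRho f hf (M.toCoxeterSystem.wordProd x * u)) = coxInv As (coxAct f []) := by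
    unfold coxInv
    apply List.map_congr_left
    intro A _
    congr 1
    apply List.map_congr_left
    intro p _
    rw [hρ p]; rfl
  rw [hinv] at h1
  have h2 : x = [] := List.inj_on_of_nodup_map L.nodup hx L.nil h1
  subst h2
  rw [wordProd_nil, one_mul]
  exact hu

/-- The index formula for one level. -/
theorem CoxLevel.card (hf : CoxeterMatrix.IsLiftable (G := Function.End (Fin N)) M f)
    {k : ℕ} {X : List (List (Fin n))} {As : List (List (Fin N))}
    (L : CoxLevel M f k X As) :
    Nat.card (coxPar M (k + 1)) = X.length * Nat.card (coxPar M k) := by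
  have hle : coxPar M k ≤ coxPar M (k + 1) := coxPar_mono M (Nat.le_succ k)
  have hXmem : ∀ i : Fin X.length, M.toCoxeterSystem.wordProd (X.get i) ∈ coxPar M (k + 1) :=
    fun i => coxPar_wordProd M _ (L.letters _ (List.get_mem X i))
  let φ : Fin X.length × coxPar M k → coxPar M (k + 1) := fun iu =>
    ⟨M.toCoxeterSystem.wordProd (X.get iu.1) * iu.2.1, mul_mem (hXmem iu.1) (hle iu.2.2)⟩
  have hφ : Function.Bijective φ := by
    constructor
    · rintro ⟨i, u⟩ ⟨i', u'⟩ h
      have h0 : M.toCoxeterSystem.wordProd (X.get i) * u.1 =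
          M.toCoxeterSystem.wordProd (X.get i') * u'.1 := congrArg Subtype.val h
      have h1 : coxInv As (coxRho f hf (M.toCoxeterSystem.wordProd (X.get i) * u.1)) =
          coxInv As (coxRho f hf (M.toCoxeterSystem.wordProd (X.get i') * u'.1)) := by rw [h0]
      rw [coxInv_mul_right f hf As _ u.1 (coxStab_of_mem f hf As L.perm u.1 u.2), coxInv_wordProd,
        coxInv_mul_right f hf As _ u'.1 (coxStab_of_mem f hf As L.perm u'.1 u'.2), coxInv_wordProd] at h1
      have h2 : X.get i = X.get i' :=
        List.inj_on_of_nodup_map L.nodup (List.get_mem X i) (List.get_mem X i') h1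
      have h3 : i = i' := (List.Nodup.of_map _ L.nodup).get_inj_iff.mp h2
      subst h3
      have h4 : u.1 = u'.1 := mul_left_cancel h0
      have h5 : u = u' := Subtype.ext h4
      rw [h5]
    · rintro ⟨w, hw⟩
      obtain ⟨x, hx, u, hu, rfl⟩ := L.decomp w hw
      obtain ⟨i, rfl⟩ := List.mem_iff_get.mp hx
      exact ⟨(i, ⟨u, hu⟩), rfl⟩
  rw [← Nat.card_congr (Equiv.ofBijective φ hφ), Nat.card_prod, Nat.card_fin]

/-- Elements of the larger parabolic never act as a map whose invariant is not listed. -/
theorem CoxLevel.not_act {k : ℕ} {X : List (List (Fin n))} {As : List (List (Fin N))}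
    (L : CoxLevel M f k X As) (ψ : Fin N → Fin N)
    (hψ : coxInv As ψ ∉ X.map (fun x => coxInv As (coxAct f x)))
    (w : M.Group) (hw : w ∈ coxPar M (k + 1)) : ¬ (∀ p, coxRho f hf w p = ψ p) := by
  intro h
  obtain ⟨x, hx, u, hu, rfl, hinv⟩ := L.inv_mem hf w hw
  apply hψ
  have h1 : coxInv As ψ = coxInv As (coxRho f hf (M.toCoxeterSystem.wordProd x * u)) := by
    unfold coxInv
    apply List.map_congr_left
    intro A _
    congr 1
    apply List.map_congr_left
    intro p _
    rw [h p]
  rw [h1, hinv]
  exact List.mem_map_of_mem hx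

theorem coxPar_card_top : Nat.card (coxPar M n) = Nat.card M.Group := by
  rw [coxPar_top, Subgroup.card_top]

theorem coxPar_card_zero : Nat.card (coxPar M 0) = 1 := by
  rw [coxPar_zero, Subgroup.card_bot]

variable (f)

/-- Faithfulness of the action from the chain. -/
theorem cox_faithful_of_steps
    (h : ∀ k < n, ∀ w ∈ coxPar M (k + 1), (∀ p, coxRho f hf w p = p) → w ∈ coxPar M k)
    (w : M.Group) (hw : ∀ p, coxRho f hf w p = p) : w = 1 := by
  have key : ∀ k, k ≤ n → w ∈ coxPar M (n - k) := by
    intro k
    induction k with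
    | zero => intro _; rw [Nat.sub_zero, coxPar_top]; exact Subgroup.mem_top w
    | succ k ih =>
      intro hk
      have h1 := ih (by omega)
      have h2 : n - k = (n - (k + 1)) + 1 := by omega
      rw [h2] at h1
      exact h (n - (k + 1)) (by omega) w h1 hw
  have h0 := key n le_rfl
  rw [Nat.sub_self, coxPar_zero] at h0
  exact Subgroup.mem_bot.mp h0

/-! ### Tables and the liftability check -/

/-- A family of maps from a table: the row of `i` is a number whose base-256 digits are the
images of the points. -/
def coxTab (N : ℕ) (T : List ℕ) (i : Fin n) (p : Fin N) : Fin N :=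
  ⟨Nat.mod (Nat.land (Nat.shiftRight (T.getD i.val 0) (Nat.mul 8 p.val)) 255) N,
    Nat.mod_lt _ p.pos⟩

/-- A map from a table (base-256 digits). -/
def coxTab1 (N : ℕ) (T : ℕ) (p : Fin N) : Fin N :=
  ⟨Nat.mod (Nat.land (Nat.shiftRight T (Nat.mul 8 p.val)) 255) N, Nat.mod_lt _ p.pos⟩

/-- Base-100 digits (each decreased by one), most significant first, with fuel. -/
def coxDigits : ℕ → ℕ → List ℕ → List ℕ
  | 0, _, acc => acc
  | fuel + 1, v, acc => if v = 0 then acc else coxDigits fuel (v / 100) ((v % 100 - 1) :: acc)

/-- Decode a list of numbers. -/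
def coxDecN (v : ℕ) : List ℕ := coxDigits 1000 v []

/-- Decode a word. -/
def coxDecW (n : ℕ) (v : ℕ) : List (Fin n) :=
  (coxDecN v).filterMap (fun a => if h : a < n then some ⟨a, h⟩ else none)

/-- A Coxeter matrix from a table: the entry `(a, b)` is the base-16 digit number `a * n + b`. -/
def coxMat (n : ℕ) (T : ℕ) (a b : Fin n) : ℕ :=
  Nat.land (Nat.shiftRight T (Nat.mul 4 (Nat.add (Nat.mul a.val n) b.val))) 15

/-- The table agrees with the Coxeter matrix. -/
def coxMatOK (M : CoxeterMatrix (Fin n)) (T : ℕ) : Bool :=
  (List.finRange n).all fun a => (List.finRange n).all fun b => coxMat n T a b == M a b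

theorem coxMat_of_OK (M : CoxeterMatrix (Fin n)) (T : ℕ) (h : coxMatOK M T = true) :
    ∀ a b, coxMat n T a b = M a b := by
  unfold coxMatOK at h
  simpa using h

/-- The Coxeter relations for a family of maps, as a check. -/
def coxLiftOK (mf : Fin n → Fin n → ℕ) (f : Fin n → Fin N → Fin N) : Bool :=
  (List.finRange n).all fun i => (List.finRange n).all fun i' => (List.finRange N).all fun p =>
    ((fun q => f i (f i' q))^[mf i i'] p == p)

theorem coxLift_of_OK (M : CoxeterMatrix (Fin n)) (mf : Fin n → Fin n → ℕ)
    (hm : ∀ a b, mf a b = M a b) (f : Fin n → Fin N → Fin N)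
    (h : coxLiftOK mf f = true) : CoxeterMatrix.IsLiftable (G := Function.End (Fin N)) M f := by
  intro i i'
  funext p
  unfold coxLiftOK at h
  rw [List.all_eq_true] at h
  have h1 := h i (List.mem_finRange i)
  rw [List.all_eq_true] at h1
  have h2 := h1 i' (List.mem_finRange i')
  rw [List.all_eq_true] at h2
  have h3 := h2 p (List.mem_finRange p)
  rw [hm] at h3
  have h4 : (fun q => f i (f i' q))^[M i i'] p = p := by simpa using h3
  exact h4

/-! ### The centre -/

theorem coxAct_comm (φ : Fin N → Fin N) (hφ : ∀ i p, φ (f i p) = f i (φ p)) (v : List (Fin n))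
    (p : Fin N) : φ (coxAct f v p) = coxAct f v (φ p) := by
  induction v with
  | nil => rfl
  | cons a v ih =>
    show φ (f a (coxAct f v p)) = f a (coxAct f v (φ p))
    rw [hφ, ih]

/-- Central elements act as the identity or as `neg`. -/
theorem cox_center_act (neg : Fin N → Fin N) (a0 : Fin N) (i0 : Fin n) (V : List (List (Fin n)))
    (hneg : ∀ i p, f i (neg p) = neg (f i p))
    (ha : f i0 a0 = neg a0)
    (hchar : ∀ p, f i0 p = neg p → p = a0 ∨ p = neg a0)
    (hgen : ∀ r : Fin N, coxAct f (V.getD r.val []) a0 = r)
    (w : M.Group) (hw : w ∈ Subgroup.center M.Group) :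
    (∀ p, coxRho f hf w p = p) ∨ (∀ p, coxRho f hf w p = neg p) := by
  have hcomm : ∀ i p, coxRho f hf w (f i p) = f i (coxRho f hf w p) := by
    intro i p
    rw [← coxRho_simple f hf i, ← coxRho_mul, ← coxRho_simple f hf i (coxRho f hf w p),
      ← coxRho_mul, Subgroup.mem_center_iff.mp hw]
  have hwneg : ∀ p, coxRho f hf w (neg p) = neg (coxRho f hf w p) := by
    obtain ⟨v, rfl⟩ := M.toCoxeterSystem.wordProd_surjective w
    intro p
    rw [coxRho_wordProd, coxRho_wordProd]
    exact (coxAct_comm f neg (fun i p => (hneg i p).symm) v p).symm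
  have h0 : coxRho f hf w a0 = a0 ∨ coxRho f hf w a0 = neg a0 := by
    apply hchar
    rw [← hcomm, ha, hwneg]
  rcases h0 with h0 | h0
  · left
    intro r
    conv_lhs => rw [← hgen r]
    rw [coxAct_comm f _ hcomm, h0, hgen]
  · right
    intro r
    conv_lhs => rw [← hgen r]
    rw [coxAct_comm f _ hcomm, h0, ← coxAct_comm f neg (fun i p => (hneg i p).symm), hgen]

theorem coxRho_injective (hfaith : ∀ w : M.Group, (∀ p, coxRho f hf w p = p) → w = 1)
    (a b : M.Group) (h : ∀ p, coxRho f hf a p = coxRho f hf b p) : a = b := by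
  have h1 : a * b⁻¹ = 1 := by
    apply hfaith
    intro p
    rw [coxRho_mul, h, ← coxRho_mul, mul_inv_cancel, coxRho_one]
  exact mul_inv_eq_one.mp h1

theorem cox_pow_wordProd (m : ℕ) :
    M.toCoxeterSystem.wordProd (List.replicate m (List.finRange n)).flatten =
      ((List.finRange n).map M.simple).prod ^ m := by
  simp [wordProd, List.map_flatten, List.prod_flatten, List.map_replicate, List.prod_replicate]

/-- The centre when a power of the Coxeter element acts as `neg`. -/
theorem cox_center_of_neg (neg : Fin N → Fin N) (a0 : Fin N)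
    (hfaith : ∀ w : M.Group, (∀ p, coxRho f hf w p = p) → w = 1)
    (hcent : ∀ w ∈ Subgroup.center M.Group,
      (∀ p, coxRho f hf w p = p) ∨ (∀ p, coxRho f hf w p = neg p))
    (hneg : ∀ i p, f i (neg p) = neg (f i p))
    (hne : neg a0 ≠ a0) (m : ℕ)
    (hz : ∀ p, coxAct f (List.replicate m (List.finRange n)).flatten p = neg p) :
    Nat.card (Subgroup.center M.Group) = 2 ∧
      Subgroup.center M.Group ≤ Subgroup.zpowers ((List.finRange n).map M.simple).prod := by
  set c := ((List.finRange n).map M.simple).prod with hc
  have hzρ : ∀ p, coxRho f hf (c ^ m) p = neg p := by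
    intro p
    rw [hc, ← cox_pow_wordProd, coxRho_wordProd, hz]
  have hzc : c ^ m ∈ Subgroup.center M.Group := by
    rw [Subgroup.mem_center_iff]
    intro g
    induction g using M.toCoxeterSystem.simple_induction with
    | simple i =>
      apply coxRho_injective f hf hfaith
      intro p
      rw [coxRho_mul, coxRho_mul, hzρ, hzρ, coxRho_simple, coxRho_simple, hneg]
    | one => rw [one_mul, mul_one]
    | mul w w' hw hw' => rw [mul_assoc, hw', ← mul_assoc, hw, mul_assoc]
  have hz1 : c ^ m ≠ 1 := by
    intro h
    apply hne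
    rw [← hzρ a0, h, coxRho_one]
  have hall : ∀ w ∈ Subgroup.center M.Group, w = 1 ∨ w = c ^ m := by
    intro w hw
    rcases hcent w hw with h | h
    · left; exact hfaith w h
    · right
      apply coxRho_injective f hf hfaith
      intro p
      rw [h, hzρ]
  constructor
  · rw [Nat.card_eq_two_iff]
    refine ⟨⟨1, one_mem _⟩, ⟨c ^ m, hzc⟩, ?_, ?_⟩
    · intro h
      exact hz1 (congrArg Subtype.val h).symm
    · ext ⟨w, hw⟩
      simp only [Set.mem_insert_iff, Set.mem_singleton_iff, Set.mem_univ, iff_true]
      rcases hall w hw with h | h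
      · left; exact Subtype.ext h
      · right; exact Subtype.ext h
  · intro w hw
    rcases hall w hw with h | h
    · rw [h]; exact one_mem _
    · rw [h]; exact Subgroup.pow_mem _ (Subgroup.mem_zpowers c) m

/-- The centre when no element acts as `neg`. -/
theorem cox_center_trivial (neg : Fin N → Fin N)
    (hfaith : ∀ w : M.Group, (∀ p, coxRho f hf w p = p) → w = 1)
    (hcent : ∀ w ∈ Subgroup.center M.Group,
      (∀ p, coxRho f hf w p = p) ∨ (∀ p, coxRho f hf w p = neg p))
    (hno : ∀ w : M.Group, ¬ (∀ p, coxRho f hf w p = neg p)) :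
    Nat.card (Subgroup.center M.Group) = 1 ∧
      Subgroup.center M.Group ≤ Subgroup.zpowers ((List.finRange n).map M.simple).prod := by
  have hbot : Subgroup.center M.Group = ⊥ := by
    rw [Subgroup.eq_bot_iff_forall]
    intro w hw
    rcases hcent w hw with h | h
    · exact hfaith w h
    · exact absurd h (hno w)
  rw [hbot]
  exact ⟨Subgroup.card_bot, bot_le⟩

/-- Checks for the centre data. -/
def coxCenterOK (f : Fin n → Fin N → Fin N) (neg : Fin N → Fin N) (a0 : Fin N) (i0 : Fin n)
    (V : List (List (Fin n))) : Bool :=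
  ((List.finRange n).all fun i => (List.finRange N).all fun p => f i (neg p) == neg (f i p)) &&
  ((f i0 a0 == neg a0) &&
  (((List.finRange N).all fun p => !(f i0 p == neg p) || (p == a0 || p == neg a0)) &&
  (((List.finRange N).all fun r => coxAct f (V.getD r.val []) a0 == r) &&
  !(neg a0 == a0))))

theorem coxCenterOK_sound (neg : Fin N → Fin N) (a0 : Fin N) (i0 : Fin n)
    (V : List (List (Fin n))) (h : coxCenterOK f neg a0 i0 V = true) :
    (∀ i p, f i (neg p) = neg (f i p)) ∧ f i0 a0 = neg a0 ∧
      (∀ p, f i0 p = neg p → p = a0 ∨ p = neg a0) ∧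
      (∀ r : Fin N, coxAct f (V.getD r.val []) a0 = r) ∧ neg a0 ≠ a0 := by
  unfold coxCenterOK at h
  simp only [Bool.and_eq_true, List.all_eq_true, List.mem_finRange, forall_const, beq_iff_eq,
    Bool.or_eq_true, Bool.not_eq_true', beq_eq_false_iff_ne, ne_eq] at h
  obtain ⟨h1, h2, h3, h4, h5⟩ := h
  refine ⟨h1, h2, ?_, h4, h5⟩
  intro p hp
  rcases h3 p with h | h
  · exact absurd hp h
  · exact h

/-- Check that a power of the Coxeter word acts as `neg`. -/
def coxNegOK (f : Fin n → Fin N → Fin N) (neg : Fin N → Fin N) (m : ℕ) : Bool :=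
  (List.finRange N).all fun p =>
    coxAct f (List.replicate m (List.finRange n)).flatten p == neg p

theorem coxNegOK_sound (neg : Fin N → Fin N) (m : ℕ) (h : coxNegOK f neg m = true) :
    ∀ p, coxAct f (List.replicate m (List.finRange n)).flatten p = neg p := by
  unfold coxNegOK at h
  simpa using h

end CoxChain

end Cfsg.Agent.H46
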