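import Mathlib
import Cfsg.Agent.H46.CoxChain

/-!
Helper (helper46): order, faithful action and centre of the Coxeter group of type G2
(generated certificates, checked by kernel evaluation).
-/

namespace Cfsg.Agent.H46

def cxG2_T : List ℕ := [
  4419555098625,
  5510510215680]

def cxG2_negT : ℕ := 4328719365

def cxG2_f : Fin 2 → Fin 6 → Fin 6 := coxTab 6 cxG2_T

def cxG2_neg : Fin 6 → Fin 6 := coxTab1 6 cxG2_negT

def cxG2_MT : ℕ := 5729

def cxG2_mf : Fin 2 → Fin 2 → ℕ := coxMat 2 cxG2_MT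

theorem cxG2_hm : ∀ a b, cxG2_mf a b = CoxeterMatrix.G₂ a b :=
  coxMat_of_OK _ _ (by decide +kernel)

theorem cxG2_lift : CoxeterMatrix.IsLiftable (G := Function.End (Fin 6)) CoxeterMatrix.G₂ cxG2_f :=
  coxLift_of_OK _ cxG2_mf cxG2_hm _ (by decide +kernel)

def cxG2_X0 : List (List (Fin 2)) := [
  [],
  [0]]

def cxG2_R0_0 : List (List CoxEntry) := [
  [(0, 1, 0)],
  [(3, 0, 0)]]

theorem cxG2_rc0_0 : coxRowsFrom cxG2_mf 0 cxG2_X0 0 40 cxG2_R0_0 = true := by decide +kernel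

theorem cxG2_rows0 : ∀ x ∈ cxG2_X0, CoxRowProp CoxeterMatrix.G₂ 0 cxG2_X0 x := by
  intro x hx
  obtain ⟨i, hi, rfl⟩ := List.mem_iff_getElem.mp hx
  have hlen : cxG2_X0.length = 2 := by decide +kernel
  have hi' : i < 2 := lt_of_lt_of_eq hi hlen
  exact coxRowsFrom_sound cxG2_mf cxG2_hm 0 cxG2_X0 0 40 cxG2_R0_0 cxG2_rc0_0 i (by omega) (by omega) hi

def cxG2_I0 : List (List ℕ) := [
  [1000003],
  [8007943]]

def cxG2_A0 : List (List (Fin 6)) := [[0]]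

theorem cxG2_L0 : CoxLevel CoxeterMatrix.G₂ cxG2_f 0 cxG2_X0 cxG2_A0 :=
  coxLevel_of_OK cxG2_f 0 cxG2_X0 cxG2_A0 cxG2_I0 cxG2_rows0 (by decide +kernel)

def cxG2_X1 : List (List (Fin 2)) := [
  [],
  [1],
  [0, 1],
  [1, 0, 1],
  [0, 1, 0, 1],
  [1, 0, 1, 0, 1]]

def cxG2_R1_0 : List (List CoxEntry) := [
  [(0, 0, 1), (0, 1, 0)],
  [(0, 2, 0), (3, 0, 0)],
  [(3, 1, 0), (0, 3, 0)],
  [(0, 4, 0), (3, 2, 0)],
  [(3, 3, 0), (0, 5, 0)],
  [(3, 5, 1), (3, 4, 0)]]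

theorem cxG2_rc1_0 : coxRowsFrom cxG2_mf 1 cxG2_X1 0 40 cxG2_R1_0 = true := by decide +kernel

theorem cxG2_rows1 : ∀ x ∈ cxG2_X1, CoxRowProp CoxeterMatrix.G₂ 1 cxG2_X1 x := by
  intro x hx
  obtain ⟨i, hi, rfl⟩ := List.mem_iff_getElem.mp hx
  have hlen : cxG2_X1.length = 6 := by decide +kernel
  have hi' : i < 6 := lt_of_lt_of_eq hi hlen
  exact coxRowsFrom_sound cxG2_mf cxG2_hm 1 cxG2_X1 0 40 cxG2_R1_0 cxG2_rc1_0 i (by omega) (by omega) hi

def cxG2_I1 : List (List ℕ) := [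
  [9007946],
  [28015922],
  [72031892],
  [152047970],
  [280064192],
  [341072294]]

def cxG2_A1 : List (List (Fin 6)) := [[0, 1]]

theorem cxG2_L1 : CoxLevel CoxeterMatrix.G₂ cxG2_f 1 cxG2_X1 cxG2_A1 :=
  coxLevel_of_OK cxG2_f 1 cxG2_X1 cxG2_A1 cxG2_I1 cxG2_rows1 (by decide +kernel)

theorem cxG2_card : Nat.card CoxeterMatrix.G₂.Group = 12 := by
  have h0 : Nat.card (coxPar CoxeterMatrix.G₂ 1) = cxG2_X0.length * Nat.card (coxPar CoxeterMatrix.G₂ 0) :=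
    cxG2_L0.card cxG2_lift
  have h1 : Nat.card (coxPar CoxeterMatrix.G₂ 2) = cxG2_X1.length * Nat.card (coxPar CoxeterMatrix.G₂ 1) :=
    cxG2_L1.card cxG2_lift
  have hl : cxG2_X1.length * (cxG2_X0.length * 1) = 12 := by decide +kernel
  rw [← coxPar_card_top (M := CoxeterMatrix.G₂), h1, h0, coxPar_card_zero]
  exact hl

theorem cxG2_faithful (w : CoxeterMatrix.G₂.Group) (hw : ∀ p, coxRho cxG2_f cxG2_lift w p = p) : w = 1 := by
  refine cox_faithful_of_steps cxG2_f cxG2_lift ?_ w hw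
  intro k hk w hw hρ
  interval_cases k
  · exact cxG2_L0.faithful_step cxG2_lift w hw hρ
  · exact cxG2_L1.faithful_step cxG2_lift w hw hρ

def cxG2_V : List (List (Fin 2)) := List.map (coxDecW 2) [
  10201,
  201,
  1,
  0,
  2,
  102]

theorem cxG2_cok : coxCenterOK cxG2_f cxG2_neg 3 0 cxG2_V = true := by decide +kernel

theorem cxG2_nok : coxNegOK cxG2_f cxG2_neg 3 = true := by decide +kernel

theorem cxG2_center : Nat.card (Subgroup.center CoxeterMatrix.G₂.Group) = 2 ∧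
    Subgroup.center CoxeterMatrix.G₂.Group ≤ Subgroup.zpowers ((List.finRange 2).map CoxeterMatrix.G₂.simple).prod := by
  obtain ⟨h1, h2, h3, h4, h5⟩ := coxCenterOK_sound cxG2_f cxG2_neg _ _ _ cxG2_cok
  exact cox_center_of_neg cxG2_f cxG2_lift cxG2_neg _ cxG2_faithful
    (cox_center_act cxG2_f cxG2_lift cxG2_neg _ _ _ h1 h2 h3 h4) h1 h5 3
    (coxNegOK_sound cxG2_f cxG2_neg 3 cxG2_nok)

end Cfsg.Agent.H46
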