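import Mathlib

set_option autoImplicit false

/-!
# Central extensions and root elements of type B2 over the fields with three and four elements: statements

The root system of type B2 has the roots `0, …, 7`; the negative of `r` is `7 - r`; the long roots are
`0, 3, 4, 7`, the short roots `1, 2, 5, 6`.  `terms r s` is the list of the terms `(q, C, i, j)` of the commutator
formula of the pair `(r, s)`: the commutator `x_s(u)⁻¹ x_r(t)⁻¹ x_s(u) x_r(t)` is the product of the elements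
`x_q(C (-t)^i u^j)`.

`Stmt3` and `Stmt4` say: given a family of elements `x q t` of a group `G` with these relations, a homomorphism
`ρ : E → G` with central kernel through which the `x q t` and the given torus elements lift, there are lifts
`Y q t` of the `x q t` satisfying the same relations in `E`.
-/

namespace Cfsg.Agent.H46.B2

universe u v w

/-- The commutator table of type B2. -/
def tbl : List (List (List (ℕ × ℤ × ℕ × ℕ))) :=
  [[[], [], [], [], [], [(1, 1, 1, 1), (3, -1, 1, 2)], [(2, -1, 1, 1), (4, 1, 1, 2)], []],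
   [[], [], [(0, 2, 1, 1)], [], [(2, 1, 1, 1), (0, 1, 2, 1)], [(3, -2, 1, 1)], [], [(5, -1, 1, 1), (3, 1, 2, 1)]],
   [[], [(0, -2, 1, 1)], [], [(1, 1, 1, 1), (0, -1, 2, 1)], [], [], [(4, -2, 1, 1)], [(6, 1, 1, 1), (4, -1, 2, 1)]],
   [[], [], [(1, -1, 1, 1), (0, -1, 1, 2)], [], [], [], [(5, 1, 1, 1), (7, 1, 1, 2)], []],
   [[], [(2, -1, 1, 1), (0, 1, 1, 2)], [], [], [], [(6, 1, 1, 1), (7, -1, 1, 2)], [], []],
   [[(1, -1, 1, 1), (3, -1, 2, 1)], [(3, 2, 1, 1)], [], [], [(6, -1, 1, 1), (7, -1, 2, 1)], [], [(7, 2, 1, 1)], []],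
   [[(2, 1, 1, 1), (4, 1, 2, 1)], [], [(4, 2, 1, 1)], [(5, -1, 1, 1), (7, 1, 2, 1)], [], [(7, -2, 1, 1)], [], []],
   [[], [(5, 1, 1, 1), (3, 1, 1, 2)], [(6, -1, 1, 1), (4, -1, 1, 2)], [], [], [], [], []]]

/-- The terms of the commutator formula of the pair `(r, s)`. -/
def terms (r s : ℕ) : List (ℕ × ℤ × ℕ × ℕ) := (tbl.getD r []).getD s []

/-- The right-hand side of the commutator relation of the pair `(r, s)`. -/
def word {K : Type u} [Field K] {Γ : Type v} [Group Γ] (x : ℕ → K → Γ) (r s : ℕ) (t u : K) : Γ :=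
  ((terms r s).map fun c => x c.1 ((c.2.1 : K) * (-t) ^ c.2.2.1 * u ^ c.2.2.2)).prod

/-- The relations (R1), (R2) of type B2 for a family of elements of a group. -/
structure Rel {K : Type u} [Field K] {Γ : Type v} [Group Γ] (x : ℕ → K → Γ) : Prop where
  add : ∀ r < 8, ∀ t u : K, x r t * x r u = x r (t + u)
  comm : ∀ r < 8, ∀ s < 8, s ≠ r → s ≠ 7 - r → ∀ t u : K,
    (x s u)⁻¹ * (x r t)⁻¹ * x s u * x r t = word x r s t u

/-- The exponents of the torus element `h_5(v)` (fundamental short root) on the root elements. -/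
def z5 : List ℤ := [-2, 0, -2, 2, -2, 2, 0, 2]

/-- The exponents of the torus element `h_4(v)` (fundamental long root) on the root elements. -/
def z4 : List ℤ := [0, -1, 1, -2, 2, -1, 1, 0]

/-- Lifting the relations of type B2 through a central extension, over the field with three elements.
`h` is the torus element `h_4(-1)`: it inverts the short root elements and centralizes the long root elements. -/
def Stmt3 : Prop :=
  ∀ (K : Type u) [Field K] (G : Type v) [Group G] (E : Type w) [Group E]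
    (_ : ∀ t : K, t = 0 ∨ t = 1 ∨ t = -1) (_ : (2 : K) ≠ 0)
    (ρ : E →* G) (_ : ρ.ker ≤ Subgroup.center E)
    (x : ℕ → K → G) (_ : Rel x) (_ : ∀ q < 8, ∀ t : K, ∃ e : E, ρ e = x q t)
    (h : G) (_ : ∃ e : E, ρ e = h) (_ : h * h = 1)
    (_ : ∀ q ∈ [1, 2, 5, 6], ∀ t : K, h * x q t * h⁻¹ = x q (-t))
    (_ : ∀ q ∈ [0, 3, 4, 7], ∀ t : K, h * x q t * h⁻¹ = x q t),
    ∃ Y : ℕ → K → E, (∀ q < 8, ∀ t : K, ρ (Y q t) = x q t) ∧ Rel Y

/-- Lifting the relations of type B2 through a central extension, over the field with four elements.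
`h5`, `h4` are the torus elements `h_5(ω)`, `h_4(ω)`. -/
def Stmt4 : Prop :=
  ∀ (K : Type u) [Field K] (G : Type v) [Group G] (E : Type w) [Group E]
    (ω : K) (_ : ω ^ 2 + ω + 1 = 0) (_ : (2 : K) = 0) (_ : ∀ t : K, t = 0 ∨ t = 1 ∨ t = ω ∨ t = ω + 1)
    (ρ : E →* G) (_ : ρ.ker ≤ Subgroup.center E)
    (x : ℕ → K → G) (_ : Rel x) (_ : ∀ q < 8, ∀ t : K, ∃ e : E, ρ e = x q t)
    (h5 h4 : G) (_ : ∃ e : E, ρ e = h5) (_ : ∃ e : E, ρ e = h4) (_ : h5 * h4 = h4 * h5)
    (_ : ∀ q < 8, ∀ t : K, h5 * x q t * h5⁻¹ = x q (ω ^ (z5.getD q 0) * t))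
    (_ : ∀ q < 8, ∀ t : K, h4 * x q t * h4⁻¹ = x q (ω ^ (z4.getD q 0) * t)),
    ∃ Y : ℕ → K → E, (∀ q < 8, ∀ t : K, ρ (Y q t) = x q t) ∧ Rel Y

end Cfsg.Agent.H46.B2
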