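import Mathlib

/-!
Helper lemmas (helper46): element orders in alternating groups via cycle types.
-/

namespace Cfsg.Agent.H46

open Equiv Perm

/-- An element of the alternating group with a prescribed (even) cycle type exists. -/
theorem exists_alt_of_cycleType {n : ℕ} (m : Multiset ℕ) (hsum : m.sum ≤ n) (h2 : ∀ a ∈ m, 2 ≤ a)
    (hpar : Even (m.sum + m.card)) :
    ∃ g : alternatingGroup (Fin n), orderOf g = m.lcm := by
  obtain ⟨g, hg⟩ := (Equiv.Perm.exists_with_cycleType_iff (α := Fin n)).mpr ⟨by simpa using hsum, h2⟩
  refine ⟨⟨g, ?_⟩, ?_⟩
  · rw [Equiv.Perm.mem_alternatingGroup, Equiv.Perm.sign_of_cycleType, hg]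
    exact Even.neg_one_pow hpar
  · rw [Subgroup.orderOf_mk, ← Equiv.Perm.lcm_cycleType, hg]

/-- The cycle type of an element of the alternating group. -/
theorem alt_cycleType_props {n : ℕ} (g : alternatingGroup (Fin n)) :
    ∃ m : Multiset ℕ, m.sum ≤ n ∧ (∀ a ∈ m, 2 ≤ a) ∧ Even (m.sum + m.card) ∧ orderOf g = m.lcm := by
  refine ⟨(g : Perm (Fin n)).cycleType, ?_, ?_, ?_, ?_⟩
  · rw [Equiv.Perm.sum_cycleType]
    simpa using (g : Perm (Fin n)).support.card_le_univ
  · intro a ha
    exact Equiv.Perm.two_le_of_mem_cycleType ha
  · have h := g.2
    rw [Equiv.Perm.mem_alternatingGroup, Equiv.Perm.sign_of_cycleType] at h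
    by_contra hodd
    rw [Nat.not_even_iff_odd] at hodd
    rw [Odd.neg_one_pow hodd] at h
    exact absurd h (by decide)
  · rw [Equiv.Perm.lcm_cycleType, Subgroup.orderOf_coe]

/-- A prime dividing the lcm of a multiset of naturals divides one of its members. -/
theorem prime_dvd_multiset_lcm {p : ℕ} (hp : p.Prime) (m : Multiset ℕ) (h : p ∣ m.lcm) :
    ∃ a ∈ m, p ∣ a := by
  induction m using Multiset.induction_on with
  | empty =>
    simp only [Multiset.lcm_zero, Nat.dvd_one] at h
    exact absurd h hp.one_lt.ne'
  | cons a s ih =>
    rw [Multiset.lcm_cons] at h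
    have h' : p ∣ Nat.lcm a s.lcm := h
    rcases (Nat.Prime.dvd_lcm hp).mp h' with h1 | h1
    · exact ⟨a, Multiset.mem_cons_self a s, h1⟩
    · obtain ⟨b, hb, hpb⟩ := ih h1
      exact ⟨b, Multiset.mem_cons_of_mem hb, hpb⟩

/-- Sums of multisets of naturals are monotone. -/
theorem multiset_sum_le_of_le {s t : Multiset ℕ} (h : s ≤ t) : s.sum ≤ t.sum := by
  have h1 : s + (t - s) = t := add_tsub_cancel_of_le h
  rw [← h1, Multiset.sum_add]
  exact Nat.le_add_right _ _

/-- Parity of `sum + card` is the parity of the number of even members. -/
theorem even_sum_add_card_iff (m : Multiset ℕ) :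
    Even (m.sum + m.card) ↔ Even (m.filter (fun a => Even a)).card := by
  induction m using Multiset.induction_on with
  | empty => simp
  | cons a s ih =>
    by_cases ha : Even a
    · rw [Multiset.filter_cons_of_pos _ ha, Multiset.sum_cons, Multiset.card_cons, Multiset.card_cons]
      have e : a + s.sum + (s.card + 1) = (s.sum + s.card) + (a + 1) := by ring
      rw [e, Nat.even_add, Nat.even_add_one (n := (Multiset.filter (fun a => Even a) s).card), ih]
      have h1 : ¬ Even (a + 1) := by
        rw [Nat.even_add_one]; exact fun h => h ha
      tauto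
    · rw [Multiset.filter_cons_of_neg _ ha, Multiset.sum_cons, Multiset.card_cons]
      have e : a + s.sum + (s.card + 1) = (s.sum + s.card) + (a + 1) := by ring
      rw [e, Nat.even_add, ih]
      have h1 : Even (a + 1) := by
        rw [Nat.even_add_one]; exact ha
      tauto

/-- Checker: for every multiset with parts in `[2,k]` and sum at most `s`, whose parity of
`sum + card` matches `par`, the lcm of `L` with the lcm of the multiset lies in `S`. -/
def chkOrders (S : List ℕ) : ℕ → ℕ → ℕ → ℕ → Bool → Bool
  | 0, _, _, _, _ => false
  | fuel + 1, s, k, L, par =>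
    if k < 2 then (!par || decide (L ∈ S))
    else chkOrders S fuel s (k - 1) L par &&
      (if k ≤ s then chkOrders S fuel (s - k) k (Nat.lcm L k) (xor par (k % 2 == 0)) else true)

theorem chkOrders_sound (S : List ℕ) : ∀ (fuel s k L : ℕ) (par : Bool),
    chkOrders S fuel s k L par = true → ∀ m : Multiset ℕ, (∀ a ∈ m, 2 ≤ a ∧ a ≤ k) → m.sum ≤ s →
      (Even (m.sum + m.card) ↔ par = true) → Nat.lcm L m.lcm ∈ S := by
  intro fuel
  induction fuel with
  | zero => intro s k L par h; simp [chkOrders] at h
  | succ fuel ih =>
    intro s k L par h m hm hs hpar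
    rw [chkOrders] at h
    by_cases hk : k < 2
    · rw [if_pos hk] at h
      have hm0 : m = 0 := by
        apply Multiset.eq_zero_of_forall_notMem
        intro a ha
        have := hm a ha
        omega
      subst hm0
      simp only [Multiset.sum_zero, Multiset.card_zero, add_zero, Even.zero, true_iff] at hpar
      subst hpar
      simp only [Bool.not_true, Bool.false_or, decide_eq_true_eq] at h
      simpa using h
    · rw [if_neg hk, Bool.and_eq_true] at h
      obtain ⟨h1, h2⟩ := h
      by_cases hkm : k ∈ m
      · have hm' : m = k ::ₘ m.erase k := (Multiset.cons_erase hkm).symm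
        have hsum : m.sum = k + (m.erase k).sum := by
          conv_lhs => rw [hm']
          rw [Multiset.sum_cons]
        have hcard : m.card = (m.erase k).card + 1 := by
          conv_lhs => rw [hm']
          rw [Multiset.card_cons]
        have hks : k ≤ s := by omega
        rw [if_pos hks] at h2
        have key := ih (s - k) k (Nat.lcm L k) (xor par (k % 2 == 0)) h2 (m.erase k)
          (fun a ha => hm a (Multiset.mem_of_mem_erase ha)) (by omega)
          (by
            rw [hsum, hcard] at hpar
            have e : k + (m.erase k).sum + ((m.erase k).card + 1) =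
                ((m.erase k).sum + (m.erase k).card) + (k + 1) := by ring
            rw [e, Nat.even_add] at hpar
            by_cases hke : Even k
            · have h1 : ¬ Even (k + 1) := by rw [Nat.even_add_one]; exact fun h => h hke
              have h2 : (k % 2 == 0) = true := by
                rw [beq_iff_eq]; exact Nat.even_iff.mp hke
              rw [h2]
              cases par
              · simp only [Bool.false_eq_true, iff_false, Bool.xor_true, Bool.not_false] at hpar ⊢
                tauto
              · simp only [iff_true, Bool.xor_true, Bool.not_true, Bool.false_eq_true, iff_false] at hpar ⊢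
                tauto
            · have h1 : Even (k + 1) := by rw [Nat.even_add_one]; exact hke
              have h2 : (k % 2 == 0) = false := by
                rw [beq_eq_false_iff_ne]; exact fun h => hke (Nat.even_iff.mpr h)
              rw [h2]
              cases par
              · simp only [Bool.false_eq_true, iff_false, Bool.xor_false] at hpar ⊢
                tauto
              · simp only [iff_true, Bool.xor_false] at hpar ⊢
                tauto)
        have e2 : m.lcm = Nat.lcm k (m.erase k).lcm := by
          conv_lhs => rw [hm']
          rw [Multiset.lcm_cons]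
          rfl
        rw [e2, ← Nat.lcm_assoc]
        exact key
      · exact ih s (k - 1) L par h1 m (fun a ha => by
          have := hm a ha
          have hne : a ≠ k := fun h => hkm (h ▸ ha)
          omega) hs hpar

end Cfsg.Agent.H46
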