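import Cfsg.Agent.H46.CenEmb
import Cfsg.Agent.H23.ChFE6
import Cfsg.Agent.H23.ChFE7
import Cfsg.Agent.H23.ChFE8

set_option autoImplicit false
set_option maxRecDepth 100000

/-!
# The embeddings of the root systems E6 < E7 < E8 are compatible with the chain tables
-/

namespace Cfsg.Agent.H46

open Cfsg.Lie Cfsg.Agent.H23

/-- The packed embedding of the roots of E6 into the roots of E7. -/
def rho67 : ℕ := 115405654456261975262062563519370248459153122930113167453877683025277421099657617807453909370359699450632505700151916789492471309899131733474062792756324204620920313313298950

/-- A packed left inverse of the embedding. -/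
def rhoi67 : ℕ := 2702801933469650333628355991837977321830692565569504861928353534194950270685394390495441557143306784427294653223013578637239646700065307691752265748413837547558772686153227337627470955374701270850507999662052372229313907807903027056661670415491018889852378166488887440748457011044633542656

theorem cRho67 : allFrom (chkRho chevE6.nroots chevE7.nroots (rhoF rho67) (rhoF rhoi67)) 0 chevE6.nroots = true := by
  decide +kernel

theorem cEmb67_0 : allFrom (fun r => allFrom (chkEmb chevE6.nroots (chainF chevE6.nroots chFE6) (chainF chevE7.nroots chFE7) (rhoF rho67) r) 0 chevE6.nroots) 0 72 = true := by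
  decide +kernel

theorem cEmb67 (r : ℕ) (hr : r < chevE6.nroots) : allFrom (chkEmb chevE6.nroots (chainF chevE6.nroots chFE6) (chainF chevE7.nroots chFE7) (rhoF rho67) r) 0 chevE6.nroots = true := by
  have hr' : r < 72 := hr
  exact allFrom_sound _ _ _ cEmb67_0 r (by omega) (by omega)

/-- The embedding of the roots of E6 into the roots of E7 is compatible with the chain tables. -/
theorem embTab_67 : EmbTab chevE6.nroots chevE7.nroots (chainF chevE6.nroots chFE6) (chainF chevE7.nroots chFE7) (rhoF rho67) :=
  embTab_of_chk _ _ _ _ _ (rhoF rhoi67) cRho67 cEmb67

/-- The packed embedding of the roots of E7 into the roots of E8. -/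
def rho78 : ℕ := 2430810997004866598444401240238742686892022899567541319682954425287167460260763023210395046641608905787741593400045937092517025071470630088513929100882265937055017271469174884988986077504446333275414838194854552575824525579080592657593264928194488327118387149962421491912665312065144265886464730302321677

/-- A packed left inverse of the embedding. -/
def rhoi78 : ℕ := 2286347154455366699008488483980893547399669479065246868151340634559978481351829072345412698590205141949591439384419875807348432279884818570650720213928426276434034777172736110995902547668116428008160857138447308955852089495591347708589829715220885753922707170758639033863020561740082369629848604238233951521570624834061925967421801000440659270353356401785124805905473430608989646239871986400729885975715658335673389417170170495800765396386600452458033458508221993382137576232866890275683988277208877081916021770091603441408046403814566637412024320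

theorem cRho78 : allFrom (chkRho chevE7.nroots chevE8.nroots (rhoF rho78) (rhoF rhoi78)) 0 chevE7.nroots = true := by
  decide +kernel

theorem cEmb78_0 : allFrom (fun r => allFrom (chkEmb chevE7.nroots (chainF chevE7.nroots chFE7) (chainF chevE8.nroots chFE8) (rhoF rho78) r) 0 chevE7.nroots) 0 42 = true := by
  decide +kernel

theorem cEmb78_1 : allFrom (fun r => allFrom (chkEmb chevE7.nroots (chainF chevE7.nroots chFE7) (chainF chevE8.nroots chFE8) (rhoF rho78) r) 0 chevE7.nroots) 42 42 = true := by
  decide +kernel

theorem cEmb78_2 : allFrom (fun r => allFrom (chkEmb chevE7.nroots (chainF chevE7.nroots chFE7) (chainF chevE8.nroots chFE8) (rhoF rho78) r) 0 chevE7.nroots) 84 42 = true := by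
  decide +kernel

theorem cEmb78 (r : ℕ) (hr : r < chevE7.nroots) : allFrom (chkEmb chevE7.nroots (chainF chevE7.nroots chFE7) (chainF chevE8.nroots chFE8) (rhoF rho78) r) 0 chevE7.nroots = true := by
  have hr' : r < 126 := hr
  by_cases hc0 : r < 42
  · exact allFrom_sound _ _ _ cEmb78_0 r (by omega) (by omega)
  by_cases hc1 : r < 84
  · exact allFrom_sound _ _ _ cEmb78_1 r (by omega) (by omega)
  exact allFrom_sound _ _ _ cEmb78_2 r (by omega) (by omega)

/-- The embedding of the roots of E7 into the roots of E8 is compatible with the chain tables. -/
theorem embTab_78 : EmbTab chevE7.nroots chevE8.nroots (chainF chevE7.nroots chFE7) (chainF chevE8.nroots chFE8) (rhoF rho78) :=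
  embTab_of_chk _ _ _ _ _ (rhoF rhoi78) cRho78 cEmb78

end Cfsg.Agent.H46
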