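import Cfsg.Agent.H46.CoxChain

/-!
Helper (helper46): transfer of faithfulness of a Coxeter group action along an injective
equivariant map, and the word-level consequences.
-/

namespace Cfsg.Agent.H46

open CoxeterSystem

section CoxRoot

variable {n N N' : ℕ} {M : CoxeterMatrix (Fin n)}

/-- A map from a table (base-256 digits) between two index sets. -/
def coxTabI (N' : ℕ) (q0 : Fin N') (T : ℕ) (p : Fin N) : Fin N' :=
  ⟨Nat.mod (Nat.land (Nat.shiftRight T (Nat.mul 8 p.val)) 255) N', Nat.mod_lt _ q0.pos⟩

/-- Check that the family `g` is given by the function `R` on indices. -/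
def coxReflOK (g : Fin n → Fin N' → Fin N') (R : ℕ → ℕ → ℕ) : Bool :=
  (List.finRange n).all fun i => (List.finRange N').all fun s => Nat.beq (g i s).val (R i.val s.val)

theorem coxReflOK_sound (g : Fin n → Fin N' → Fin N') (R : ℕ → ℕ → ℕ)
    (h : coxReflOK g R = true) (i : Fin n) (s : Fin N') : (g i s).val = R i.val s.val := by
  unfold coxReflOK at h
  rw [List.all_eq_true] at h
  have h1 := h i (List.mem_finRange i)
  rw [List.all_eq_true] at h1
  exact Nat.eq_of_beq_eq_true (h1 s (List.mem_finRange s))

/-- Check that `ι` intertwines the families `f` and `g` and has the left inverse `κ`. -/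
def coxIotaOK (f : Fin n → Fin N → Fin N) (g : Fin n → Fin N' → Fin N') (ι : Fin N → Fin N')
    (κ : Fin N' → Fin N) : Bool :=
  ((List.finRange n).all fun i => (List.finRange N).all fun p => g i (ι p) == ι (f i p)) &&
    ((List.finRange N).all fun p => κ (ι p) == p)

theorem coxIotaOK_sound (f : Fin n → Fin N → Fin N) (g : Fin n → Fin N' → Fin N')
    (ι : Fin N → Fin N') (κ : Fin N' → Fin N) (h : coxIotaOK f g ι κ = true) :
    (∀ i p, g i (ι p) = ι (f i p)) ∧ Function.Injective ι := by
  unfold coxIotaOK at h
  simp only [Bool.and_eq_true, List.all_eq_true, List.mem_finRange, forall_const, beq_iff_eq] at h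
  refine ⟨h.1, ?_⟩
  intro p q hpq
  rw [← h.2 p, ← h.2 q, hpq]

theorem coxAct_iota (f : Fin n → Fin N → Fin N) (g : Fin n → Fin N' → Fin N')
    (ι : Fin N → Fin N') (h : ∀ i p, g i (ι p) = ι (f i p)) (w : List (Fin n)) (p : Fin N) :
    coxAct g w (ι p) = ι (coxAct f w p) := by
  induction w with
  | nil => rfl
  | cons a w ih =>
    show g a (coxAct g w (ι p)) = ι (f a (coxAct f w p))
    rw [ih, h]

/-- Faithfulness transfers along an injective equivariant map. -/
theorem cox_faithful_of_iota (f : Fin n → Fin N → Fin N)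
    (hf : CoxeterMatrix.IsLiftable (G := Function.End (Fin N)) M f)
    (g : Fin n → Fin N' → Fin N')
    (hg : CoxeterMatrix.IsLiftable (G := Function.End (Fin N')) M g)
    (ι : Fin N → Fin N') (hι : Function.Injective ι) (h : ∀ i p, g i (ι p) = ι (f i p))
    (hfaith : ∀ w : M.Group, (∀ p, coxRho f hf w p = p) → w = 1)
    (w : M.Group) (hw : ∀ q, coxRho g hg w q = q) : w = 1 := by
  obtain ⟨ω, rfl⟩ := M.toCoxeterSystem.wordProd_surjective w
  apply hfaith
  intro p
  rw [coxRho_wordProd]
  apply hι
  rw [← coxAct_iota f g ι h, ← coxRho_wordProd g hg]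
  exact hw (ι p)

theorem cox_faithful_of_iotaOK (f : Fin n → Fin N → Fin N)
    (hf : CoxeterMatrix.IsLiftable (G := Function.End (Fin N)) M f)
    (g : Fin n → Fin N' → Fin N')
    (hg : CoxeterMatrix.IsLiftable (G := Function.End (Fin N')) M g)
    (ι : Fin N → Fin N') (κ : Fin N' → Fin N) (h : coxIotaOK f g ι κ = true)
    (hfaith : ∀ w : M.Group, (∀ p, coxRho f hf w p = p) → w = 1)
    (w : M.Group) (hw : ∀ q, coxRho g hg w q = q) : w = 1 :=
  cox_faithful_of_iota f hf g hg ι (coxIotaOK_sound f g ι κ h).2 (coxIotaOK_sound f g ι κ h).1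
    hfaith w hw

/-- Two words with the same action (for a faithful family) have the same product. -/
theorem cox_wordProd_eq_of_act (g : Fin n → Fin N' → Fin N')
    (hg : CoxeterMatrix.IsLiftable (G := Function.End (Fin N')) M g)
    (hfaith : ∀ w : M.Group, (∀ q, coxRho g hg w q = q) → w = 1) (w w' : List (Fin n))
    (h : ∀ q, coxAct g w q = coxAct g w' q) :
    M.toCoxeterSystem.wordProd w = M.toCoxeterSystem.wordProd w' :=
  coxRho_injective g hg hfaith _ _ (fun q => by rw [coxRho_wordProd, coxRho_wordProd, h])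

/-- Two words with the same product have the same action. -/
theorem cox_act_eq_of_wordProd (g : Fin n → Fin N' → Fin N')
    (hg : CoxeterMatrix.IsLiftable (G := Function.End (Fin N')) M g) (w w' : List (Fin n))
    (h : M.toCoxeterSystem.wordProd w = M.toCoxeterSystem.wordProd w') (q : Fin N') :
    coxAct g w q = coxAct g w' q := by
  rw [← coxRho_wordProd g hg, h, coxRho_wordProd]

end CoxRoot

end Cfsg.Agent.H46
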