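import Cfsg.Agent.H23.Cell3
import Cfsg.Agent.H46.CoxRoot

/-!
Helper (helper46): `N / H ≅ W` for a Chevalley datum, generic part.

On top of helper23's Bruhat machinery (`Cfsg.Agent.H23`: every element of `N` is `h * n_w`, and
`B n_w B = B n_w' B` iff the words `w`, `w'` act in the same way on the roots) and a faithful
action of the presented Coxeter group on the root indices by the maps `D.reflectRoot i`.
-/

set_option autoImplicit false

namespace Cfsg.Agent.H46

open Cfsg Cfsg.Lie Cfsg.Agent.H23 CoxeterSystem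

section FinW

variable {n : ℕ}

/-- the word with letters in `Fin n` of a word of natural numbers (letters out of range dropped) -/
def finW (n : ℕ) (w : List ℕ) : List (Fin n) :=
  w.filterMap (fun a => if h : a < n then some ⟨a, h⟩ else none)

theorem finW_nil : finW n [] = [] := rfl

theorem finW_append (w w' : List ℕ) : finW n (w ++ w') = finW n w ++ finW n w' :=
  List.filterMap_append ..

theorem finW_cons_of_lt (a : ℕ) (h : a < n) (w : List ℕ) :
    finW n (a :: w) = ⟨a, h⟩ :: finW n w := by
  simp [finW, h]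

theorem finW_map_val (ω : List (Fin n)) : finW n (ω.map Fin.val) = ω := by
  induction ω with
  | nil => rfl
  | cons a ω ih => rw [List.map_cons, finW_cons_of_lt a.val a.isLt, ih]

end FinW

variable {D : ChevalleyDatum} {F : Type*} [Field F] {z η : ℕ → ℕ → ℤ}

theorem reflW_eq_coxAct {n N' : ℕ} (hn : n = D.rank) (g : Fin n → Fin N' → Fin N')
    (hg_eq : ∀ i s, (g i s).val = D.reflectRoot i.val s.val)
    (w : List ℕ) (hw : ∀ i ∈ w, i < D.rank) (q : Fin N') :
    reflW D w q.val = (coxAct g (finW n w) q).val := by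
  induction w with
  | nil => rfl
  | cons i w ih =>
    have hi : i < n := by rw [hn]; exact hw i (List.mem_cons_self ..)
    rw [finW_cons_of_lt i hi]
    show D.reflectRoot i (reflW D w q.val) = (g ⟨i, hi⟩ (coxAct g (finW n w) q)).val
    rw [hg_eq, ih (fun j hj => hw j (List.mem_cons_of_mem _ hj))]

/-- `N / H ≅ W`: the generic statement. -/
theorem monomial_quot_of_pack (hP : PackB D F z η) {n N' : ℕ} (hn : n = D.rank)
    (hN' : N' = D.nroots) (M : CoxeterMatrix (Fin n)) (g : Fin n → Fin N' → Fin N')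
    (hg : CoxeterMatrix.IsLiftable (G := Function.End (Fin N')) M g)
    (hg_eq : ∀ i s, (g i s).val = D.reflectRoot i.val s.val)
    (hfaith : ∀ w : M.Group, (∀ q, coxRho g hg w q = q) → w = 1) :
    ∃ φ : ↥(D.monomialSubgroup F) →* M.Group, Function.Surjective φ ∧
      φ.ker = (D.diagonalSubgroup F).subgroupOf (D.monomialSubgroup F) ∧
      ∀ (i : Fin n) (x : ↥(D.monomialSubgroup F)),
        ((x : GL D.Idx F) : Matrix D.Idx D.Idx F) = D.nMat F (D.simple i) 1 →
          φ x = M.simple i := by
  classical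
  have hS := hP.sem
  have hT := hP.tab
  have hHB : D.diagonalSubgroup F ≤ D.borelSubgroup F := le_sup_right
  have hnorm := monomial_le_normalizer_diag hS hP.semN hT hP.etaNeg
  have hnil : nWU hS ([] : List ℕ) = 1 := by simp [nWU]
  let P : GL D.Idx F → List ℕ → Prop := fun x w =>
    (∀ i ∈ w, i < D.rank) ∧ ∃ h ∈ D.diagonalSubgroup F, x = h * nWU hS w
  have hex : ∀ x : ↥(D.monomialSubgroup F), ∃ w, P x.1 w := by
    intro x
    obtain ⟨h, hh, w, hw, e⟩ := exists_word_of_mem_monomial hP x.1 x.2
    exact ⟨w, hw, h, hh, e⟩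
  have hwd : ∀ (x : GL D.Idx F) (w w' : List ℕ), P x w → P x w' →
      M.toCoxeterSystem.wordProd (finW n w) = M.toCoxeterSystem.wordProd (finW n w') := by
    rintro x w w' ⟨hw, h, hh, e⟩ ⟨hw', h', hh', e'⟩
    have h1 : dcB D F (nWU hS w) = dcB D F (nWU hS w') := by
      rw [← dcB_mul_left (hHB hh) (nWU hS w), ← dcB_mul_left (hHB hh') (nWU hS w'), ← e, ← e']
    have h2 := refl_eq_of_dcB_word_eq hP w w' hw hw' h1
    apply cox_wordProd_eq_of_act g hg hfaith
    intro q
    apply Fin.ext
    rw [← reflW_eq_coxAct hn g hg_eq w hw q, ← reflW_eq_coxAct hn g hg_eq w' hw' q]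
    exact h2 q.val (by rw [← hN']; exact q.isLt)
  choose wOf hwOf using hex
  have key : ∀ (x : ↥(D.monomialSubgroup F)) (w : List ℕ), P x.1 w →
      M.toCoxeterSystem.wordProd (finW n (wOf x)) = M.toCoxeterSystem.wordProd (finW n w) :=
    fun x w h => hwd x.1 _ _ (hwOf x) h
  let φ : ↥(D.monomialSubgroup F) →* M.Group :=
    { toFun := fun x => M.toCoxeterSystem.wordProd (finW n (wOf x))
      map_one' := by
        have h1 : P (1 : ↥(D.monomialSubgroup F)).1 [] :=
          ⟨by simp, 1, Subgroup.one_mem _, by rw [hnil]; simp⟩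
        rw [key 1 [] h1, finW_nil, wordProd_nil]
      map_mul' := by
        intro x y
        obtain ⟨hw, h, hh, e⟩ := hwOf x
        obtain ⟨hw', h', hh', e'⟩ := hwOf y
        have h1 : nWU hS (wOf x) * h' * (nWU hS (wOf x))⁻¹ ∈ D.diagonalSubgroup F :=
          (Subgroup.mem_normalizer_iff.mp (hnorm (nWU_mem hS hT _ hw)) _).mp hh'
        have h2 : P (x * y).1 (wOf x ++ wOf y) := by
          refine ⟨?_, h * (nWU hS (wOf x) * h' * (nWU hS (wOf x))⁻¹),
            Subgroup.mul_mem _ hh h1, ?_⟩
          · intro i hi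
            rcases List.mem_append.mp hi with h | h
            · exact hw i h
            · exact hw' i h
          · have e3 : (x * y).1 = x.1 * y.1 := rfl
            rw [e3, nWU_append]
            conv_lhs => rw [e, e']
            group
        rw [key (x * y) _ h2, finW_append, wordProd_append] }
  have hφ : ∀ x, φ x = M.toCoxeterSystem.wordProd (finW n (wOf x)) := fun _ => rfl
  refine ⟨φ, ?_, ?_, ?_⟩
  · intro y
    obtain ⟨ω, rfl⟩ := M.toCoxeterSystem.wordProd_surjective y
    have hω : ∀ i ∈ ω.map Fin.val, i < D.rank := by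
      intro i hi
      obtain ⟨a, _, rfl⟩ := List.mem_map.mp hi
      rw [← hn]
      exact a.isLt
    refine ⟨⟨nWU hS (ω.map Fin.val), nWU_mem hS hT _ hω⟩, ?_⟩
    rw [hφ, key _ (ω.map Fin.val) ⟨hω, 1, Subgroup.one_mem _, by simp⟩, finW_map_val]
  · ext x
    rw [MonoidHom.mem_ker, Subgroup.mem_subgroupOf, hφ]
    constructor
    · intro hx
      obtain ⟨hw, h, hh, e⟩ := hwOf x
      have h1 : M.toCoxeterSystem.wordProd (finW n (wOf x)) =
          M.toCoxeterSystem.wordProd (finW n []) := by
        rw [finW_nil, wordProd_nil]; exact hx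
      have h2 : ∀ s < D.nroots, reflW D (wOf x) s = reflW D [] s := by
        intro s hs
        have hs' : s < N' := by rw [hN']; exact hs
        have h3 := cox_act_eq_of_wordProd g hg _ _ h1 ⟨s, hs'⟩
        have h4 := reflW_eq_coxAct hn g hg_eq (wOf x) hw ⟨s, hs'⟩
        have h5 := reflW_eq_coxAct hn g hg_eq [] (by simp) ⟨s, hs'⟩
        simp only at h4 h5
        rw [h4, h5, h3]
      have h6 := dcB_word_eq_of_refl_eq hP (wOf x) [] hw (by simp) h2
      have h7 : nWU hS (wOf x) ∈ D.borelSubgroup F := by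
        have h8 : nWU hS (wOf x) ∈ dcB D F (nWU hS []) := by
          rw [← h6]; exact mem_dcB_self _
        rw [hnil, dcB_one] at h8
        exact h8
      have h9 : nWU hS (wOf x) ∈ D.diagonalSubgroup F := by
        rw [← borel_inf_monomial hS]
        exact ⟨h7, nWU_mem hS hT _ hw⟩
      rw [e]
      exact Subgroup.mul_mem _ hh h9
    · intro hx
      rw [key x [] ⟨by simp, x.1, hx, by rw [hnil]; simp⟩, finW_nil, wordProd_nil]
  · intro i x hx
    have hi : i.val < D.rank := by rw [← hn]; exact i.isLt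
    have hx' : x.1 = nWU hS [i.val] := by
      apply Units.ext
      rw [hx]
      simp [nWU]
    have h1 : P x.1 [i.val] :=
      ⟨by simpa using hi, 1, Subgroup.one_mem _, by rw [hx']; simp⟩
    rw [hφ, key x [i.val] h1, finW_cons_of_lt i.val i.isLt, finW_nil, wordProd_singleton]
    rfl

end Cfsg.Agent.H46
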