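import Cfsg.Agent.H23.Weyl

set_option autoImplicit false

/-!
# Faster evaluation of the chain table

The entries of the chain table read through lists, with boolean tests; equal to the ones of the definitions.
-/

namespace Cfsg.Agent.H46

open Cfsg.Lie Cfsg.Agent.H23

theorem array_getD_toList {α : Type*} (a : Array α) (i : ℕ) (d : α) : a.getD i d = a.toList.getD i d := by
  simp only [Array.getD, List.getD]
  split_ifs with h
  · rw [Array.getElem?_toList, Array.getElem?_eq_getElem h, Option.getD_some]
    rfl
  · rw [Array.getElem?_toList, Array.getElem?_eq_none (by omega), Option.getD_none]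

/-- The entry of the chain table for `(r, s)`, read through lists. -/
def chainEntryL (D : ChevalleyDatum) (r s : ℕ) : List (ℕ × ℤ) :=
  match (D.chain.toList.getD r #[]).toList.find? (fun e => Nat.beq e.1 s) with
  | none => []
  | some e => e.2.toList

theorem chainEntryL_eq (D : ChevalleyDatum) (r s : ℕ) : chainEntryL D r s = D.chainEntry r s := by
  unfold chainEntryL ChevalleyDatum.chainEntry
  rw [array_getD_toList]
  have h : (fun e : ℕ × Array (ℕ × ℤ) => Nat.beq e.1 s) = (fun e => decide (e.1 = s)) := by
    funext e
    cases hb : Nat.beq e.1 s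
    · exact (decide_eq_false (Nat.ne_of_beq_eq_false hb)).symm
    · exact (decide_eq_true (Nat.eq_of_beq_eq_true hb)).symm
  rw [h]
  rfl

/-- `chainRoot` through lists. -/
def chainRootL (D : ChevalleyDatum) (r s i : ℕ) : Option ℕ := ((chainEntryL D r s)[i - 1]?).map Prod.fst

/-- `chainM` through lists. -/
def chainML (D : ChevalleyDatum) (r s i : ℕ) : ℤ := (((chainEntryL D r s)[i - 1]?).map Prod.snd).getD 0

theorem chainRootL_eq (D : ChevalleyDatum) (r s i : ℕ) : chainRootL D r s i = D.chainRoot r s i := by
  unfold chainRootL ChevalleyDatum.chainRoot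
  rw [chainEntryL_eq]

theorem chainML_eq (D : ChevalleyDatum) (r s i : ℕ) : chainML D r s i = D.chainM r s i := by
  unfold chainML ChevalleyDatum.chainM
  rw [chainEntryL_eq]

/-- `commTerms` through lists. -/
def commTermsL (D : ChevalleyDatum) (r s : ℕ) : List (ℕ × ℤ × ℕ × ℕ) :=
  let rs := chainRootL D r s 1
  let cands : List (Option ℕ × ℤ × ℕ × ℕ) :=
    [ (chainRootL D r s 1, chainML D r s 1, 1, 1),
      (chainRootL D r s 2, chainML D r s 2, 2, 1),
      (chainRootL D s r 2, chainML D s r 2, 1, 2),
      (chainRootL D r s 3, chainML D r s 3, 3, 1),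
      (chainRootL D s r 3, - chainML D s r 3, 1, 3),
      ((chainRootL D r s 3).bind fun k => chainRootL D k s 1, (rs.map fun k => chainML D k r 2 / 3).getD 0, 3, 2),
      ((chainRootL D s r 3).bind fun k => chainRootL D k r 1, (rs.map fun k => -2 * chainML D k s 2 / 3).getD 0, 2, 3) ]
  cands.filterMap fun c => c.1.map fun k => (k, c.2)

theorem commTermsL_eq (D : ChevalleyDatum) (r s : ℕ) : commTermsL D r s = D.commTerms r s := by
  unfold commTermsL ChevalleyDatum.commTerms
  simp only [chainRootL_eq, chainML_eq]

/-- `neg` through lists. -/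
def negL (D : ChevalleyDatum) (r : ℕ) : ℕ := D.negIdx.toList.getD r 0

theorem negL_eq (D : ChevalleyDatum) (r : ℕ) : negL D r = D.neg r := by
  unfold negL ChevalleyDatum.neg
  rw [array_getD_toList]

end Cfsg.Agent.H46
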