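import Cfsg.Agent.H46.CommTr
import Cfsg.Agent.H46.CommFast

set_option autoImplicit false

/-!
# A cheaper form of the check of the transport of the commutator formula

The reflections are read off a packed table, the indices are forced to numerals before they are used (so that
the kernel evaluates each table entry once), and the rows are cut into ranges.
-/

namespace Cfsg.Agent.H46

open Cfsg.Lie Cfsg.Agent.H23

/-- Apply `f` to `n`, after forcing `n`. -/
def strictN {α : Type} (n : ℕ) (f : ℕ → α) : α := Nat.rec (f 0) (fun m _ => f (m + 1)) n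

theorem strictN_eq {α : Type} (n : ℕ) (f : ℕ → α) : strictN n f = f n := by
  cases n <;> rfl

/-- `p` holds for the `n` numbers from `a`. -/
def allFromS (p : ℕ → Bool) (a n : ℕ) : Bool := Nat.rec true (fun m ih => cond (strictN (a + m) p) ih false) n

theorem allFromS_elim {p : ℕ → Bool} {a n : ℕ} (h : allFromS p a n = true) (r : ℕ) (h1 : a ≤ r) (h2 : r < a + n) :
    p r = true := by
  induction n with
  | zero => omega
  | succ m ih =>
    have h3 : allFromS p a (m + 1) = cond (strictN (a + m) p) (allFromS p a m) false := rfl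
    rw [h3, strictN_eq] at h
    by_cases hr : r = a + m
    · rw [hr]
      cases hp : p (a + m)
      · rw [hp] at h; exact h
      · rfl
    · apply ih _ (by omega)
      cases hp : p (a + m)
      · rw [hp] at h; exact absurd h (by simp)
      · rw [hp] at h; exact h

/-- `transL` with the reflections read off a packed table. -/
def transLF (D : ChevalleyDatum) (η : ℕ → ℕ → ℤ) (R : ℕ) (k r s : ℕ) :
    List (ℕ × ℤ × ℕ × ℕ) → List (ℕ × ℤ × ℕ × ℕ) → Bool
  | [], [] => true
  | a :: A, b :: B =>
      (decide (a.1 < D.nroots) && Nat.beq b.1 (rlk R a.1) && Nat.beq b.2.2.1 a.2.2.1 &&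
        Nat.beq b.2.2.2 a.2.2.2 &&
        decide (b.2.1 = η k a.1 * a.2.1 * η k r ^ a.2.2.1 * η k s ^ a.2.2.2)) && transLF D η R k r s A B
  | [], _ :: _ => false
  | _ :: _, [] => false

theorem transLF_imp {D : ChevalleyDatum} {η : ℕ → ℕ → ℤ} {R k : ℕ}
    (hR : ∀ a < D.nroots, D.reflectRoot k a = rlk R a) (r s : ℕ) :
    ∀ (A B : List (ℕ × ℤ × ℕ × ℕ)), transLF D η R k r s A B = true → transL D η k r s A B = true
  | [], [], _ => rfl
  | [], _ :: _, h => by simp [transLF] at h
  | _ :: _, [], h => by simp [transLF] at h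
  | a :: A, b :: B, h => by
    rw [transLF, Bool.and_eq_true] at h
    have ih := transLF_imp hR r s A B h.2
    have h1 := h.1
    rw [Bool.and_eq_true, Bool.and_eq_true, Bool.and_eq_true, Bool.and_eq_true, decide_eq_true_eq] at h1
    rw [transL, Bool.and_eq_true]
    refine ⟨?_, ih⟩
    rw [hR a.1 h1.1.1.1.1]
    exact h.1

/-- The cheap check for the pair `(r, s)`. -/
def pairChkF (D : ChevalleyDatum) (η : ℕ → ℕ → ℤ) (rT pd : List ℕ) (r s : ℕ) : Bool :=
  bif Nat.beq (Nat.land (pdGet pd r s) 15) 15 then baseChk D r s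
  else
    strictN (rlk (rT.getD (Nat.land (pdGet pd r s) 15) 0) r) fun r' =>
      strictN (rlk (rT.getD (Nat.land (pdGet pd r s) 15) 0) s) fun s' =>
        Nat.blt (Nat.land (pdGet pd r s) 15) D.rank &&
          Nat.blt (Nat.shiftRight (pdGet pd r' s') 4) (Nat.shiftRight (pdGet pd r s) 4) &&
          transLF D η (rT.getD (Nat.land (pdGet pd r s) 15) 0) (Nat.land (pdGet pd r s) 15) r' s'
            (commTermsL D r' s') (commTermsL D r s)

theorem pairChkF_imp {D : ChevalleyDatum} {η : ℕ → ℕ → ℤ} {rT pd : List ℕ} (hT : TabT D rT) {r s : ℕ}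
    (hr : r < D.nroots) (hs : s < D.nroots) (h : pairChkF D η rT pd r s = true) :
    pairChk D η (fun a b => Nat.land (pdGet pd a b) 15) (fun a b => Nat.shiftRight (pdGet pd a b) 4) r s = true := by
  unfold pairChkF at h
  unfold pairChk
  rw [Bool.or_eq_true]
  cases hb : Nat.beq (Nat.land (pdGet pd r s) 15) 15
  · right
    rw [hb, cond_false, strictN_eq, strictN_eq, Bool.and_eq_true, Bool.and_eq_true] at h
    obtain ⟨⟨h1, h2⟩, h3⟩ := h
    have hk : Nat.land (pdGet pd r s) 15 < D.rank := by rw [Nat.blt_eq] at h1; exact h1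
    have er := hT.refl_eq _ hk r hr
    have es := hT.refl_eq _ hk s hs
    rw [Bool.and_eq_true, Bool.and_eq_true, decide_eq_true_eq, decide_eq_true_eq]
    dsimp only
    rw [er, es]
    refine ⟨⟨hk, by rw [Nat.blt_eq] at h2; exact h2⟩, ?_⟩
    rw [← commTermsL_eq, ← commTermsL_eq]
    exact transLF_imp (fun a ha => hT.refl_eq _ hk a ha) _ _ _ _ h3
  · left
    rw [hb, cond_true] at h
    exact h

/-- The cheap check of a row of pairs. -/
def pairChkRowF (D : ChevalleyDatum) (η : ℕ → ℕ → ℤ) (rT pd : List ℕ) (r : ℕ) : Bool :=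
  allFromS (fun s => Nat.beq s r || Nat.beq s (D.neg r) || pairChkF D η rT pd r s) 0 D.nroots

/-- The cheap check of the rows `a, a + 1, …, a + n - 1`. -/
def pairChkRangeF (D : ChevalleyDatum) (η : ℕ → ℕ → ℤ) (rT pd : List ℕ) (a n : ℕ) : Bool :=
  allFromS (pairChkRowF D η rT pd) a n

theorem pairChkRangeF_elim {D : ChevalleyDatum} {η : ℕ → ℕ → ℤ} {rT pd : List ℕ} (hT : TabT D rT) {a n : ℕ}
    (h : pairChkRangeF D η rT pd a n = true) (r : ℕ) (h1 : a ≤ r) (h2 : r < a + n) (hr : r < D.nroots)
    (s : ℕ) (hs : s < D.nroots) (hne : s ≠ r) (hneg : s ≠ D.neg r) :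
    pairChk D η (fun a b => Nat.land (pdGet pd a b) 15) (fun a b => Nat.shiftRight (pdGet pd a b) 4) r s = true := by
  have h3 := allFromS_elim h r h1 h2
  unfold pairChkRowF at h3
  have h4 := allFromS_elim h3 s (Nat.zero_le s) (by omega)
  rw [Bool.or_eq_true, Bool.or_eq_true] at h4
  rcases h4 with (h4 | h4) | h4
  · exact absurd (Nat.eq_of_beq_eq_true h4) hne
  · exact absurd (Nat.eq_of_beq_eq_true h4) hneg
  · exact pairChkF_imp hT hr hs h4

end Cfsg.Agent.H46
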