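import Cfsg.Agent.H23.Comm

set_option autoImplicit false

/-!
# Transport of the commutator formula along fundamental reflections

The commutator formula for a pair of roots `(r, s)` is carried to the pair `(w_k r, w_k s)` by conjugation with
`n_{p_k}`, provided the terms and constants of the two formulas match up to the signs `η`; the matching is a
decidable condition on the tables.  Starting from the pairs `(± p_i, s)`, `s` positive, every pair is reached.
-/

namespace Cfsg.Agent.H46

open Cfsg.Lie Cfsg.Agent.H23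

variable {D : ChevalleyDatum} {F : Type*} [Field F] {z η : ℕ → ℕ → ℤ}

/-- The commutator formula for the pair `(r, s)`. -/
def GoodPair (hS : Sem D F z) (r s : ℕ) : Prop :=
  ∀ t u : F, (xU hS r t)⁻¹ * xU hS s u * xU hS r t = xU hS s u * wordU hS (D.commWord F r s t u)

/-- The table condition for carrying the terms `A` of the commutator formula of `(r, s)` to the terms `B` of the
formula of `(w_k r, w_k s)`. -/
def transL (D : ChevalleyDatum) (η : ℕ → ℕ → ℤ) (k r s : ℕ) :
    List (ℕ × ℤ × ℕ × ℕ) → List (ℕ × ℤ × ℕ × ℕ) → Bool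
  | [], [] => true
  | a :: A, b :: B =>
      (decide (a.1 < D.nroots) && Nat.beq b.1 (D.reflectRoot k a.1) && Nat.beq b.2.2.1 a.2.2.1 &&
        Nat.beq b.2.2.2 a.2.2.2 &&
        decide (b.2.1 = η k a.1 * a.2.1 * η k r ^ a.2.2.1 * η k s ^ a.2.2.2)) && transL D η k r s A B
  | [], _ :: _ => false
  | _ :: _, [] => false

theorem transL_conj (hS : Sem D F z) (hN : SemN D F η) {k : ℕ} (hk : k < D.rank) (r s : ℕ) (t u : F) :
    ∀ (A B : List (ℕ × ℤ × ℕ × ℕ)), transL D η k r s A B = true →
      nU hS (D.simple k) 1 * wordU hS (A.map fun c => (c.1, ((c.2.1 : ℤ) : F) *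
          (-(((η k r : ℤ) : F) * t)) ^ c.2.2.1 * (((η k s : ℤ) : F) * u) ^ c.2.2.2)) *
        (nU hS (D.simple k) 1)⁻¹ =
      wordU hS (B.map fun c => (c.1, ((c.2.1 : ℤ) : F) * (-t) ^ c.2.2.1 * u ^ c.2.2.2))
  | [], [], _ => by simp [wordU_nil]
  | [], _ :: _, h => by simp [transL] at h
  | _ :: _, [], h => by simp [transL] at h
  | a :: A, b :: B, h => by
    rw [transL, Bool.and_eq_true, Bool.and_eq_true, Bool.and_eq_true, Bool.and_eq_true, Bool.and_eq_true,
      decide_eq_true_eq, decide_eq_true_eq] at h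
    obtain ⟨⟨⟨⟨⟨h1, h2⟩, h3⟩, h4⟩, h5⟩, h6⟩ := h
    have h2' := Nat.eq_of_beq_eq_true h2
    have h3' := Nat.eq_of_beq_eq_true h3
    have h4' := Nat.eq_of_beq_eq_true h4
    have ih := transL_conj hS hN hk r s t u A B h6
    rw [List.map_cons, List.map_cons, wordU_cons, wordU_cons, ← ih]
    have e1 := nU_conj hS hN k hk a.1 h1 (((a.2.1 : ℤ) : F) *
          (-(((η k r : ℤ) : F) * t)) ^ a.2.2.1 * (((η k s : ℤ) : F) * u) ^ a.2.2.2)
    have e2 : ((η k a.1 : ℤ) : F) * (((a.2.1 : ℤ) : F) *
          (-(((η k r : ℤ) : F) * t)) ^ a.2.2.1 * (((η k s : ℤ) : F) * u) ^ a.2.2.2) =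
        ((b.2.1 : ℤ) : F) * (-t) ^ b.2.2.1 * u ^ b.2.2.2 := by
      rw [h5, h3', h4']
      push_cast
      ring
    rw [e2, ← h2'] at e1
    dsimp only
    rw [← e1]
    group

/-- The commutator formula is carried from `(r, s)` to `(w_k r, w_k s)`. -/
theorem GoodPair.refl (hS : Sem D F z) (hN : SemN D F η) {k r s : ℕ} (hk : k < D.rank) (hr : r < D.nroots)
    (hs : s < D.nroots) (h : GoodPair hS r s)
    (hc : transL D η k r s (D.commTerms r s) (D.commTerms (D.reflectRoot k r) (D.reflectRoot k s)) = true) :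
    GoodPair hS (D.reflectRoot k r) (D.reflectRoot k s) := by
  intro t u
  have e1 : ∀ v : F, nU hS (D.simple k) 1 * xU hS r (((η k r : ℤ) : F) * v) * (nU hS (D.simple k) 1)⁻¹ =
      xU hS (D.reflectRoot k r) v := by
    intro v
    rw [nU_conj hS hN k hk r hr, ← mul_assoc, eta_mul_self hN, one_mul]
  have e2 : ∀ v : F, nU hS (D.simple k) 1 * xU hS s (((η k s : ℤ) : F) * v) * (nU hS (D.simple k) 1)⁻¹ =
      xU hS (D.reflectRoot k s) v := by
    intro v
    rw [nU_conj hS hN k hk s hs, ← mul_assoc, eta_mul_self hN, one_mul]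
  have h1 := h (((η k r : ℤ) : F) * t) (((η k s : ℤ) : F) * u)
  have h3 := transL_conj hS hN hk r s t u _ _ hc
  rw [← e1 t, ← e2 u]
  unfold ChevalleyDatum.commWord at h1 ⊢
  rw [← h3]
  calc (nU hS (D.simple k) 1 * xU hS r (((η k r : ℤ) : F) * t) * (nU hS (D.simple k) 1)⁻¹)⁻¹ *
        (nU hS (D.simple k) 1 * xU hS s (((η k s : ℤ) : F) * u) * (nU hS (D.simple k) 1)⁻¹) *
        (nU hS (D.simple k) 1 * xU hS r (((η k r : ℤ) : F) * t) * (nU hS (D.simple k) 1)⁻¹)
      = nU hS (D.simple k) 1 * ((xU hS r (((η k r : ℤ) : F) * t))⁻¹ * xU hS s (((η k s : ℤ) : F) * u) *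
          xU hS r (((η k r : ℤ) : F) * t)) * (nU hS (D.simple k) 1)⁻¹ := by group
    _ = _ := by rw [h1]; group

/-- The pair `(r, s)` is `(± p_i, s)` with `s` positive, `s ≠ p_i`. -/
def baseChk (D : ChevalleyDatum) (r s : ℕ) : Bool :=
  decide (D.IsPosRoot s) && (List.range D.rank).any fun i =>
    (Nat.beq r (D.simple i) || Nat.beq r (D.neg (D.simple i))) && !(Nat.beq s (D.simple i))

theorem baseChk_good (hS : Sem D F z) (hC : SemC D F) {r s : ℕ} (h : baseChk D r s = true) :
    GoodPair hS r s := by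
  unfold baseChk at h
  rw [Bool.and_eq_true, decide_eq_true_eq, List.any_eq_true] at h
  obtain ⟨hs, i, hi, h2⟩ := h
  rw [List.mem_range] at hi
  rw [Bool.and_eq_true, Bool.or_eq_true, Bool.not_eq_true'] at h2
  obtain ⟨h3, h4⟩ := h2
  have hne : s ≠ D.simple i := by
    intro he
    rw [he, Nat.beq_refl] at h4
    exact Bool.noConfusion h4
  intro t u
  rcases h3 with h3 | h3
  · rw [Nat.eq_of_beq_eq_true h3]
    exact xU_comm hS hC i hi s hs hne t u
  · rw [Nat.eq_of_beq_eq_true h3]
    exact xU_commN hS hC i hi s hs hne t u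

/-- The check for the pair `(r, s)`: it is a base pair, or its image under the reflection `par r s` has smaller
depth and its formula is carried back. -/
def pairChk (D : ChevalleyDatum) (η : ℕ → ℕ → ℤ) (par dep : ℕ → ℕ → ℕ) (r s : ℕ) : Bool :=
  baseChk D r s ||
    (decide (par r s < D.rank) &&
      decide (dep (D.reflectRoot (par r s) r) (D.reflectRoot (par r s) s) < dep r s) &&
      transL D η (par r s) (D.reflectRoot (par r s) r) (D.reflectRoot (par r s) s)
        (D.commTerms (D.reflectRoot (par r s) r) (D.reflectRoot (par r s) s)) (D.commTerms r s))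

theorem good_of_chk (hS : Sem D F z) (hN : SemN D F η) (hC : SemC D F) (hT : Tab D) (par dep : ℕ → ℕ → ℕ)
    (h : ∀ r < D.nroots, ∀ s < D.nroots, s ≠ r → s ≠ D.neg r → pairChk D η par dep r s = true) :
    ∀ r < D.nroots, ∀ s < D.nroots, s ≠ r → s ≠ D.neg r → GoodPair hS r s := by
  have key : ∀ n r s, dep r s = n → r < D.nroots → s < D.nroots → s ≠ r → s ≠ D.neg r → GoodPair hS r s := by
    intro n
    induction n using Nat.strong_induction_on with
    | _ n ih =>
      intro r s hn hr hs h1 h2
      have hc := h r hr s hs h1 h2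
      unfold pairChk at hc
      rw [Bool.or_eq_true] at hc
      rcases hc with hc | hc
      · exact baseChk_good hS hC hc
      · rw [Bool.and_eq_true, Bool.and_eq_true, decide_eq_true_eq, decide_eq_true_eq] at hc
        obtain ⟨⟨hk, hd⟩, htr⟩ := hc
        set k := par r s with hkdef
        have hr' := hT.refl_lt k hk r hr
        have hs' := hT.refl_lt k hk s hs
        have h1' : D.reflectRoot k s ≠ D.reflectRoot k r := by
          intro he
          apply h1
          rw [← hT.refl_invol k hk s hs, he, hT.refl_invol k hk r hr]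
        have h2' : D.reflectRoot k s ≠ D.neg (D.reflectRoot k r) := by
          intro he
          apply h2
          rw [← hT.refl_neg k hk r hr] at he
          rw [← hT.refl_invol k hk s hs, he, hT.refl_invol k hk _ (hT.neg_lt r hr)]
        have hg := ih _ (hn ▸ hd) (D.reflectRoot k r) (D.reflectRoot k s) rfl hr' hs' h1' h2'
        have hg2 := GoodPair.refl hS hN hk hr' hs' hg
          (by rw [hT.refl_invol k hk r hr, hT.refl_invol k hk s hs]; exact htr)
        rw [hT.refl_invol k hk r hr, hT.refl_invol k hk s hs] at hg2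
        exact hg2
  intro r hr s hs h1 h2
  exact key _ r s rfl hr hs h1 h2

/-- The matrix form of the commutator formula. -/
theorem GoodPair.mat (hS : Sem D F z) {r s : ℕ} (h : GoodPair hS r s) (t u : F) :
    D.x F s u * D.x F r t = D.x F r t * D.x F s u * D.wordMat F (D.commWord F r s t u) := by
  have h1 := h t u
  rw [mul_assoc, inv_mul_eq_iff_eq_mul] at h1
  have h2 := congrArg (fun g : GL D.Idx F => (g : Matrix D.Idx D.Idx F)) h1
  simp only [Units.val_mul, xU_val, wordU_val] at h2
  rw [h2, mul_assoc]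

/-! ### The packed table of parents and depths -/

/-- The entry of the packed table for the pair `(r, s)`: `16 * depth + parent` (16 bits for each `s`). -/
def pdGet (tbl : List ℕ) (r s : ℕ) : ℕ := Nat.land (Nat.shiftRight (tbl.getD r 0) (Nat.mul 16 s)) 65535

/-- The check of a row of pairs. -/
def pairChkRow (D : ChevalleyDatum) (η : ℕ → ℕ → ℤ) (tbl : List ℕ) (r : ℕ) : Bool :=
  (List.range D.nroots).all fun s => Nat.beq s r || Nat.beq s (D.neg r) ||
    pairChk D η (fun a b => pdGet tbl a b % 16) (fun a b => pdGet tbl a b / 16) r s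

/-- The check of the rows `a, a + 1, …, a + n - 1`. -/
def pairChkRange (D : ChevalleyDatum) (η : ℕ → ℕ → ℤ) (tbl : List ℕ) (a n : ℕ) : Bool :=
  (List.range' a n).all fun r => pairChkRow D η tbl r

theorem pairChkRange_elim {D : ChevalleyDatum} {η : ℕ → ℕ → ℤ} {tbl : List ℕ} {a n : ℕ}
    (h : pairChkRange D η tbl a n = true) (r : ℕ) (h1 : a ≤ r) (h2 : r < a + n) (s : ℕ) (hs : s < D.nroots)
    (hne : s ≠ r) (hneg : s ≠ D.neg r) :
    pairChk D η (fun a b => pdGet tbl a b % 16) (fun a b => pdGet tbl a b / 16) r s = true := by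
  unfold pairChkRange at h
  rw [List.all_eq_true] at h
  have h3 := h r (by rw [List.mem_range'_1]; exact ⟨h1, h2⟩)
  unfold pairChkRow at h3
  rw [List.all_eq_true] at h3
  have h4 := h3 s (List.mem_range.mpr hs)
  rw [Bool.or_eq_true, Bool.or_eq_true] at h4
  rcases h4 with (h4 | h4) | h4
  · exact absurd (Nat.eq_of_beq_eq_true h4) hne
  · exact absurd (Nat.eq_of_beq_eq_true h4) hneg
  · exact h4

end Cfsg.Agent.H46
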