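import Mathlib
import Cfsg.Agent.H46.CoxChain

/-!
Helper (helper46): order, faithful action and centre of the Coxeter group of type B2
(generated certificates, checked by kernel evaluation).
-/

namespace Cfsg.Agent.H46

def cxB2_T : List ℕ := [
  50397696,
  33751041]

def cxB2_negT : ℕ := 66051

def cxB2_f : Fin 2 → Fin 4 → Fin 4 := coxTab 4 cxB2_T

def cxB2_neg : Fin 4 → Fin 4 := coxTab1 4 cxB2_negT

def cxB2_MT : ℕ := 5185

def cxB2_mf : Fin 2 → Fin 2 → ℕ := coxMat 2 cxB2_MT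

theorem cxB2_hm : ∀ a b, cxB2_mf a b = (CoxeterMatrix.B 2) a b :=
  coxMat_of_OK _ _ (by decide +kernel)

theorem cxB2_lift : CoxeterMatrix.IsLiftable (G := Function.End (Fin 4)) (CoxeterMatrix.B 2) cxB2_f :=
  coxLift_of_OK _ cxB2_mf cxB2_hm _ (by decide +kernel)

def cxB2_X0 : List (List (Fin 2)) := [
  [],
  [0]]

def cxB2_R0_0 : List (List CoxEntry) := [
  [(0, 1, 0)],
  [(3, 0, 0)]]

theorem cxB2_rc0_0 : coxRowsFrom cxB2_mf 0 cxB2_X0 0 40 cxB2_R0_0 = true := by decide +kernel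

theorem cxB2_rows0 : ∀ x ∈ cxB2_X0, CoxRowProp (CoxeterMatrix.B 2) 0 cxB2_X0 x := by
  intro x hx
  obtain ⟨i, hi, rfl⟩ := List.mem_iff_getElem.mp hx
  have hlen : cxB2_X0.length = 2 := by decide +kernel
  have hi' : i < 2 := lt_of_lt_of_eq hi hlen
  exact coxRowsFrom_sound cxB2_mf cxB2_hm 0 cxB2_X0 0 40 cxB2_R0_0 cxB2_rc0_0 i (by omega) (by omega) hi

def cxB2_I0 : List (List ℕ) := [
  [8007943],
  [27015919]]

def cxB2_A0 : List (List (Fin 4)) := [[1]]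

theorem cxB2_L0 : CoxLevel (CoxeterMatrix.B 2) cxB2_f 0 cxB2_X0 cxB2_A0 :=
  coxLevel_of_OK cxB2_f 0 cxB2_X0 cxB2_A0 cxB2_I0 cxB2_rows0 (by decide +kernel)

def cxB2_X1 : List (List (Fin 2)) := [
  [],
  [1],
  [0, 1],
  [1, 0, 1]]

def cxB2_R1_0 : List (List CoxEntry) := [
  [(0, 0, 1), (0, 1, 0)],
  [(0, 2, 0), (3, 0, 0)],
  [(3, 1, 0), (0, 3, 0)],
  [(3, 3, 1), (3, 2, 0)]]

theorem cxB2_rc1_0 : coxRowsFrom cxB2_mf 1 cxB2_X1 0 40 cxB2_R1_0 = true := by decide +kernel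

theorem cxB2_rows1 : ∀ x ∈ cxB2_X1, CoxRowProp (CoxeterMatrix.B 2) 1 cxB2_X1 x := by
  intro x hx
  obtain ⟨i, hi, rfl⟩ := List.mem_iff_getElem.mp hx
  have hlen : cxB2_X1.length = 4 := by decide +kernel
  have hi' : i < 4 := lt_of_lt_of_eq hi hlen
  exact coxRowsFrom_sound cxB2_mf cxB2_hm 1 cxB2_X1 0 40 cxB2_R1_0 cxB2_rc1_0 i (by omega) (by omega) hi

def cxB2_I1 : List (List ℕ) := [
  [1000003],
  [8007943],
  [27015919],
  [64023949]]

def cxB2_A1 : List (List (Fin 4)) := [[0]]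

theorem cxB2_L1 : CoxLevel (CoxeterMatrix.B 2) cxB2_f 1 cxB2_X1 cxB2_A1 :=
  coxLevel_of_OK cxB2_f 1 cxB2_X1 cxB2_A1 cxB2_I1 cxB2_rows1 (by decide +kernel)

theorem cxB2_card : Nat.card (CoxeterMatrix.B 2).Group = 8 := by
  have h0 : Nat.card (coxPar (CoxeterMatrix.B 2) 1) = cxB2_X0.length * Nat.card (coxPar (CoxeterMatrix.B 2) 0) :=
    cxB2_L0.card cxB2_lift
  have h1 : Nat.card (coxPar (CoxeterMatrix.B 2) 2) = cxB2_X1.length * Nat.card (coxPar (CoxeterMatrix.B 2) 1) :=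
    cxB2_L1.card cxB2_lift
  have hl : cxB2_X1.length * (cxB2_X0.length * 1) = 8 := by decide +kernel
  rw [← coxPar_card_top (M := (CoxeterMatrix.B 2)), h1, h0, coxPar_card_zero]
  exact hl

theorem cxB2_faithful (w : (CoxeterMatrix.B 2).Group) (hw : ∀ p, coxRho cxB2_f cxB2_lift w p = p) : w = 1 := by
  refine cox_faithful_of_steps cxB2_f cxB2_lift ?_ w hw
  intro k hk w hw hρ
  interval_cases k
  · exact cxB2_L0.faithful_step cxB2_lift w hw hρ
  · exact cxB2_L1.faithful_step cxB2_lift w hw hρ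

def cxB2_V : List (List (Fin 2)) := List.map (coxDecW 2) [
  201,
  1,
  0,
  2]

theorem cxB2_cok : coxCenterOK cxB2_f cxB2_neg 2 0 cxB2_V = true := by decide +kernel

theorem cxB2_nok : coxNegOK cxB2_f cxB2_neg 2 = true := by decide +kernel

theorem cxB2_center : Nat.card (Subgroup.center (CoxeterMatrix.B 2).Group) = 2 ∧
    Subgroup.center (CoxeterMatrix.B 2).Group ≤ Subgroup.zpowers ((List.finRange 2).map (CoxeterMatrix.B 2).simple).prod := by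
  obtain ⟨h1, h2, h3, h4, h5⟩ := coxCenterOK_sound cxB2_f cxB2_neg _ _ _ cxB2_cok
  exact cox_center_of_neg cxB2_f cxB2_lift cxB2_neg _ cxB2_faithful
    (cox_center_act cxB2_f cxB2_lift cxB2_neg _ _ _ h1 h2 h3 h4) h1 h5 2
    (coxNegOK_sound cxB2_f cxB2_neg 2 cxB2_nok)

end Cfsg.Agent.H46
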