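import Mathlib
import Cfsg.Prelude.Def_ChevStructure
import Cfsg.Agent.H46.CoxChain

/-!
Helper (helper46): order, faithful action and centre of the Coxeter group of type D4
(generated certificates, checked by kernel evaluation).
-/

namespace Cfsg.Agent.H46

def cxD4_T : List ℕ := [
  565592643864087472290204273757603651193062799363369534976,
  541649279090809664310305499994679834166397163664360734721,
  565881119482020990812274433957960368099339668429056770816,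
  565978018496368764364970633948976412520310965285293195776]

def cxD4_negT : ℕ := 96533667595335344311200144916688449305687896108635671

def cxD4_f : Fin 4 → Fin 24 → Fin 24 := coxTab 24 cxD4_T

def cxD4_neg : Fin 24 → Fin 24 := coxTab1 24 cxD4_negT

def cxD4_MT : ℕ := 1311146941007209009

def cxD4_mf : Fin 4 → Fin 4 → ℕ := coxMat 4 cxD4_MT

theorem cxD4_hm : ∀ a b, cxD4_mf a b = Cfsg.Lie.coxeterD4 a b :=
  coxMat_of_OK _ _ (by decide +kernel)

theorem cxD4_lift : CoxeterMatrix.IsLiftable (G := Function.End (Fin 24)) Cfsg.Lie.coxeterD4 cxD4_f :=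
  coxLift_of_OK _ cxD4_mf cxD4_hm _ (by decide +kernel)

def cxD4_X0 : List (List (Fin 4)) := [
  [],
  [0]]

def cxD4_R0_0 : List (List CoxEntry) := [
  [(0, 1, 0)],
  [(3, 0, 0)]]

theorem cxD4_rc0_0 : coxRowsFrom cxD4_mf 0 cxD4_X0 0 40 cxD4_R0_0 = true := by decide +kernel

theorem cxD4_rows0 : ∀ x ∈ cxD4_X0, CoxRowProp Cfsg.Lie.coxeterD4 0 cxD4_X0 x := by
  intro x hx
  obtain ⟨i, hi, rfl⟩ := List.mem_iff_getElem.mp hx
  have hlen : cxD4_X0.length = 2 := by decide +kernel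
  have hi' : i < 2 := lt_of_lt_of_eq hi hlen
  exact coxRowsFrom_sound cxD4_mf cxD4_hm 0 cxD4_X0 0 40 cxD4_R0_0 cxD4_rc0_0 i (by omega) (by omega) hi

def cxD4_I0 : List (List ℕ) := [
  [8007943],
  [343048543]]

def cxD4_A0 : List (List (Fin 24)) := [[1]]

theorem cxD4_L0 : CoxLevel Cfsg.Lie.coxeterD4 cxD4_f 0 cxD4_X0 cxD4_A0 :=
  coxLevel_of_OK cxD4_f 0 cxD4_X0 cxD4_A0 cxD4_I0 cxD4_rows0 (by decide +kernel)

def cxD4_X1 : List (List (Fin 4)) := [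
  [],
  [1],
  [0, 1]]

def cxD4_R1_0 : List (List CoxEntry) := [
  [(0, 0, 1), (0, 1, 0)],
  [(0, 2, 0), (3, 0, 0)],
  [(3, 1, 0), (3, 2, 1)]]

theorem cxD4_rc1_0 : coxRowsFrom cxD4_mf 1 cxD4_X1 0 40 cxD4_R1_0 = true := by decide +kernel

theorem cxD4_rows1 : ∀ x ∈ cxD4_X1, CoxRowProp Cfsg.Lie.coxeterD4 1 cxD4_X1 x := by
  intro x hx
  obtain ⟨i, hi, rfl⟩ := List.mem_iff_getElem.mp hx
  have hlen : cxD4_X1.length = 3 := by decide +kernel
  have hi' : i < 3 := lt_of_lt_of_eq hi hlen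
  exact coxRowsFrom_sound cxD4_mf cxD4_hm 1 cxD4_X1 0 40 cxD4_R1_0 cxD4_rc1_0 i (by omega) (by omega) hi

def cxD4_I1 : List (List ℕ) := [
  [1000003],
  [8007943],
  [343048543]]

def cxD4_A1 : List (List (Fin 24)) := [[0]]

theorem cxD4_L1 : CoxLevel Cfsg.Lie.coxeterD4 cxD4_f 1 cxD4_X1 cxD4_A1 :=
  coxLevel_of_OK cxD4_f 1 cxD4_X1 cxD4_A1 cxD4_I1 cxD4_rows1 (by decide +kernel)

def cxD4_X2 : List (List (Fin 4)) := [
  [],
  [2],
  [1, 2],
  [0, 1, 2]]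

def cxD4_R2_0 : List (List CoxEntry) := [
  [(0, 0, 1), (0, 0, 2), (0, 1, 0)],
  [(3, 1, 1), (0, 2, 0), (3, 0, 0)],
  [(0, 3, 0), (3, 1, 0), (3, 2, 2)],
  [(3, 2, 0), (235, 3, 1), (59, 3, 2)]]

theorem cxD4_rc2_0 : coxRowsFrom cxD4_mf 2 cxD4_X2 0 40 cxD4_R2_0 = true := by decide +kernel

theorem cxD4_rows2 : ∀ x ∈ cxD4_X2, CoxRowProp Cfsg.Lie.coxeterD4 2 cxD4_X2 x := by
  intro x hx
  obtain ⟨i, hi, rfl⟩ := List.mem_iff_getElem.mp hx
  have hlen : cxD4_X2.length = 4 := by decide +kernel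
  have hi' : i < 4 := lt_of_lt_of_eq hi hlen
  exact coxRowsFrom_sound cxD4_mf cxD4_hm 2 cxD4_X2 0 40 cxD4_R2_0 cxD4_rc2_0 i (by omega) (by omega) hi

def cxD4_I2 : List (List ℕ) := [
  [352056489],
  [794089491],
  [1800124185],
  [2800206375]]

def cxD4_A2 : List (List (Fin 24)) := [[0, 1, 6]]

theorem cxD4_L2 : CoxLevel Cfsg.Lie.coxeterD4 cxD4_f 2 cxD4_X2 cxD4_A2 :=
  coxLevel_of_OK cxD4_f 2 cxD4_X2 cxD4_A2 cxD4_I2 cxD4_rows2 (by decide +kernel)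

def cxD4_X3 : List (List (Fin 4)) := [
  [],
  [3],
  [1, 3],
  [0, 1, 3],
  [2, 1, 3],
  [2, 0, 1, 3],
  [1, 2, 0, 1, 3],
  [3, 1, 2, 0, 1, 3]]

def cxD4_R3_0 : List (List CoxEntry) := [
  [(0, 0, 1), (0, 0, 2), (0, 0, 3), (0, 1, 0)],
  [(3, 1, 1), (0, 2, 0), (3, 1, 3), (3, 0, 0)],
  [(0, 3, 0), (3, 1, 0), (0, 4, 0), (3, 2, 2)],
  [(3, 2, 0), (235, 3, 1), (0, 5, 0), (59, 3, 2)],
  [(3, 5, 0), (235, 4, 3), (3, 2, 0), (59, 4, 2)],
  [(59, 4, 0), (0, 6, 0), (3, 3, 0), (955, 5, 2)],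
  [(3588992378, 6, 3), (3, 5, 0), (15083, 6, 1), (0, 7, 0)],
  [(918782137834, 7, 3), (61163, 7, 2), (241339, 7, 1), (3, 6, 0)]]

theorem cxD4_rc3_0 : coxRowsFrom cxD4_mf 3 cxD4_X3 0 40 cxD4_R3_0 = true := by decide +kernel

theorem cxD4_rows3 : ∀ x ∈ cxD4_X3, CoxRowProp Cfsg.Lie.coxeterD4 3 cxD4_X3 x := by
  intro x hx
  obtain ⟨i, hi, rfl⟩ := List.mem_iff_getElem.mp hx
  have hlen : cxD4_X3.length = 8 := by decide +kernel
  have hi' : i < 8 := lt_of_lt_of_eq hi hlen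
  exact coxRowsFrom_sound cxD4_mf cxD4_hm 3 cxD4_X3 0 40 cxD4_R3_0 cxD4_rc3_0 i (by omega) (by omega) hi

def cxD4_I3 : List (List ℕ) := [
  [2873238270],
  [1714797185],
  [4758432058],
  [4831875968],
  [3157082749],
  [6230535659],
  [8129212688],
  [6575816009]]

def cxD4_A3 : List (List (Fin 24)) := [[0, 1, 3, 6, 8, 11]]

theorem cxD4_L3 : CoxLevel Cfsg.Lie.coxeterD4 cxD4_f 3 cxD4_X3 cxD4_A3 :=
  coxLevel_of_OK cxD4_f 3 cxD4_X3 cxD4_A3 cxD4_I3 cxD4_rows3 (by decide +kernel)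

theorem cxD4_card : Nat.card Cfsg.Lie.coxeterD4.Group = 192 := by
  have h0 : Nat.card (coxPar Cfsg.Lie.coxeterD4 1) = cxD4_X0.length * Nat.card (coxPar Cfsg.Lie.coxeterD4 0) :=
    cxD4_L0.card cxD4_lift
  have h1 : Nat.card (coxPar Cfsg.Lie.coxeterD4 2) = cxD4_X1.length * Nat.card (coxPar Cfsg.Lie.coxeterD4 1) :=
    cxD4_L1.card cxD4_lift
  have h2 : Nat.card (coxPar Cfsg.Lie.coxeterD4 3) = cxD4_X2.length * Nat.card (coxPar Cfsg.Lie.coxeterD4 2) :=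
    cxD4_L2.card cxD4_lift
  have h3 : Nat.card (coxPar Cfsg.Lie.coxeterD4 4) = cxD4_X3.length * Nat.card (coxPar Cfsg.Lie.coxeterD4 3) :=
    cxD4_L3.card cxD4_lift
  have hl : cxD4_X3.length * (cxD4_X2.length * (cxD4_X1.length * (cxD4_X0.length * 1))) = 192 := by decide +kernel
  rw [← coxPar_card_top (M := Cfsg.Lie.coxeterD4), h3, h2, h1, h0, coxPar_card_zero]
  exact hl

theorem cxD4_faithful (w : Cfsg.Lie.coxeterD4.Group) (hw : ∀ p, coxRho cxD4_f cxD4_lift w p = p) : w = 1 := by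
  refine cox_faithful_of_steps cxD4_f cxD4_lift ?_ w hw
  intro k hk w hw hρ
  interval_cases k
  · exact cxD4_L0.faithful_step cxD4_lift w hw hρ
  · exact cxD4_L1.faithful_step cxD4_lift w hw hρ
  · exact cxD4_L2.faithful_step cxD4_lift w hw hρ
  · exact cxD4_L3.faithful_step cxD4_lift w hw hρ

def cxD4_V : List (List (Fin 4)) := List.map (coxDecW 4) [
  204030201,
  4030201,
  30201,
  40201,
  201,
  1,
  403010201,
  3010201,
  4010201,
  10201,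
  203010201,
  204010201,
  2040102,
  2030102,
  102,
  40102,
  30102,
  4030102,
  0,
  2,
  402,
  302,
  40302,
  2040302]

theorem cxD4_cok : coxCenterOK cxD4_f cxD4_neg 18 0 cxD4_V = true := by decide +kernel

theorem cxD4_nok : coxNegOK cxD4_f cxD4_neg 3 = true := by decide +kernel

theorem cxD4_center : Nat.card (Subgroup.center Cfsg.Lie.coxeterD4.Group) = 2 ∧
    Subgroup.center Cfsg.Lie.coxeterD4.Group ≤ Subgroup.zpowers ((List.finRange 4).map Cfsg.Lie.coxeterD4.simple).prod := by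
  obtain ⟨h1, h2, h3, h4, h5⟩ := coxCenterOK_sound cxD4_f cxD4_neg _ _ _ cxD4_cok
  exact cox_center_of_neg cxD4_f cxD4_lift cxD4_neg _ cxD4_faithful
    (cox_center_act cxD4_f cxD4_lift cxD4_neg _ _ _ h1 h2 h3 h4) h1 h5 3
    (coxNegOK_sound cxD4_f cxD4_neg 3 cxD4_nok)

end Cfsg.Agent.H46
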