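import Mathlib
import Cfsg.Agent.H46.CoxChain

/-!
Helper (helper46): order, faithful action and centre of the Coxeter group of type E6
(generated certificates, checked by kernel evaluation).
-/

namespace Cfsg.Agent.H46

def cxE6_T : List ℕ := [
  68860739535078100914596739045472550060558126031925906698557184978812794185875324317535844633006154102049939227231216439978584304288106533539790046234022772551535750302269696,
  67898379116758311409174261616388753868225998791303625563428882050626415270252589797741478371984307561973422256644613195820774439032392954730690482532434882508821640184463361,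
  68860695135535158216797058934368584078938789528211777354868258615236502524939434476014300653026239562496047166733737140692285179851664431971808751874688785261135318011412736,
  68856980314703697980439144254334973515401028023823060939175680109056393390696631820261994746199928716884708600540244424635743493790229057459399689936210111163618278074548736,
  68860724850632303803458732998465812266828810094652722312245356555948991877575451183817923578624086719198522082862514929281160200302940551006277733868069131789022201037127936,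
  68860739477726650154684651250440147524905899556371060941805998667168077050675229181777609482453672249988869994526207384147299178654162362870440666247900439482662894518272256]

def cxE6_negT : ℕ := 3803620168752088182399116047976119800617167998480766473111311896853475203483765738874531350422807304722763113049075576153039062426862763705767722492916465481224248706631

def cxE6_f : Fin 6 → Fin 72 → Fin 72 := coxTab 72 cxE6_T

def cxE6_neg : Fin 72 → Fin 72 := coxTab1 72 cxE6_negT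

def cxE6_MT : ℕ := 1666748482369984442279593237219391985296161

def cxE6_mf : Fin 6 → Fin 6 → ℕ := coxMat 6 cxE6_MT

theorem cxE6_hm : ∀ a b, cxE6_mf a b = CoxeterMatrix.E₆ a b :=
  coxMat_of_OK _ _ (by decide +kernel)

theorem cxE6_lift : CoxeterMatrix.IsLiftable (G := Function.End (Fin 72)) CoxeterMatrix.E₆ cxE6_f :=
  coxLift_of_OK _ cxE6_mf cxE6_hm _ (by decide +kernel)

def cxE6_X0 : List (List (Fin 6)) := [
  [],
  [0]]

def cxE6_R0_0 : List (List CoxEntry) := [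
  [(0, 1, 0)],
  [(3, 0, 0)]]

theorem cxE6_rc0_0 : coxRowsFrom cxE6_mf 0 cxE6_X0 0 40 cxE6_R0_0 = true := by decide +kernel

theorem cxE6_rows0 : ∀ x ∈ cxE6_X0, CoxRowProp CoxeterMatrix.E₆ 0 cxE6_X0 x := by
  intro x hx
  obtain ⟨i, hi, rfl⟩ := List.mem_iff_getElem.mp hx
  have hlen : cxE6_X0.length = 2 := by decide +kernel
  have hi' : i < 2 := lt_of_lt_of_eq hi hlen
  exact coxRowsFrom_sound cxE6_mf cxE6_hm 0 cxE6_X0 0 40 cxE6_R0_0 cxE6_rc0_0 i (by omega) (by omega) hi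

def cxE6_I0 : List (List ℕ) := [
  [216040243],
  [618174149]]

def cxE6_A0 : List (List (Fin 72)) := [[5]]

theorem cxE6_L0 : CoxLevel CoxeterMatrix.E₆ cxE6_f 0 cxE6_X0 cxE6_A0 :=
  coxLevel_of_OK cxE6_f 0 cxE6_X0 cxE6_A0 cxE6_I0 cxE6_rows0 (by decide +kernel)

def cxE6_X1 : List (List (Fin 6)) := [
  [],
  [1]]

def cxE6_R1_0 : List (List CoxEntry) := [
  [(0, 0, 1), (0, 1, 0)],
  [(3, 1, 1), (3, 0, 0)]]

theorem cxE6_rc1_0 : coxRowsFrom cxE6_mf 1 cxE6_X1 0 40 cxE6_R1_0 = true := by decide +kernel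

theorem cxE6_rows1 : ∀ x ∈ cxE6_X1, CoxRowProp CoxeterMatrix.E₆ 1 cxE6_X1 x := by
  intro x hx
  obtain ⟨i, hi, rfl⟩ := List.mem_iff_getElem.mp hx
  have hlen : cxE6_X1.length = 2 := by decide +kernel
  have hi' : i < 2 := lt_of_lt_of_eq hi hlen
  exact coxRowsFrom_sound cxE6_mf cxE6_hm 1 cxE6_X1 0 40 cxE6_R1_0 cxE6_rc1_0 i (by omega) (by omega) hi

def cxE6_I1 : List (List ℕ) := [
  [1000003],
  [8007943]]

def cxE6_A1 : List (List (Fin 72)) := [[0]]

theorem cxE6_L1 : CoxLevel CoxeterMatrix.E₆ cxE6_f 1 cxE6_X1 cxE6_A1 :=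
  coxLevel_of_OK cxE6_f 1 cxE6_X1 cxE6_A1 cxE6_I1 cxE6_rows1 (by decide +kernel)

def cxE6_X2 : List (List (Fin 6)) := [
  [],
  [2],
  [0, 2]]

def cxE6_R2_0 : List (List CoxEntry) := [
  [(0, 0, 1), (0, 0, 2), (0, 1, 0)],
  [(0, 2, 0), (3, 1, 2), (3, 0, 0)],
  [(3, 1, 0), (59, 2, 2), (3, 2, 1)]]

theorem cxE6_rc2_0 : coxRowsFrom cxE6_mf 2 cxE6_X2 0 40 cxE6_R2_0 = true := by decide +kernel

theorem cxE6_rows2 : ∀ x ∈ cxE6_X2, CoxRowProp CoxeterMatrix.E₆ 2 cxE6_X2 x := by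
  intro x hx
  obtain ⟨i, hi, rfl⟩ := List.mem_iff_getElem.mp hx
  have hlen : cxE6_X2.length = 3 := by decide +kernel
  have hi' : i < 3 := lt_of_lt_of_eq hi hlen
  exact coxRowsFrom_sound cxE6_mf cxE6_hm 2 cxE6_X2 0 40 cxE6_R2_0 cxE6_rc2_0 i (by omega) (by omega) hi

def cxE6_I2 : List (List ℕ) := [
  [27015919],
  [216040243],
  [618174149]]

def cxE6_A2 : List (List (Fin 72)) := [[2]]

theorem cxE6_L2 : CoxLevel CoxeterMatrix.E₆ cxE6_f 2 cxE6_X2 cxE6_A2 :=
  coxLevel_of_OK cxE6_f 2 cxE6_X2 cxE6_A2 cxE6_I2 cxE6_rows2 (by decide +kernel)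

def cxE6_X3 : List (List (Fin 6)) := [
  [],
  [3],
  [1, 3],
  [2, 3],
  [2, 1, 3],
  [0, 2, 3],
  [0, 2, 1, 3],
  [3, 2, 1, 3],
  [3, 0, 2, 1, 3],
  [2, 3, 0, 2, 1, 3]]

def cxE6_R3_0 : List (List CoxEntry) := [
  [(0, 0, 1), (0, 0, 2), (0, 0, 3), (0, 1, 0)],
  [(3, 1, 1), (0, 2, 0), (0, 3, 0), (3, 0, 0)],
  [(59, 2, 1), (3, 1, 0), (0, 4, 0), (3, 2, 2)],
  [(0, 5, 0), (3, 4, 0), (3, 1, 0), (3, 3, 3)],
  [(0, 6, 0), (59, 3, 0), (3, 2, 0), (0, 7, 0)],
  [(3, 3, 0), (59, 6, 0), (235, 5, 1), (59, 5, 3)],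
  [(3, 4, 0), (955, 5, 0), (3819, 6, 1), (0, 8, 0)],
  [(3, 8, 0), (3648890, 7, 3), (235, 7, 2), (3, 4, 0)],
  [(59, 7, 0), (231370094058, 8, 3), (0, 9, 0), (3, 6, 0)],
  [(3588992378, 9, 2), (59230748268458, 9, 3), (3, 8, 0), (244459, 9, 1)]]

theorem cxE6_rc3_0 : coxRowsFrom cxE6_mf 3 cxE6_X3 0 40 cxE6_R3_0 = true := by decide +kernel

theorem cxE6_rows3 : ∀ x ∈ cxE6_X3, CoxRowProp CoxeterMatrix.E₆ 3 cxE6_X3 x := by
  intro x hx
  obtain ⟨i, hi, rfl⟩ := List.mem_iff_getElem.mp hx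
  have hlen : cxE6_X3.length = 10 := by decide +kernel
  have hi' : i < 10 := lt_of_lt_of_eq hi hlen
  exact coxRowsFrom_sound cxE6_mf cxE6_hm 3 cxE6_X3 0 40 cxE6_R3_0 cxE6_rc3_0 i (by omega) (by omega) hi

def cxE6_I3 : List (List ℕ) := [
  [649673593],
  [1874039532],
  [1429792484],
  [355912120],
  [1557723520],
  [1728092293],
  [729065539],
  [1537184825],
  [343048543],
  [64023949]]

def cxE6_A3 : List (List (Fin 72)) := [[33]]

theorem cxE6_L3 : CoxLevel CoxeterMatrix.E₆ cxE6_f 3 cxE6_X3 cxE6_A3 :=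
  coxLevel_of_OK cxE6_f 3 cxE6_X3 cxE6_A3 cxE6_I3 cxE6_rows3 (by decide +kernel)

def cxE6_X4 : List (List (Fin 6)) := [
  [],
  [4],
  [3, 4],
  [1, 3, 4],
  [2, 3, 4],
  [2, 1, 3, 4],
  [0, 2, 3, 4],
  [0, 2, 1, 3, 4],
  [3, 2, 1, 3, 4],
  [3, 0, 2, 1, 3, 4],
  [4, 3, 2, 1, 3, 4],
  [2, 3, 0, 2, 1, 3, 4],
  [4, 3, 0, 2, 1, 3, 4],
  [4, 2, 3, 0, 2, 1, 3, 4],
  [3, 4, 2, 3, 0, 2, 1, 3, 4],
  [1, 3, 4, 2, 3, 0, 2, 1, 3, 4]]

def cxE6_R4_0 : List (List CoxEntry) := [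
  [(0, 0, 1), (0, 0, 2), (0, 0, 3), (0, 0, 4), (0, 1, 0)],
  [(3, 1, 1), (3, 1, 2), (3, 1, 3), (0, 2, 0), (3, 0, 0)],
  [(59, 2, 1), (0, 3, 0), (0, 4, 0), (3, 1, 0), (3, 2, 4)],
  [(955, 3, 1), (3, 2, 0), (0, 5, 0), (235, 3, 2), (59, 3, 4)],
  [(0, 6, 0), (3, 5, 0), (3, 2, 0), (235, 4, 3), (59, 4, 4)],
  [(0, 7, 0), (59, 4, 0), (3, 3, 0), (0, 8, 0), (955, 5, 4)],
  [(3, 4, 0), (59, 7, 0), (3819, 6, 1), (3771, 6, 3), (955, 6, 4)],
  [(3, 5, 0), (955, 6, 0), (61163, 7, 1), (0, 9, 0), (15291, 7, 4)],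
  [(3, 9, 0), (3588992378, 8, 3), (15083, 8, 2), (3, 5, 0), (0, 10, 0)],
  [(59, 8, 0), (236771593647594, 9, 3), (0, 11, 0), (3, 7, 0), (0, 12, 0)],
  [(59, 12, 0), (918782137834, 10, 3), (241339, 10, 2), (61163, 10, 4), (3, 8, 0)],
  [(3665669369210, 11, 2), (60613527977973674, 11, 3), (3, 9, 0), (3914475, 11, 1), (0, 13, 0)],
  [(955, 10, 0), (60613527977973674, 12, 3), (3, 13, 0), (978667, 12, 4), (3, 9, 0)],
  [(938411358606826, 13, 2), (15517063162453515946, 13, 3), (59, 12, 0), (0, 14, 0), (3, 11, 0)],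
  [(240233307804882858, 14, 2), (0, 15, 0), (938291153841530, 14, 4), (3, 13, 0), (250526443, 14, 1)],
  [(61499726798075027114, 15, 2), (3, 14, 0), (240202535383520746, 15, 4), (254231562853730710055594, 15, 3), (4008423099, 15, 1)]]

theorem cxE6_rc4_0 : coxRowsFrom cxE6_mf 4 cxE6_X4 0 40 cxE6_R4_0 = true := by decide +kernel

theorem cxE6_rows4 : ∀ x ∈ cxE6_X4, CoxRowProp CoxeterMatrix.E₆ 4 cxE6_X4 x := by
  intro x hx
  obtain ⟨i, hi, rfl⟩ := List.mem_iff_getElem.mp hx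
  have hlen : cxE6_X4.length = 16 := by decide +kernel
  have hi' : i < 16 := lt_of_lt_of_eq hi hlen
  exact coxRowsFrom_sound cxE6_mf cxE6_hm 4 cxE6_X4 0 40 cxE6_R4_0 cxE6_rc4_0 i (by omega) (by omega) hi

def cxE6_I4 : List (List ℕ) := [
  [1559260546],
  [649673593],
  [1874039532],
  [1429792484],
  [355912120],
  [1557723520],
  [1728092293],
  [729065539],
  [1537184825],
  [343048543],
  [618174149],
  [64023949],
  [216040243],
  [27015919],
  [8007943],
  [1000003]]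

def cxE6_A4 : List (List (Fin 72)) := [[35]]

theorem cxE6_L4 : CoxLevel CoxeterMatrix.E₆ cxE6_f 4 cxE6_X4 cxE6_A4 :=
  coxLevel_of_OK cxE6_f 4 cxE6_X4 cxE6_A4 cxE6_I4 cxE6_rows4 (by decide +kernel)

def cxE6_X5 : List (List (Fin 6)) := [
  [],
  [5],
  [4, 5],
  [3, 4, 5],
  [1, 3, 4, 5],
  [2, 3, 4, 5],
  [2, 1, 3, 4, 5],
  [0, 2, 3, 4, 5],
  [0, 2, 1, 3, 4, 5],
  [3, 2, 1, 3, 4, 5],
  [3, 0, 2, 1, 3, 4, 5],
  [4, 3, 2, 1, 3, 4, 5],
  [2, 3, 0, 2, 1, 3, 4, 5],
  [4, 3, 0, 2, 1, 3, 4, 5],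
  [5, 4, 3, 2, 1, 3, 4, 5],
  [4, 2, 3, 0, 2, 1, 3, 4, 5],
  [5, 4, 3, 0, 2, 1, 3, 4, 5],
  [3, 4, 2, 3, 0, 2, 1, 3, 4, 5],
  [5, 4, 2, 3, 0, 2, 1, 3, 4, 5],
  [1, 3, 4, 2, 3, 0, 2, 1, 3, 4, 5],
  [5, 3, 4, 2, 3, 0, 2, 1, 3, 4, 5],
  [5, 1, 3, 4, 2, 3, 0, 2, 1, 3, 4, 5],
  [4, 5, 3, 4, 2, 3, 0, 2, 1, 3, 4, 5],
  [4, 5, 1, 3, 4, 2, 3, 0, 2, 1, 3, 4, 5],
  [3, 4, 5, 1, 3, 4, 2, 3, 0, 2, 1, 3, 4, 5],
  [2, 3, 4, 5, 1, 3, 4, 2, 3, 0, 2, 1, 3, 4, 5],
  [0, 2, 3, 4, 5, 1, 3, 4, 2, 3, 0, 2, 1, 3, 4, 5]]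

def cxE6_R5_0 : List (List CoxEntry) := [
  [(0, 0, 1), (0, 0, 2), (0, 0, 3), (0, 0, 4), (0, 0, 5), (0, 1, 0)],
  [(3, 1, 1), (3, 1, 2), (3, 1, 3), (3, 1, 4), (0, 2, 0), (3, 0, 0)],
  [(59, 2, 1), (59, 2, 2), (59, 2, 3), (0, 3, 0), (3, 1, 0), (3, 2, 5)],
  [(955, 3, 1), (0, 4, 0), (0, 5, 0), (3, 2, 0), (235, 3, 4), (59, 3, 5)],
  [(15291, 4, 1), (3, 3, 0), (0, 6, 0), (3819, 4, 2), (3771, 4, 4), (955, 4, 5)],
  [(0, 7, 0), (3, 6, 0), (3, 3, 0), (3819, 5, 3), (3771, 5, 4), (955, 5, 5)],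
  [(0, 8, 0), (59, 5, 0), (3, 4, 0), (0, 9, 0), (60347, 6, 4), (15291, 6, 5)],
  [(3, 5, 0), (59, 8, 0), (61163, 7, 1), (61115, 7, 3), (60347, 7, 4), (15291, 7, 5)],
  [(3, 6, 0), (955, 7, 0), (978667, 8, 1), (0, 10, 0), (965563, 8, 4), (244667, 8, 5)],
  [(3, 10, 0), (229225770362, 9, 3), (244459, 9, 2), (3, 6, 0), (0, 11, 0), (244667, 9, 5)],
  [(59, 9, 0), (15152900954879466, 10, 3), (0, 12, 0), (3, 8, 0), (0, 13, 0), (3914683, 10, 5)],
  [(59, 13, 0), (58681797301738, 11, 3), (3911355, 11, 2), (3862251, 11, 4), (3, 9, 0), (0, 14, 0)],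
  [(234572774878586, 12, 2), (3879142644453332906, 12, 3), (3, 10, 0), (62634731, 12, 1), (0, 15, 0), (62634939, 12, 5)],
  [(955, 11, 0), (3879142644453332906, 13, 3), (3, 15, 0), (61796075, 13, 4), (3, 10, 0), (0, 16, 0)],
  [(955, 16, 0), (15022540110780330, 14, 3), (62581691, 14, 2), (61796027, 14, 4), (15658731, 14, 5), (3, 11, 0)],
  [(60050630369007082, 15, 2), (993060516980145479338, 15, 3), (59, 13, 0), (0, 17, 0), (3, 12, 0), (0, 18, 0)],
  [(15291, 14, 0), (993060516980145479338, 16, 3), (59, 18, 0), (988737211, 16, 4), (250539755, 16, 5), (3, 13, 0)],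
  [(15372961374467348394, 17, 2), (0, 19, 0), (960770504357817722, 17, 4), (3, 15, 0), (4008622827, 17, 1), (0, 20, 0)],
  [(15372961374467348394, 18, 2), (254223492346918819691178, 18, 3), (955, 16, 0), (3, 20, 0), (4008636139, 18, 5), (3, 15, 0)],
  [(3935478111863666204330, 19, 2), (3, 17, 0), (245957249115601425898, 19, 4), (16270303510202795838270122, 19, 3), (64137965243, 19, 1), (0, 21, 0)],
  [(3935478111863666204330, 20, 2), (3, 21, 0), (245957249115601425898, 20, 4), (59, 18, 0), (0, 22, 0), (3, 17, 0)],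
  [(1007482396637098950359722, 21, 2), (59, 20, 0), (62965055773593966565290, 21, 4), (4165197698611916146375895722, 21, 3), (0, 23, 0), (3, 19, 0)],
  [(1007482396637098950359722, 22, 2), (59, 23, 0), (62965055773593966565290, 22, 4), (245956756534446501242, 22, 5), (3, 20, 0), (256551860971, 22, 1)],
  [(257915493539097337732131498, 23, 2), (955, 22, 0), (16119054278040055465729706, 23, 4), (0, 24, 0), (3, 21, 0), (4104829775595, 23, 1)],
  [(66026366346008918562495244970, 24, 2), (73489794668099083498658684650, 24, 5), (0, 25, 0), (3, 23, 0), (68242599094057634529110960810666, 24, 3), (65677276409531, 24, 1)],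
  [(0, 26, 0), (18813387435033365375656992275370, 25, 5), (3, 24, 0), (264094585291408268774098725546, 25, 4), (17470105368078754441141221388364458, 25, 3), (1050836422552507, 25, 1)],
  [(3, 25, 0), (4816227183368541536168196330352298, 26, 5), (1081775986213010121824676613892778, 26, 2), (67608213834600516806272343321258, 26, 4), (4472346974228161136959174135427803818, 26, 3), (16813382760840123, 26, 1)]]

theorem cxE6_rc5_0 : coxRowsFrom cxE6_mf 5 cxE6_X5 0 40 cxE6_R5_0 = true := by decide +kernel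

theorem cxE6_rows5 : ∀ x ∈ cxE6_X5, CoxRowProp CoxeterMatrix.E₆ 5 cxE6_X5 x := by
  intro x hx
  obtain ⟨i, hi, rfl⟩ := List.mem_iff_getElem.mp hx
  have hlen : cxE6_X5.length = 27 := by decide +kernel
  have hi' : i < 27 := lt_of_lt_of_eq hi hlen
  exact coxRowsFrom_sound cxE6_mf cxE6_hm 5 cxE6_X5 0 40 cxE6_R5_0 cxE6_rc5_0 i (by omega) (by omega) hi

def cxE6_I5 : List (List ℕ) := [
  [12698055201],
  [8952359027],
  [12453276736],
  [13418684265],
  [10604718276],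
  [12553966218],
  [13584194125],
  [16686823578],
  [14480950595],
  [17249883300],
  [18218913532],
  [16923585868],
  [19803546264],
  [16918795542],
  [15002168712],
  [18588474120],
  [14023557828],
  [18159038532],
  [15778282252],
  [20622273737],
  [20562339509],
  [18024696484],
  [17327352487],
  [16231282173],
  [19110221237],
  [19542376306],
  [21272156268]]

def cxE6_A5 : List (List (Fin 72)) := [[0, 1, 2, 3, 5, 6, 8, 11, 16, 17, 19, 22, 26, 30, 33, 35]]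

theorem cxE6_L5 : CoxLevel CoxeterMatrix.E₆ cxE6_f 5 cxE6_X5 cxE6_A5 :=
  coxLevel_of_OK cxE6_f 5 cxE6_X5 cxE6_A5 cxE6_I5 cxE6_rows5 (by decide +kernel)

theorem cxE6_card : Nat.card CoxeterMatrix.E₆.Group = 51840 := by
  have h0 : Nat.card (coxPar CoxeterMatrix.E₆ 1) = cxE6_X0.length * Nat.card (coxPar CoxeterMatrix.E₆ 0) :=
    cxE6_L0.card cxE6_lift
  have h1 : Nat.card (coxPar CoxeterMatrix.E₆ 2) = cxE6_X1.length * Nat.card (coxPar CoxeterMatrix.E₆ 1) :=
    cxE6_L1.card cxE6_lift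
  have h2 : Nat.card (coxPar CoxeterMatrix.E₆ 3) = cxE6_X2.length * Nat.card (coxPar CoxeterMatrix.E₆ 2) :=
    cxE6_L2.card cxE6_lift
  have h3 : Nat.card (coxPar CoxeterMatrix.E₆ 4) = cxE6_X3.length * Nat.card (coxPar CoxeterMatrix.E₆ 3) :=
    cxE6_L3.card cxE6_lift
  have h4 : Nat.card (coxPar CoxeterMatrix.E₆ 5) = cxE6_X4.length * Nat.card (coxPar CoxeterMatrix.E₆ 4) :=
    cxE6_L4.card cxE6_lift
  have h5 : Nat.card (coxPar CoxeterMatrix.E₆ 6) = cxE6_X5.length * Nat.card (coxPar CoxeterMatrix.E₆ 5) :=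
    cxE6_L5.card cxE6_lift
  have hl : cxE6_X5.length * (cxE6_X4.length * (cxE6_X3.length * (cxE6_X2.length * (cxE6_X1.length * (cxE6_X0.length * 1))))) = 51840 := by decide +kernel
  rw [← coxPar_card_top (M := CoxeterMatrix.E₆), h5, h4, h3, h2, h1, h0, coxPar_card_zero]
  exact hl

theorem cxE6_faithful (w : CoxeterMatrix.E₆.Group) (hw : ∀ p, coxRho cxE6_f cxE6_lift w p = p) : w = 1 := by
  refine cox_faithful_of_steps cxE6_f cxE6_lift ?_ w hw
  intro k hk w hw hρ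
  interval_cases k
  · exact cxE6_L0.faithful_step cxE6_lift w hw hρ
  · exact cxE6_L1.faithful_step cxE6_lift w hw hρ
  · exact cxE6_L2.faithful_step cxE6_lift w hw hρ
  · exact cxE6_L3.faithful_step cxE6_lift w hw hρ
  · exact cxE6_L4.faithful_step cxE6_lift w hw hρ
  · exact cxE6_L5.faithful_step cxE6_lift w hw hρ

def cxE6_V : List (List (Fin 6)) := List.map (coxDecW 6) [
  204050603040502040301,
  4050603040502040301,
  50603040502040301,
  603040502040301,
  3040502040301,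
  506040502040301,
  6040502040301,
  40502040301,
  60502040301,
  502040301,
  2040301,
  605040301,
  5040301,
  40301,
  301,
  1,
  50604050204010301,
  604050204010301,
  4050204010301,
  6050204010301,
  50204010301,
  204010301,
  605030204010301,
  5030204010301,
  30204010301,
  4030204010301,
  60504010301,
  504010301,
  4010301,
  10301,
  6050304010301,
  50304010301,
  304010301,
  604050304010301,
  4050304010301,
  50604050304010301,
  506040503040103,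
  40503040103,
  6040503040103,
  3040103,
  503040103,
  60503040103,
  103,
  40103,
  5040103,
  605040103,
  40302040103,
  302040103,
  50302040103,
  6050302040103,
  2040103,
  502040103,
  60502040103,
  40502040103,
  6040502040103,
  506040502040103,
  0,
  3,
  403,
  50403,
  6050403,
  20403,
  5020403,
  605020403,
  405020403,
  60405020403,
  5060405020403,
  30405020403,
  6030405020403,
  506030405020403,
  40506030405020403,
  2040506030405020403]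

theorem cxE6_cok : coxCenterOK cxE6_f cxE6_neg 56 0 cxE6_V = true := by decide +kernel

theorem cxE6_noneg : coxInv cxE6_A5 cxE6_neg ∉ cxE6_X5.map (fun x => coxInv cxE6_A5 (coxAct cxE6_f x)) := by
  decide +kernel

theorem cxE6_center : Nat.card (Subgroup.center CoxeterMatrix.E₆.Group) = 1 ∧
    Subgroup.center CoxeterMatrix.E₆.Group ≤ Subgroup.zpowers ((List.finRange 6).map CoxeterMatrix.E₆.simple).prod := by
  obtain ⟨h1, h2, h3, h4, h5⟩ := coxCenterOK_sound cxE6_f cxE6_neg _ _ _ cxE6_cok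
  refine cox_center_trivial cxE6_f cxE6_lift cxE6_neg cxE6_faithful
    (cox_center_act cxE6_f cxE6_lift cxE6_neg _ _ _ h1 h2 h3 h4) (fun w => ?_)
  have hw : w ∈ coxPar CoxeterMatrix.E₆ (5 + 1) := by
    have := coxPar_top CoxeterMatrix.E₆
    rw [this]; exact Subgroup.mem_top w
  exact cxE6_L5.not_act cxE6_lift cxE6_neg cxE6_noneg w hw

end Cfsg.Agent.H46
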