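import Mathlib
import Cfsg.Agent.H46.CoxChain

/-!
Helper (helper46): order, faithful action and centre of the Coxeter group of type F4
(generated certificates, checked by kernel evaluation).
-/

namespace Cfsg.Agent.H46

def cxF4_T : List ℕ := [
  541649279096406802560440431491194429253756452363921653761,
  565978017017785016870939583552449534155923940373711356416,
  566073054096128852888629922809030823694379322505011855616,
  566073425323231598847880800234664353416284119153443471616]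

def cxF4_negT : ℕ := 96533667595335344311200144916688449305687896108635671

def cxF4_f : Fin 4 → Fin 24 → Fin 24 := coxTab 24 cxF4_T

def cxF4_neg : Fin 24 → Fin 24 := coxTab1 24 cxF4_negT

def cxF4_MT : ℕ := 1378718596071629361

def cxF4_mf : Fin 4 → Fin 4 → ℕ := coxMat 4 cxF4_MT

theorem cxF4_hm : ∀ a b, cxF4_mf a b = CoxeterMatrix.F₄ a b :=
  coxMat_of_OK _ _ (by decide +kernel)

theorem cxF4_lift : CoxeterMatrix.IsLiftable (G := Function.End (Fin 24)) CoxeterMatrix.F₄ cxF4_f :=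
  coxLift_of_OK _ cxF4_mf cxF4_hm _ (by decide +kernel)

def cxF4_X0 : List (List (Fin 4)) := [
  [],
  [0]]

def cxF4_R0_0 : List (List CoxEntry) := [
  [(0, 1, 0)],
  [(3, 0, 0)]]

theorem cxF4_rc0_0 : coxRowsFrom cxF4_mf 0 cxF4_X0 0 40 cxF4_R0_0 = true := by decide +kernel

theorem cxF4_rows0 : ∀ x ∈ cxF4_X0, CoxRowProp CoxeterMatrix.F₄ 0 cxF4_X0 x := by
  intro x hx
  obtain ⟨i, hi, rfl⟩ := List.mem_iff_getElem.mp hx
  have hlen : cxF4_X0.length = 2 := by decide +kernel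
  have hi' : i < 2 := lt_of_lt_of_eq hi hlen
  exact coxRowsFrom_sound cxF4_mf cxF4_hm 0 cxF4_X0 0 40 cxF4_R0_0 cxF4_rc0_0 i (by omega) (by omega) hi

def cxF4_I0 : List (List ℕ) := [
  [1000003],
  [8007943]]

def cxF4_A0 : List (List (Fin 24)) := [[0]]

theorem cxF4_L0 : CoxLevel CoxeterMatrix.F₄ cxF4_f 0 cxF4_X0 cxF4_A0 :=
  coxLevel_of_OK cxF4_f 0 cxF4_X0 cxF4_A0 cxF4_I0 cxF4_rows0 (by decide +kernel)

def cxF4_X1 : List (List (Fin 4)) := [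
  [],
  [1],
  [0, 1]]

def cxF4_R1_0 : List (List CoxEntry) := [
  [(0, 0, 1), (0, 1, 0)],
  [(0, 2, 0), (3, 0, 0)],
  [(3, 1, 0), (3, 2, 1)]]

theorem cxF4_rc1_0 : coxRowsFrom cxF4_mf 1 cxF4_X1 0 40 cxF4_R1_0 = true := by decide +kernel

theorem cxF4_rows1 : ∀ x ∈ cxF4_X1, CoxRowProp CoxeterMatrix.F₄ 1 cxF4_X1 x := by
  intro x hx
  obtain ⟨i, hi, rfl⟩ := List.mem_iff_getElem.mp hx
  have hlen : cxF4_X1.length = 3 := by decide +kernel
  have hi' : i < 3 := lt_of_lt_of_eq hi hlen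
  exact coxRowsFrom_sound cxF4_mf cxF4_hm 1 cxF4_X1 0 40 cxF4_R1_0 cxF4_rc1_0 i (by omega) (by omega) hi

def cxF4_I1 : List (List ℕ) := [
  [27015919],
  [8007943],
  [1000003]]

def cxF4_A1 : List (List (Fin 24)) := [[2]]

theorem cxF4_L1 : CoxLevel CoxeterMatrix.F₄ cxF4_f 1 cxF4_X1 cxF4_A1 :=
  coxLevel_of_OK cxF4_f 1 cxF4_X1 cxF4_A1 cxF4_I1 cxF4_rows1 (by decide +kernel)

def cxF4_X2 : List (List (Fin 4)) := [
  [],
  [2],
  [1, 2],
  [0, 1, 2],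
  [2, 1, 2],
  [2, 0, 1, 2],
  [1, 2, 0, 1, 2],
  [2, 1, 2, 0, 1, 2]]

def cxF4_R2_0 : List (List CoxEntry) := [
  [(0, 0, 1), (0, 0, 2), (0, 1, 0)],
  [(3, 1, 1), (0, 2, 0), (3, 0, 0)],
  [(0, 3, 0), (3, 1, 0), (0, 4, 0)],
  [(3, 2, 0), (235, 3, 1), (0, 5, 0)],
  [(3, 5, 0), (3, 4, 2), (3, 2, 0)],
  [(59, 4, 0), (0, 6, 0), (3, 3, 0)],
  [(3648890, 6, 2), (3, 5, 0), (0, 7, 0)],
  [(934204906, 7, 2), (60331, 7, 1), (3, 6, 0)]]

theorem cxF4_rc2_0 : coxRowsFrom cxF4_mf 2 cxF4_X2 0 40 cxF4_R2_0 = true := by decide +kernel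

theorem cxF4_rows2 : ∀ x ∈ cxF4_X2, CoxRowProp CoxeterMatrix.F₄ 2 cxF4_X2 x := by
  intro x hx
  obtain ⟨i, hi, rfl⟩ := List.mem_iff_getElem.mp hx
  have hlen : cxF4_X2.length = 8 := by decide +kernel
  have hi' : i < 8 := lt_of_lt_of_eq hi hlen
  exact coxRowsFrom_sound cxF4_mf cxF4_hm 2 cxF4_X2 0 40 cxF4_R2_0 cxF4_rc2_0 i (by omega) (by omega) hi

def cxF4_I2 : List (List ℕ) := [
  [36023865],
  [73031895],
  [244056165],
  [1035098133],
  [281064195],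
  [1072106163],
  [1243130433],
  [1280138463]]

def cxF4_A2 : List (List (Fin 24)) := [[0, 1, 2]]

theorem cxF4_L2 : CoxLevel CoxeterMatrix.F₄ cxF4_f 2 cxF4_X2 cxF4_A2 :=
  coxLevel_of_OK cxF4_f 2 cxF4_X2 cxF4_A2 cxF4_I2 cxF4_rows2 (by decide +kernel)

def cxF4_X3 : List (List (Fin 4)) := [
  [],
  [3],
  [2, 3],
  [1, 2, 3],
  [0, 1, 2, 3],
  [2, 1, 2, 3],
  [2, 0, 1, 2, 3],
  [3, 2, 1, 2, 3],
  [1, 2, 0, 1, 2, 3],
  [3, 2, 0, 1, 2, 3],
  [2, 1, 2, 0, 1, 2, 3],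
  [3, 1, 2, 0, 1, 2, 3],
  [3, 2, 1, 2, 0, 1, 2, 3],
  [2, 3, 1, 2, 0, 1, 2, 3],
  [2, 3, 2, 1, 2, 0, 1, 2, 3],
  [1, 2, 3, 1, 2, 0, 1, 2, 3],
  [1, 2, 3, 2, 1, 2, 0, 1, 2, 3],
  [0, 1, 2, 3, 1, 2, 0, 1, 2, 3],
  [0, 1, 2, 3, 2, 1, 2, 0, 1, 2, 3],
  [2, 1, 2, 3, 2, 1, 2, 0, 1, 2, 3],
  [2, 0, 1, 2, 3, 2, 1, 2, 0, 1, 2, 3],
  [1, 2, 0, 1, 2, 3, 2, 1, 2, 0, 1, 2, 3],
  [2, 1, 2, 0, 1, 2, 3, 2, 1, 2, 0, 1, 2, 3],
  [3, 2, 1, 2, 0, 1, 2, 3, 2, 1, 2, 0, 1, 2, 3]]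

def cxF4_R3_0 : List (List CoxEntry) := [
  [(0, 0, 1), (0, 0, 2), (0, 0, 3), (0, 1, 0)],
  [(3, 1, 1), (3, 1, 2), (0, 2, 0), (3, 0, 0)],
  [(59, 2, 1), (0, 3, 0), (3, 1, 0), (3, 2, 3)],
  [(0, 4, 0), (3, 2, 0), (0, 5, 0), (59, 3, 3)],
  [(3, 3, 0), (3819, 4, 1), (0, 6, 0), (955, 4, 3)],
  [(3, 6, 0), (939, 5, 2), (3, 3, 0), (0, 7, 0)],
  [(59, 5, 0), (0, 8, 0), (3, 4, 0), (0, 9, 0)],
  [(59, 9, 0), (15035, 7, 2), (3819, 7, 3), (3, 5, 0)],
  [(57305443706, 8, 2), (3, 6, 0), (0, 10, 0), (0, 11, 0)],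
  [(955, 7, 0), (3, 11, 0), (61163, 9, 3), (3, 6, 0)],
  [(14670193677802, 10, 2), (977835, 10, 1), (3, 8, 0), (0, 12, 0)],
  [(14670193677802, 11, 2), (59, 9, 0), (0, 13, 0), (3, 8, 0)],
  [(3755569583052714, 12, 2), (15645371, 12, 1), (0, 14, 0), (3, 10, 0)],
  [(3755569583052714, 13, 2), (0, 15, 0), (3, 11, 0), (3, 14, 0)],
  [(961425813286510250, 14, 2), (0, 16, 0), (3, 12, 0), (235, 13, 0)],
  [(0, 17, 0), (3, 13, 0), (938414835422698, 15, 3), (59, 16, 0)],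
  [(0, 18, 0), (3, 14, 0), (0, 19, 0), (3771, 15, 0)],
  [(3, 15, 0), (61531252050202294954, 17, 2), (240234197869746090, 17, 3), (955, 18, 0)],
  [(3, 16, 0), (15752000524909767158442, 18, 2), (0, 20, 0), (60347, 17, 0)],
  [(3, 20, 0), (4005215147, 19, 1), (3, 16, 0), (1120922595784621167049450, 19, 3)],
  [(59, 19, 0), (0, 21, 0), (3, 18, 0), (264829053105869450652729863082, 20, 3)],
  [(3935305571052158692730, 21, 1), (3, 20, 0), (0, 22, 0), (67796237595102579367373746712234, 21, 3)],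
  [(1007438226189352625427946, 22, 1), (16517169702408162199847217834, 22, 2), (3, 21, 0), (0, 23, 0)],
  [(257904185904474272111089578, 23, 1), (4228395443816489945372736268970, 23, 2), (1110773556758160660355402792475224746, 23, 3), (3, 22, 0)]]

theorem cxF4_rc3_0 : coxRowsFrom cxF4_mf 3 cxF4_X3 0 40 cxF4_R3_0 = true := by decide +kernel

theorem cxF4_rows3 : ∀ x ∈ cxF4_X3, CoxRowProp CoxeterMatrix.F₄ 3 cxF4_X3 x := by
  intro x hx
  obtain ⟨i, hi, rfl⟩ := List.mem_iff_getElem.mp hx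
  have hlen : cxF4_X3.length = 24 := by decide +kernel
  have hi' : i < 24 := lt_of_lt_of_eq hi hlen
  exact coxRowsFrom_sound cxF4_mf cxF4_hm 3 cxF4_X3 0 40 cxF4_R3_0 cxF4_rc3_0 i (by omega) (by omega) hi

def cxF4_I3 : List (List ℕ) := [
  [1316162328],
  [1835187642],
  [2438213208],
  [1365788219],
  [4933002891],
  [2118814235],
  [6286030707],
  [2937840449],
  [3468646074],
  [5557575074],
  [4971674340],
  [3040191341],
  [4114764874],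
  [6496249223],
  [6067794490],
  [4578867290],
  [4450413457],
  [7601125918],
  [5925190238],
  [6553443523],
  [8628222104],
  [5265881427],
  [8118913743],
  [6742978963]]

def cxF4_A3 : List (List (Fin 24)) := [[0, 1, 2, 3, 5, 9]]

theorem cxF4_L3 : CoxLevel CoxeterMatrix.F₄ cxF4_f 3 cxF4_X3 cxF4_A3 :=
  coxLevel_of_OK cxF4_f 3 cxF4_X3 cxF4_A3 cxF4_I3 cxF4_rows3 (by decide +kernel)

theorem cxF4_card : Nat.card CoxeterMatrix.F₄.Group = 1152 := by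
  have h0 : Nat.card (coxPar CoxeterMatrix.F₄ 1) = cxF4_X0.length * Nat.card (coxPar CoxeterMatrix.F₄ 0) :=
    cxF4_L0.card cxF4_lift
  have h1 : Nat.card (coxPar CoxeterMatrix.F₄ 2) = cxF4_X1.length * Nat.card (coxPar CoxeterMatrix.F₄ 1) :=
    cxF4_L1.card cxF4_lift
  have h2 : Nat.card (coxPar CoxeterMatrix.F₄ 3) = cxF4_X2.length * Nat.card (coxPar CoxeterMatrix.F₄ 2) :=
    cxF4_L2.card cxF4_lift
  have h3 : Nat.card (coxPar CoxeterMatrix.F₄ 4) = cxF4_X3.length * Nat.card (coxPar CoxeterMatrix.F₄ 3) :=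
    cxF4_L3.card cxF4_lift
  have hl : cxF4_X3.length * (cxF4_X2.length * (cxF4_X1.length * (cxF4_X0.length * 1))) = 1152 := by decide +kernel
  rw [← coxPar_card_top (M := CoxeterMatrix.F₄), h3, h2, h1, h0, coxPar_card_zero]
  exact hl

theorem cxF4_faithful (w : CoxeterMatrix.F₄.Group) (hw : ∀ p, coxRho cxF4_f cxF4_lift w p = p) : w = 1 := by
  refine cox_faithful_of_steps cxF4_f cxF4_lift ?_ w hw
  intro k hk w hw hρ
  interval_cases k
  · exact cxF4_L0.faithful_step cxF4_lift w hw hρ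
  · exact cxF4_L1.faithful_step cxF4_lift w hw hρ
  · exact cxF4_L2.faithful_step cxF4_lift w hw hρ
  · exact cxF4_L3.faithful_step cxF4_lift w hw hρ

def cxF4_V : List (List (Fin 4)) := List.map (coxDecW 4) [
  102030402030201,
  2030402030201,
  30402030201,
  402030201,
  2030201,
  4030201,
  30201,
  201,
  1,
  403010201,
  3010201,
  10201,
  102,
  30102,
  4030102,
  0,
  2,
  302,
  40302,
  20302,
  4020302,
  304020302,
  20304020302,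
  1020304020302]

theorem cxF4_cok : coxCenterOK cxF4_f cxF4_neg 15 0 cxF4_V = true := by decide +kernel

theorem cxF4_nok : coxNegOK cxF4_f cxF4_neg 6 = true := by decide +kernel

theorem cxF4_center : Nat.card (Subgroup.center CoxeterMatrix.F₄.Group) = 2 ∧
    Subgroup.center CoxeterMatrix.F₄.Group ≤ Subgroup.zpowers ((List.finRange 4).map CoxeterMatrix.F₄.simple).prod := by
  obtain ⟨h1, h2, h3, h4, h5⟩ := coxCenterOK_sound cxF4_f cxF4_neg _ _ _ cxF4_cok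
  exact cox_center_of_neg cxF4_f cxF4_lift cxF4_neg _ cxF4_faithful
    (cox_center_act cxF4_f cxF4_lift cxF4_neg _ _ _ h1 h2 h3 h4) h1 h5 6
    (coxNegOK_sound cxF4_f cxF4_neg 6 cxF4_nok)

end Cfsg.Agent.H46
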