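import Cfsg.Agent.H46.ParaChk
import Cfsg.Prelude.Def_ChevG2
import Cfsg.Prelude.Def_ChevB2
import Cfsg.Prelude.Def_ChevD4
import Cfsg.Prelude.Def_ChevF4
import Cfsg.Prelude.Def_ChevE6

set_option autoImplicit false

/-!
# Table data for `TabPF` (generated offline, checked by kernel evaluation)
-/

namespace Cfsg.Agent.H46

open Cfsg.Lie Cfsg.Agent.H23

def pfW1G2 : List (List ℕ) := [[7, 6], [7, 6]]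

def pfW2G2 : List (List ℕ) := [[0, 0, 0, 0, 0, 8, 7, 0, 0, 0, 0, 0], [0, 0, 0, 0, 8, 0, 0, 6, 0, 0, 0, 0]]

theorem pfRefl_G2 : pfReflChk chevG2 pfW1G2 = true := by decide +kernel

theorem pfSum_G2 : pfSumChk chevG2 pfW2G2 = true := by decide +kernel

theorem tabPF_G2 : TabPF chevG2 := tabPF_of_chk pfRefl_G2 pfSum_G2

def pfW1B2 : List (List ℕ) := [[5, 4], [5, 4]]

def pfW2B2 : List (List ℕ) := [[0, 0, 0, 6, 5, 0, 0, 0], [0, 0, 6, 0, 0, 4, 0, 0]]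

theorem pfRefl_B2 : pfReflChk chevB2 pfW1B2 = true := by decide +kernel

theorem pfSum_B2 : pfSumChk chevB2 pfW2B2 = true := by decide +kernel

theorem tabPF_B2 : TabPF chevB2 := tabPF_of_chk pfRefl_B2 pfSum_B2

def pfW1D4 : List (List ℕ) := [[18, 14, 16, 15], [18, 14, 13, 12], [19, 14, 13, 15], [19, 14, 16, 12]]

def pfW2D4 : List (List ℕ) := [[0, 0, 0, 0, 0, 0, 22, 21, 20, 19, 21, 20, 19, 19, 18, 18, 18, 18, 0, 0, 0, 0, 0, 0], [0, 0, 0, 0, 0, 19, 0, 0, 0, 0, 16, 15, 14, 14, 0, 0, 0, 0, 14, 0, 0, 0, 0, 0], [0, 0, 0, 22, 21, 21, 0, 0, 17, 16, 0, 17, 16, 0, 13, 13, 0, 0, 16, 13, 13, 0, 0, 0], [0, 0, 22, 0, 20, 20, 0, 17, 0, 15, 17, 0, 0, 15, 12, 0, 12, 0, 15, 12, 0, 12, 0, 0]]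

theorem pfRefl_D4 : pfReflChk chevD4 pfW1D4 = true := by decide +kernel

theorem pfSum_D4 : pfSumChk chevD4 pfW2D4 = true := by decide +kernel

theorem tabPF_D4 : TabPF chevD4 := tabPF_of_chk pfRefl_D4 pfSum_D4

def pfW1F4 : List (List ℕ) := [[33, 27, 28, 29], [33, 27, 25, 26], [34, 27, 25, 24], [35, 28, 25, 24]]

def pfW2F4 : List (List ℕ) := [[0, 0, 0, 0, 0, 0, 0, 0, 0, 0, 0, 0, 0, 0, 0, 39, 38, 37, 36, 35, 34, 36, 35, 36, 35, 34, 34, 33, 33, 33, 33, 33, 33, 0, 0, 0, 0, 0, 0, 0, 0, 0, 0, 0, 0, 0, 0, 0], [0, 0, 0, 0, 0, 0, 0, 0, 0, 0, 0, 0, 0, 0, 34, 0, 0, 0, 0, 0, 0, 29, 28, 29, 28, 27, 27, 0, 0, 0, 0, 0, 0, 27, 0, 0, 0, 0, 0, 0, 0, 0, 0, 0, 0, 0, 0, 0], [0, 0, 0, 0, 0, 0, 0, 0, 0, 0, 0, 0, 0, 35, 35, 0, 0, 0, 0, 0, 28, 0, 0, 26, 25, 0, 0, 25, 0, 0, 0, 0, 0, 28, 25,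 0, 0, 0, 0, 0, 0, 0, 0, 0, 0, 0, 0, 0], [0, 0, 0, 0, 0, 0, 42, 0, 0, 0, 38, 0, 36, 36, 36, 0, 0, 31, 0, 29, 29, 0, 26, 0, 0, 24, 0, 26, 24, 0, 24, 0, 0, 29, 26, 24, 0, 24, 0, 0, 0, 24, 0, 0, 0, 0, 0, 0]]

theorem pfRefl_F4 : pfReflChk chevF4 pfW1F4 = true := by decide +kernel

theorem pfSum_F4 : pfSumChk chevF4 pfW2F4 = true := by decide +kernel

theorem tabPF_F4 : TabPF chevF4 := tabPF_of_chk pfRefl_F4 pfSum_F4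

def pfW1E6 : List (List ℕ) := [[56, 50, 42, 43, 44, 45], [58, 46, 43, 39, 40, 41], [56, 47, 42, 39, 40, 41], [57, 46, 42, 39, 37, 38], [58, 47, 43, 39, 37, 36], [59, 48, 44, 40, 37, 36]]

def pfW2E6 : List (List ℕ) := [[0, 0, 0, 0, 0, 0, 0, 0, 0, 0, 0, 0, 0, 0, 0, 0, 66, 65, 64, 63, 62, 61, 63, 62, 61, 61, 60, 59, 58, 57, 60, 59, 58, 60, 59, 60, 59, 58, 58, 57, 57, 57, 56, 56, 56, 56, 58, 57, 57, 57, 56, 56, 56, 56, 56, 56, 0, 0, 0, 0, 0, 0, 0, 0, 0, 0, 0, 0, 0, 0, 0, 0], [0, 0, 0, 0, 0, 0, 0, 0, 0, 0, 0, 63, 62, 61, 61, 61, 0, 0, 0, 0, 0, 0, 0, 0, 0, 0, 52, 51, 50, 50, 49, 48, 47, 49, 48, 49, 48, 47, 47, 46, 46, 46, 47, 46, 46, 46, 0, 0, 0, 0, 0, 0, 0, 0, 0, 0, 50, 47, 46, 46, 46, 0, 0, 0, 0, 0, 0, 0, 0, 0, 0, 0], [0, 0, 0, 0, 0, 0, 0, 0, 0, 0, 0, 0, 0, 0, 0, 57, 0,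 0, 0, 0, 0, 0, 52, 51, 50, 50, 0, 0, 0, 0, 45, 44, 43, 45, 44, 45, 44, 43, 43, 42, 42, 42, 0, 0, 0, 0, 43, 42, 42, 42, 0, 0, 0, 0, 0, 0, 42, 0, 0, 0, 0, 0, 0, 0, 0, 0, 0, 0, 0, 0, 0, 0], [0, 0, 0, 0, 0, 0, 0, 0, 0, 0, 0, 0, 0, 0, 58, 58, 0, 0, 0, 0, 0, 0, 0, 0, 0, 47, 0, 0, 0, 43, 0, 0, 0, 41, 40, 41, 40, 39, 39, 0, 0, 0, 39, 0, 0, 0, 39, 0, 0, 0, 0, 0, 0, 0, 0, 0, 43, 39, 0, 0, 0, 0, 0, 0, 0, 0, 0, 0, 0, 0, 0, 0], [0, 0, 0, 0, 0, 0, 0, 0, 0, 0, 62, 0, 0, 59, 59, 59, 0, 0, 0, 0, 0, 51, 0, 0, 48, 48, 0, 0, 44, 44, 0, 0, 40, 0, 0, 38, 37, 0, 0, 37, 0, 0, 40, 37, 0, 0, 40, 37, 0, 0, 37, 0, 0, 0, 0, 0, 44, 40, 37, 0, 0, 37, 0, 0, 0, 0, 0, 0, 0, 0, 0, 0], [0, 0, 0, 0, 68, 0, 0, 65, 0, 63, 63, 0, 60, 60, 60, 60, 0, 0, 54, 0, 52, 52, 0, 49, 49, 49, 0, 45, 45, 45, 0, 41, 41,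 0, 38, 0, 0, 36, 0, 38, 36, 0, 41, 38, 36, 0, 41, 38, 36, 0, 38, 36, 0, 36, 0, 0, 45, 41, 38, 36, 0, 38, 36, 0, 36, 0, 0, 36, 0, 0, 0, 0]]

theorem pfRefl_E6 : pfReflChk chevE6 pfW1E6 = true := by decide +kernel

theorem pfSum_E6 : pfSumChk chevE6 pfW2E6 = true := by decide +kernel

theorem tabPF_E6 : TabPF chevE6 := tabPF_of_chk pfRefl_E6 pfSum_E6

end Cfsg.Agent.H46
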