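import Cfsg.Agent.H46.ParaChk
import Cfsg.Prelude.Def_ChevE7

set_option autoImplicit false

/-!
# Table data for `TabPF` (generated offline, checked by kernel evaluation)
-/

namespace Cfsg.Agent.H46

open Cfsg.Lie Cfsg.Agent.H23

def pfW1E7 : List (List ℕ) := [[93, 83, 73, 74, 75, 76, 77], [95, 78, 74, 69, 70, 71, 72], [93, 79, 73, 69, 70, 71, 72], [94, 78, 73, 69, 66, 67, 68], [95, 79, 74, 69, 66, 64, 65], [96, 80, 75, 70, 66, 64, 63], [97, 81, 76, 71, 67, 64, 63]]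

def pfW2E7 : List (List ℕ) := [[0, 0, 0, 0, 0, 0, 0, 0, 0, 0, 0, 0, 0, 0, 0, 0, 0, 0, 0, 0, 0, 0, 0, 0, 0, 0, 0, 0, 0, 0, 0, 0, 0, 108, 107, 106, 105, 104, 103, 102, 101, 100, 99, 102, 101, 100, 99, 99, 98, 97, 96, 95, 94, 98, 97, 96, 95, 98, 97, 96, 98, 97, 98, 97, 96, 96, 95, 95, 95, 94, 94, 94, 94, 93, 93, 93, 93, 93, 95, 94, 94, 94, 94, 93, 93, 93, 93, 93, 93, 93, 93, 93, 93, 0, 0, 0, 0, 0, 0, 0, 0, 0, 0, 0, 0, 0, 0, 0, 0, 0, 0, 0, 0, 0, 0, 0, 0, 0, 0, 0, 0, 0, 0, 0, 0, 0], [0, 0, 0, 0, 0, 0, 0, 0, 0, 0, 0, 0, 0, 0, 0, 0, 0, 0, 0, 0, 0, 0, 0, 0, 0, 0, 0, 102, 101, 100, 99, 99, 99, 0, 0, 0, 0, 0, 0, 0, 0, 0, 0, 0, 0, 0, 0, 0, 86, 85, 84, 83, 83, 82, 81, 80, 79, 82, 81, 80, 82, 81, 82, 81, 80, 80, 79, 79, 79,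 78, 78, 78, 78, 79, 78, 78, 78, 78, 0, 0, 0, 0, 0, 0, 0, 0, 0, 0, 0, 0, 0, 0, 0, 83, 79, 78, 78, 78, 78, 0, 0, 0, 0, 0, 0, 0, 0, 0, 0, 0, 0, 0, 0, 0, 0, 0, 0, 0, 0, 0, 0, 0, 0, 0, 0, 0], [0, 0, 0, 0, 0, 0, 0, 0, 0, 0, 0, 0, 0, 0, 0, 0, 0, 0, 0, 0, 0, 0, 0, 0, 0, 0, 0, 0, 0, 0, 0, 0, 94, 0, 0, 0, 0, 0, 0, 0, 0, 0, 0, 86, 85, 84, 83, 83, 0, 0, 0, 0, 0, 77, 76, 75, 74, 77, 76, 75, 77, 76, 77, 76, 75, 75, 74, 74, 74, 73, 73, 73, 73, 0, 0, 0, 0, 0, 74, 73, 73, 73, 73, 0, 0, 0, 0, 0, 0, 0, 0, 0, 0, 73, 0, 0, 0, 0, 0, 0, 0, 0, 0, 0, 0, 0, 0, 0, 0, 0, 0, 0, 0, 0, 0, 0, 0, 0, 0, 0, 0, 0, 0, 0, 0, 0], [0, 0, 0, 0, 0, 0, 0, 0, 0, 0, 0, 0, 0, 0, 0, 0, 0, 0, 0, 0, 0, 0, 0, 0, 0, 0, 0, 0, 0, 0, 0, 95, 95, 0, 0, 0, 0, 0, 0,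 0, 0, 0, 0, 0, 0, 0, 0, 79, 0, 0, 0, 0, 74, 0, 0, 0, 0, 72, 71, 70, 72, 71, 72, 71, 70, 70, 69, 69, 69, 0, 0, 0, 0, 69, 0, 0, 0, 0, 69, 0, 0, 0, 0, 0, 0, 0, 0, 0, 0, 0, 0, 0, 0, 74, 69, 0, 0, 0, 0, 0, 0, 0, 0, 0, 0, 0, 0, 0, 0, 0, 0, 0, 0, 0, 0, 0, 0, 0, 0, 0, 0, 0, 0, 0, 0, 0], [0, 0, 0, 0, 0, 0, 0, 0, 0, 0, 0, 0, 0, 0, 0, 0, 0, 0, 0, 0, 0, 0, 0, 0, 0, 0, 100, 0, 0, 0, 96, 96, 96, 0, 0, 0, 0, 0, 0, 0, 0, 0, 84, 0, 0, 0, 80, 80, 0, 0, 0, 75, 75, 0, 0, 0, 70, 0, 0, 0, 68, 67, 68, 67, 66, 66, 0, 0, 0, 66, 0, 0, 0, 70, 66, 0, 0, 0, 70, 66, 0, 0, 0, 66, 0, 0, 0, 0, 0, 0, 0, 0, 0, 75, 70, 66, 0, 0, 0, 66, 0, 0, 0, 0, 0, 0, 0, 0, 0, 0, 0, 0, 0, 0, 0, 0, 0, 0, 0, 0, 0, 0, 0, 0, 0, 0], [0, 0, 0, 0, 0, 0, 0, 0, 0, 0, 0,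 0, 0, 0, 0, 0, 110, 0, 0, 0, 0, 0, 104, 0, 0, 101, 101, 0, 0, 97, 97, 97, 97, 0, 0, 0, 0, 0, 88, 0, 0, 85, 85, 0, 0, 81, 81, 81, 0, 0, 76, 76, 76, 0, 0, 71, 71, 0, 0, 67, 0, 0, 65, 64, 0, 0, 64, 0, 0, 67, 64, 0, 0, 71, 67, 64, 0, 0, 71, 67, 64, 0, 0, 67, 64, 0, 0, 64, 0, 0, 0, 0, 0, 76, 71, 67, 64, 0, 0, 67, 64, 0, 0, 64, 0, 0, 0, 0, 0, 64, 0, 0, 0, 0, 0, 0, 0, 0, 0, 0, 0, 0, 0, 0, 0, 0], [0, 0, 0, 0, 0, 0, 120, 0, 0, 0, 116, 0, 0, 113, 0, 111, 111, 0, 0, 107, 0, 105, 105, 0, 102, 102, 102, 0, 98, 98, 98, 98, 98, 0, 0, 91, 0, 89, 89, 0, 86, 86, 86, 0, 82, 82, 82, 82, 0, 77, 77, 77, 77, 0, 72, 72, 72, 0, 68, 68, 0, 65, 0, 0, 63, 0, 65, 63, 0, 68, 65, 63, 0, 72, 68, 65, 63, 0, 72, 68, 65, 63, 0, 68, 65, 63, 0, 65,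 63, 0, 63, 0, 0, 77, 72, 68, 65, 63, 0, 68, 65, 63, 0, 65, 63, 0, 63, 0, 0, 65, 63, 0, 63, 0, 0, 63, 0, 0, 0, 63, 0, 0, 0, 0, 0, 0]]

theorem pfRefl_E7 : pfReflChk chevE7 pfW1E7 = true := by decide +kernel

theorem pfSum_E7 : pfSumChk chevE7 pfW2E7 = true := by decide +kernel

theorem tabPF_E7 : TabPF chevE7 := tabPF_of_chk pfRefl_E7 pfSum_E7

end Cfsg.Agent.H46
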