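import Cfsg.Agent.H46.PerfSmall

set_option autoImplicit false
set_option maxRecDepth 100000

/-!
# Certificates for the perfectness of the presented group in characteristics 2 and 3, type E8

Each entry `(q, r, s)` says that the commutator formula of the pair `(r, s)` starts with the root `q` (found by an
offline search, checked here by kernel evaluation).
-/

namespace Cfsg.Agent.H46

open Cfsg.Lie Cfsg.Agent.H23

/-- The certificate of type E8. -/
def perfCertE8 : List (ℕ × ℕ × ℕ) :=
  [(1, 0, 120), (2, 0, 122), (3, 0, 125), (4, 0, 129), (5, 0, 134), (6, 0, 140), (7, 0, 146), (8, 0, 151),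
    (9, 0, 155), (10, 0, 158), (11, 0, 160), (12, 0, 161), (14, 0, 168), (15, 0, 173), (16, 0, 177),
    (17, 0, 180), (18, 0, 182), (19, 0, 183), (21, 0, 187), (22, 0, 190), (23, 0, 192), (24, 0, 193),
    (26, 0, 196), (27, 0, 198), (28, 0, 199), (30, 0, 201), (31, 0, 202), (33, 0, 203), (36, 0, 206),
    (37, 0, 208), (38, 0, 209), (40, 0, 211), (41, 0, 212), (43, 0, 213), (46, 0, 215), (47, 0, 216),
    (49, 0, 217), (52, 0, 218), (56, 0, 220), (57, 0, 221), (59, 0, 222), (62, 0, 223), (66, 0, 224),
    (71, 0, 225), (78, 0, 227), (79, 0, 228), (81, 0, 229), (84, 0, 230), (88, 0, 231), (93, 0, 232),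
    (99, 0, 233), (105, 0, 234), (110, 0, 235), (114, 0, 236), (117, 0, 237), (119, 0, 238), (0, 1, 119),
    (13, 1, 161), (20, 1, 183), (25, 1, 193), (29, 1, 199), (32, 1, 202), (34, 1, 203), (39, 1, 209),
    (42, 1, 212), (44, 1, 213), (48, 1, 216), (50, 1, 217), (53, 1, 218), (58, 1, 221), (60, 1, 222),
    (63, 1, 223), (67, 1, 224), (72, 1, 225), (80, 1, 228), (82, 1, 229), (85, 1, 230), (89, 1, 231),
    (94, 1, 232), (100, 1, 233), (106, 1, 234), (111, 1, 235), (115, 1, 236), (118, 1, 237), (120, 1, 239),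
    (35, 2, 203), (45, 2, 213), (51, 2, 217), (54, 2, 218), (61, 2, 222), (64, 2, 223), (68, 2, 224),
    (73, 2, 225), (83, 2, 229), (86, 2, 230), (90, 2, 231), (95, 2, 232), (101, 2, 233), (107, 2, 234),
    (112, 2, 235), (116, 2, 236), (121, 2, 238), (122, 2, 239), (55, 3, 218), (65, 3, 223), (69, 3, 224),
    (74, 3, 225), (87, 3, 230), (91, 3, 231), (96, 3, 232), (102, 3, 233), (108, 3, 234), (113, 3, 235),
    (123, 3, 237), (124, 3, 238), (125, 3, 239), (70, 4, 224), (75, 4, 225), (92, 4, 231), (97, 4, 232),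
    (103, 4, 233), (109, 4, 234), (126, 4, 236), (127, 4, 237), (128, 4, 238), (129, 4, 239), (76, 5, 225),
    (98, 5, 232), (104, 5, 233), (130, 5, 235), (131, 5, 236), (132, 5, 237), (133, 5, 238), (134, 5, 239),
    (77, 6, 225), (135, 6, 234), (136, 6, 235), (137, 6, 236), (138, 6, 237), (139, 6, 238), (140, 6, 239),
    (141, 7, 234), (142, 7, 235), (143, 7, 236), (144, 7, 237), (145, 7, 238), (146, 7, 239), (147, 8, 235),
    (148, 8, 236), (149, 8, 237), (150, 8, 238), (151, 8, 239), (152, 9, 236), (153, 9, 237), (154, 9, 238),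
    (155, 9, 239), (156, 10, 237), (157, 10, 238), (158, 10, 239), (159, 11, 238), (160, 11, 239),
    (161, 12, 239), (162, 14, 233), (163, 14, 234), (164, 14, 235), (165, 14, 236), (166, 14, 237),
    (167, 14, 238), (168, 14, 239), (169, 15, 235), (170, 15, 236), (171, 15, 237), (172, 15, 238),
    (173, 15, 239), (174, 16, 236), (175, 16, 237), (176, 16, 238), (177, 16, 239), (178, 17, 237),
    (179, 17, 238), (180, 17, 239), (181, 18, 238), (182, 18, 239), (183, 19, 239), (184, 21, 236),
    (185, 21, 237), (186, 21, 238), (187, 21, 239), (188, 22, 237), (189, 22, 238), (190, 22, 239),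
    (191, 23, 238), (192, 23, 239), (193, 24, 239), (194, 26, 237), (195, 26, 238), (196, 26, 239),
    (197, 27, 238), (198, 27, 239), (199, 28, 239), (200, 30, 238), (201, 30, 239), (202, 31, 239),
    (203, 33, 239), (204, 36, 237), (205, 36, 238), (206, 36, 239), (207, 37, 238), (208, 37, 239),
    (209, 38, 239), (210, 40, 238), (211, 40, 239), (212, 41, 239), (213, 43, 239), (214, 46, 238),
    (215, 46, 239), (216, 47, 239), (217, 49, 239), (218, 52, 239), (219, 56, 238), (220, 56, 239),
    (221, 57, 239), (222, 59, 239), (223, 62, 239), (224, 66, 239), (225, 71, 239), (226, 78, 238),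
    (227, 78, 239), (228, 79, 239), (229, 81, 239), (230, 84, 239), (231, 88, 239), (232, 93, 239),
    (233, 99, 239), (234, 105, 239), (235, 110, 239), (236, 114, 239), (237, 117, 239), (238, 119, 239),
    (239, 120, 238)]

theorem perfChk_E8_2 : perfChk chevE8 2 perfCertE8 [] = true := by decide +kernel

theorem perfChk_E8_3 : perfChk chevE8 3 perfCertE8 [] = true := by decide +kernel

end Cfsg.Agent.H46
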