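import Cfsg.Agent.H46.PerfSmall

set_option autoImplicit false
set_option maxRecDepth 100000

/-!
# Certificates for the perfectness of the presented group in characteristics 2 and 3, small types

Each entry `(q, r, s)` says that the commutator formula of the pair `(r, s)` starts with the root `q` (found by an
offline search, checked here by kernel evaluation).
-/

namespace Cfsg.Agent.H46

open Cfsg.Lie Cfsg.Agent.H23

/-- The certificate of type G2. -/
def perfCertG2 : List (ℕ × ℕ × ℕ) :=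
  [(1, 0, 6), (5, 0, 10), (0, 1, 5), (6, 1, 11), (3, 2, 7), (4, 2, 8), (7, 2, 10), (8, 2, 11), (2, 3, 4),
    (10, 5, 11), (11, 6, 10), (9, 7, 8)]

theorem perfChk_G2_3 : perfChk chevG2 3 perfCertG2 [] = true := by decide +kernel

/-- The certificate of type B2. -/
def perfCertB2 : List (ℕ × ℕ × ℕ) :=
  [(0, 1, 2), (2, 1, 4), (3, 1, 5), (5, 1, 7), (1, 2, 3), (4, 2, 6), (6, 2, 7), (7, 5, 6)]

theorem perfChk_B2_3 : perfChk chevB2 3 perfCertB2 [] = true := by decide +kernel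

/-- The certificate of type D4. -/
def perfCertD4 : List (ℕ × ℕ × ℕ) :=
  [(1, 0, 14), (2, 0, 15), (3, 0, 16), (4, 0, 17), (6, 0, 19), (7, 0, 20), (8, 0, 21), (9, 0, 22), (0, 1, 9),
    (5, 1, 17), (10, 1, 20), (11, 1, 21), (14, 1, 23), (12, 2, 22), (15, 2, 23), (13, 3, 22), (16, 3, 23),
    (17, 4, 23), (18, 6, 22), (19, 6, 23), (20, 7, 23), (21, 8, 23), (22, 9, 23), (23, 14, 22)]

theorem perfChk_D4_2 : perfChk chevD4 2 perfCertD4 [] = true := by decide +kernel

theorem perfChk_D4_3 : perfChk chevD4 3 perfCertD4 [] = true := by decide +kernel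

/-- The certificate of type F4. -/
def perfCertF4 : List (ℕ × ℕ × ℕ) :=
  [(1, 0, 24), (2, 0, 26), (4, 0, 31), (5, 0, 32), (15, 0, 42), (16, 0, 43), (21, 0, 45), (23, 0, 46),
    (0, 1, 23), (3, 1, 28), (6, 1, 32), (7, 1, 35), (8, 1, 37), (17, 1, 43), (22, 1, 45), (24, 1, 47),
    (9, 2, 37), (10, 2, 38), (25, 2, 46), (26, 2, 47), (11, 3, 37), (12, 3, 38), (13, 3, 39), (14, 3, 40),
    (18, 3, 41), (19, 3, 42), (20, 3, 43), (27, 3, 45), (28, 3, 46), (29, 3, 47), (30, 4, 46), (31, 4, 47),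
    (32, 5, 47), (33, 7, 44), (34, 7, 45), (35, 7, 46), (36, 7, 47), (37, 8, 46), (38, 8, 47), (39, 9, 47),
    (40, 11, 47), (41, 15, 46), (42, 15, 47), (43, 16, 47), (44, 18, 47), (45, 21, 47), (46, 23, 47),
    (47, 24, 46)]

theorem perfChk_F4_2 : perfChk chevF4 2 perfCertF4 [] = true := by decide +kernel

theorem perfChk_F4_3 : perfChk chevF4 3 perfCertF4 [] = true := by decide +kernel

/-- The certificate of type E6. -/
def perfCertE6 : List (ℕ × ℕ × ℕ) :=
  [(1, 0, 46), (2, 0, 47), (3, 0, 48), (4, 0, 49), (5, 0, 50), (6, 0, 51), (7, 0, 52), (8, 0, 53),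
    (9, 0, 54), (10, 0, 55), (16, 0, 61), (17, 0, 62), (18, 0, 63), (19, 0, 64), (20, 0, 65), (21, 0, 66),
    (22, 0, 67), (23, 0, 68), (24, 0, 69), (25, 0, 70), (0, 1, 25), (11, 1, 53), (12, 1, 54), (13, 1, 55),
    (26, 1, 64), (27, 1, 65), (28, 1, 66), (30, 1, 67), (31, 1, 68), (32, 1, 69), (46, 1, 71), (14, 2, 55),
    (29, 2, 66), (33, 2, 67), (34, 2, 68), (39, 2, 70), (47, 2, 71), (35, 3, 67), (37, 3, 69), (40, 3, 70),
    (48, 3, 71), (36, 4, 68), (38, 4, 69), (41, 4, 70), (49, 4, 71), (15, 5, 55), (42, 5, 69), (43, 5, 70),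
    (50, 5, 71), (44, 6, 70), (51, 6, 71), (45, 7, 70), (52, 7, 71), (53, 8, 71), (54, 9, 71), (55, 10, 71),
    (56, 16, 66), (57, 16, 69), (58, 16, 70), (61, 16, 71), (59, 17, 70), (62, 17, 71), (60, 18, 70),
    (63, 18, 71), (64, 19, 71), (65, 20, 71), (66, 21, 71), (67, 22, 71), (68, 23, 71), (69, 24, 71),
    (70, 25, 71), (71, 46, 70)]

theorem perfChk_E6_2 : perfChk chevE6 2 perfCertE6 [] = true := by decide +kernel

theorem perfChk_E6_3 : perfChk chevE6 3 perfCertE6 [] = true := by decide +kernel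

end Cfsg.Agent.H46
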