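import Mathlib

/-!
# A quotient that is a direct product of a normal section and a cyclic group (helper46, for helper49)

`A ⧸ N ≅ D × C_f` when `P = ker Ψ` (`Ψ : A → C` onto a cyclic group of order `f`), `P / N ≅ D` via `χ`, and some
`φ` with `Ψ φ` of order `f`, `φ ^ f ∈ N` centralises `P` modulo `N`.
-/

set_option autoImplicit false

namespace Cfsg.Agent.H46.QPG

theorem zmod_equiv_of_cyclic {X : Type*} [Group X] (hX : IsCyclic X) (f : ℕ) (hc : Nat.card X = f) :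
    Nonempty (Multiplicative (ZMod f) ≃* X) := by
  subst hc; exact ⟨zmodCyclicMulEquiv hX⟩

theorem quot_equiv_prod_of_gen {A C D : Type*} [Group A] [Group C] [Group D] (N P : Subgroup A) [N.Normal]
    (Ψ : A →* C) (hsurj : Function.Surjective Ψ) (hP : Ψ.ker = P) (hN : N ≤ P)
    (χ : ↥P →* D) (hχs : Function.Surjective χ) (hχk : χ.ker = N.subgroupOf P)
    (f : ℕ) (hf : 0 < f) (hC : IsCyclic C) (hcard : Nat.card C = f)
    (φ : A) (hord : orderOf (Ψ φ) = f) (hpow : φ ^ f ∈ N)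
    (hcomm : ∀ x ∈ P, φ * x * φ⁻¹ * x⁻¹ ∈ N) :
    Nonempty (A ⧸ N ≃* D × Multiplicative (ZMod f)) := by
  let π : A →* A ⧸ N := QuotientGroup.mk' N
  have key : ∀ x : A, π x = 1 ↔ x ∈ N := fun x => QuotientGroup.eq_one_iff x
  have hπs : Function.Surjective π := QuotientGroup.mk'_surjective N
  have hPmem : ∀ x : A, x ∈ P ↔ Ψ x = 1 := fun x => by rw [← hP, MonoidHom.mem_ker]
  -- the map from `D`
  have hker : χ.ker ≤ (π.comp P.subtype).ker := by
    intro x hx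
    rw [hχk, Subgroup.mem_subgroupOf] at hx
    rw [MonoidHom.mem_ker]
    exact (key _).2 hx
  let g1 : D →* A ⧸ N :=
    (QuotientGroup.lift χ.ker (π.comp P.subtype) hker).comp
      (QuotientGroup.quotientKerEquivOfSurjective χ hχs).symm.toMonoidHom
  have hg1 : ∀ p : ↥P, g1 (χ p) = π p := by
    intro p
    have h1 : (QuotientGroup.quotientKerEquivOfSurjective χ hχs).symm (χ p) = (p : ↥P ⧸ χ.ker) := by
      rw [MulEquiv.symm_apply_eq]
      rfl
    show (QuotientGroup.lift χ.ker (π.comp P.subtype) hker)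
      ((QuotientGroup.quotientKerEquivOfSurjective χ hχs).symm (χ p)) = π p
    rw [h1]
    rfl
  -- the cyclic part
  have hxf : (π φ) ^ f = 1 := by rw [← map_pow]; exact (key _).2 hpow
  have hΨpow : ∀ k : ℤ, (π φ) ^ k = 1 → (Ψ φ) ^ k = 1 := by
    intro k hk
    rw [← map_zpow] at hk
    have h2 : φ ^ k ∈ P := hN ((key _).1 hk)
    rw [← map_zpow]
    exact (hPmem _).1 h2
  have hordx : orderOf (π φ) = f := by
    apply Nat.dvd_antisymm (orderOf_dvd_of_pow_eq_one hxf)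
    rw [← hord]
    apply orderOf_dvd_of_pow_eq_one
    have := hΨpow (orderOf (π φ) : ℤ) (by rw [zpow_natCast]; exact pow_orderOf_eq_one _)
    rwa [zpow_natCast] at this
  have hcardX : Nat.card ↥(Subgroup.zpowers (π φ)) = f := by rw [Nat.card_zpowers, hordx]
  obtain ⟨e⟩ := zmod_equiv_of_cyclic (X := ↥(Subgroup.zpowers (π φ))) (Subgroup.isCyclic_zpowers (π φ)) f hcardX
  let g2 : Multiplicative (ZMod f) →* A ⧸ N := (Subgroup.zpowers (π φ)).subtype.comp e.toMonoidHom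
  have hg2 : ∀ z, ∃ k : ℤ, (π φ) ^ k = g2 z := fun z => Subgroup.mem_zpowers_iff.1 (e z).2
  have hg2inj : Function.Injective g2 := by
    intro z z' hz
    have h3 : (e z : A ⧸ N) = (e z' : A ⧸ N) := hz
    exact e.injective (Subtype.ext h3)
  have hcommx : ∀ p ∈ P, Commute (π φ) (π p) := by
    intro p hp
    have h4 := (key _).2 (hcomm p hp)
    rw [map_mul, map_mul, map_mul, map_inv, map_inv] at h4
    have h5 := mul_inv_eq_one.1 h4
    exact mul_inv_eq_iff_eq_mul.1 h5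
  have hcomm12 : ∀ d z, Commute (g1 d) (g2 z) := by
    intro d z
    obtain ⟨p, rfl⟩ := hχs d
    obtain ⟨k, hk⟩ := hg2 z
    rw [hg1, ← hk]
    exact ((hcommx p p.2).zpow_left k).symm
  let F : D × Multiplicative (ZMod f) →* A ⧸ N := MonoidHom.noncommCoprod g1 g2 hcomm12
  have hFinj : Function.Injective F := by
    rw [injective_iff_map_eq_one]
    rintro ⟨d, z⟩ hdz
    have hdz' : g1 d * g2 z = 1 := hdz
    obtain ⟨p, rfl⟩ := hχs d
    obtain ⟨k, hk⟩ := hg2 z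
    rw [hg1, ← hk, ← map_zpow, ← map_mul] at hdz'
    have h6 : (p : A) * φ ^ k ∈ N := (key _).1 hdz'
    have h7 : Ψ ((p : A) * φ ^ k) = 1 := (hPmem _).1 (hN h6)
    rw [map_mul, (hPmem _).1 p.2, one_mul, map_zpow] at h7
    have h8 : (f : ℤ) ∣ k := by
      rw [← hord]; exact orderOf_dvd_iff_zpow_eq_one.2 h7
    have h9 : (π φ) ^ k = 1 := by
      rw [← hordx] at h8
      exact orderOf_dvd_iff_zpow_eq_one.1 h8
    have hz1 : z = 1 := by
      apply hg2inj
      rw [← hk, h9, map_one]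
    have h10 : (p : A) ∈ N := by
      have : (p : A) * φ ^ k ∈ N := h6
      have h11 : π (φ ^ k) = 1 := by rw [map_zpow]; exact h9
      have h12 : φ ^ k ∈ N := (key _).1 h11
      have := N.mul_mem this (N.inv_mem h12)
      rwa [mul_inv_cancel_right] at this
    have hp1 : χ p = 1 := by
      have : p ∈ χ.ker := by rw [hχk, Subgroup.mem_subgroupOf]; exact h10
      exact MonoidHom.mem_ker.1 this
    rw [hp1, hz1]; rfl
  have hCfin : Finite C := Nat.finite_of_card_ne_zero (by rw [hcard]; exact hf.ne')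
  have htop : Subgroup.zpowers (Ψ φ) = ⊤ := by
    apply Subgroup.eq_top_of_card_eq
    rw [Nat.card_zpowers, hord, hcard]
  have hFsurj : Function.Surjective F := by
    intro q
    obtain ⟨a, rfl⟩ := hπs q
    have h13 : Ψ a ∈ Subgroup.zpowers (Ψ φ) := by rw [htop]; exact Subgroup.mem_top _
    obtain ⟨k, hk⟩ := Subgroup.mem_zpowers_iff.1 h13
    have hp : a * (φ ^ k)⁻¹ ∈ P := by
      rw [hPmem, map_mul, map_inv, map_zpow, hk, mul_inv_cancel]
    refine ⟨(χ ⟨a * (φ ^ k)⁻¹, hp⟩, e.symm ⟨(π φ) ^ k, ⟨k, rfl⟩⟩), ?_⟩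
    show g1 (χ ⟨a * (φ ^ k)⁻¹, hp⟩) * g2 (e.symm ⟨(π φ) ^ k, ⟨k, rfl⟩⟩) = π a
    have h14 : g2 (e.symm ⟨(π φ) ^ k, ⟨k, rfl⟩⟩) = (π φ) ^ k := by
      show ((e (e.symm ⟨(π φ) ^ k, ⟨k, rfl⟩⟩) : ↥(Subgroup.zpowers (π φ))) : A ⧸ N) = _
      rw [MulEquiv.apply_symm_apply]
    rw [hg1, h14]
    show π (a * (φ ^ k)⁻¹) * (π φ) ^ k = π a
    rw [map_mul, map_inv, map_zpow, inv_mul_cancel_right]
  exact ⟨(MulEquiv.ofBijective F ⟨hFinj, hFsurj⟩).symm⟩

example {A C D : Type*} [Group A] [Group C] [Group D] (N P : Subgroup A) [N.Normal]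
    (Ψ : A →* C) (hsurj : Function.Surjective Ψ) (hP : Ψ.ker = P) (hN : N ≤ P)
    (χ : ↥P →* D) (hχs : Function.Surjective χ) (hχk : χ.ker = N.subgroupOf P)
    (f : ℕ) (hf : 0 < f) (hC : IsCyclic C) (hcard : Nat.card C = f)
    (φ : A) (hord : orderOf (Ψ φ) = f) (hpow : φ ^ f ∈ N)
    (hcomm : ∀ x ∈ P, φ * x * φ⁻¹ * x⁻¹ ∈ N) :
    Nonempty (A ⧸ N ≃* D × Multiplicative (ZMod f)) :=
  quot_equiv_prod_of_gen N P Ψ hsurj hP hN χ hχs hχk f hf hC hcard φ hord hpow hcomm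

end Cfsg.Agent.H46.QPG
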