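import Cfsg.Agent.H46.SqTw
import Cfsg.Agent.H23.TwD4g

set_option autoImplicit false

/-!
# `³D₄(q)`, `q` even: a `2`-subgroup of odd index generated by involutions (piece `S4625-TWD4`)
-/

namespace Cfsg.Agent.H46.Sq

open Cfsg.Lie Cfsg.Agent.H23

theorem twD4 : Cfsg.Agent.H56.Sq.TwD4Stmt := by
  intro K _ _ _ q hq hK _
  obtain ⟨T, B, hG, hblk, hcard, -, -, -, hBgen⟩ := tw_D4 hq hK
  have hV : SemV chevD4 K := trin_D4.semV chk_D4.tblOK K
  obtain ⟨k, hk⟩ := pow_two_of_card K q 3 (by norm_num) hK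
  have hq1 : 1 < q := hq.one_lt
  have hq0 : 0 < q := by omega
  have hqe : Even q := by
    rw [hk]
    have hk0 : k ≠ 0 := by
      rintro rfl
      rw [pow_zero] at hk
      omega
    exact Even.pow_of_ne_zero even_two hk0
  have hxx : ∀ (r : ℕ) (s : K), xU (packB_D4 K).sem r s * xU (packB_D4 K).sem r s = 1 := by
    intro r s
    rw [xU_mul, CharTwo.add_self_eq_zero, xU_zero]
  have hs0 : chevD4.simple 0 = 18 := (twD4_tab 0 (by decide)).1
  have hs2 : chevD4.simple 2 = 13 := (twD4_tab 2 (by decide)).1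
  have hs3 : chevD4.simple 3 = 12 := (twD4_tab 3 (by decide)).1
  have hinv : ∀ L ∈ B.blocks, ∀ s ∈ B.S L, B.gen L s * B.gen L s = 1 := by
    intro L hL s _
    rw [hblk] at hL
    rw [hBgen]
    simp only [blkD4, List.mem_cons, List.not_mem_nil, or_false] at hL
    rcases hL with rfl | rfl
    · exact hxx _ s
    · show xU (packB_D4 K).sem (chevD4.simple 3) (T.φ (T.φ s)) * xU (packB_D4 K).sem (chevD4.simple 2) (T.φ s) *
          xU (packB_D4 K).sem (chevD4.simple 0) s *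
        (xU (packB_D4 K).sem (chevD4.simple 3) (T.φ (T.φ s)) * xU (packB_D4 K).sem (chevD4.simple 2) (T.φ s) *
          xU (packB_D4 K).sem (chevD4.simple 0) s) = 1
      rw [hs0, hs2, hs3]
      exact sq3 _ _ _ (twD4_comm (18, 13) (by decide) s (T.φ s)) (twD4_comm (18, 12) (by decide) s (T.φ (T.φ s)))
        (twD4_comm (13, 12) (by decide) (T.φ s) (T.φ (T.φ s))) (hxx _ _) (hxx _ _) (hxx _ _)
  have hbw : BW B.blocks w0bD4 := by rw [hblk]; exact twD4_bw
  have hgen := pos_inf_le_closure (packB_D4 K) hV tabT_D4 tabL_D4 B hG w0bD4 tabW_D4b hbw hinv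
  have hU := card_pos_inf (packB_D4 K) hV tabT_D4 tabL_D4 B hG w0bD4 tabW_D4b hbw q hcard
  rw [twD4_numPos] at hU
  have hGc := twD4_card hq hK
  have hM : Odd ((q ^ 2 - 1) * (q ^ 6 - 1) * (q ^ 8 + q ^ 4 + 1)) :=
    ((odd_pow_sub_one q 2 hqe hq0 (by norm_num)).mul (odd_pow_sub_one q 6 hqe hq0 (by norm_num))).mul
      (Even.add_one (Even.add (Even.pow_of_ne_zero hqe (by norm_num : (8 : ℕ) ≠ 0)) (Even.pow_of_ne_zero hqe (by norm_num : (4 : ℕ) ≠ 0))))
  exact goodSyl_of_sub (twistedD4 K q) (chevD4.posUnipotent K ⊓ twistedD4 K q) inf_le_right q 12 _ k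
    1 hk hU (by rw [hGc, one_mul]; simp only [mul_assoc]) hM hgen

/-- The statement, verbatim. -/
example : ∀ (K : Type) [Field K] [Fintype K] [CharP K 2] (q : ℕ), IsPrimePow q →
    Fintype.card K = q ^ 3 → IsSimpleGroup (Lie.twistedD4 K q) → Cfsg.Agent.H56.Sq.GoodSyl (Lie.twistedD4 K q) :=
  twD4

end Cfsg.Agent.H46.Sq
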