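import Cfsg.Agent.H46.SqTw
import Cfsg.Agent.H23.TwE6l

set_option autoImplicit false

/-!
# `²E₆(q)`, `q` even: a `2`-subgroup of odd index generated by involutions (piece `S4625-TWE6`)
-/

namespace Cfsg.Agent.H46.Sq

open Cfsg.Lie Cfsg.Agent.H23

theorem twE6 : Cfsg.Agent.H56.Sq.TwE6Stmt := by
  intro K _ _ _ q hq hK _
  obtain ⟨T, B, hG, hblk, hcard, -, -, -, hBgen⟩ := tw_E6 hq hK
  have hV : SemV chevE6 K := trin_E6.semV chk_E6.tblOK K
  obtain ⟨k, hk⟩ := pow_two_of_card K q 2 (by norm_num) hK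
  have hq1 : 1 < q := hq.one_lt
  have hq0 : 0 < q := by omega
  have hqe : Even q := by
    rw [hk]
    have hk0 : k ≠ 0 := by
      rintro rfl
      rw [pow_zero] at hk
      omega
    exact Even.pow_of_ne_zero even_two hk0
  have hxx : ∀ (r : ℕ) (s : K), xU (packB_E6 K).sem r s * xU (packB_E6 K).sem r s = 1 := by
    intro r s
    rw [xU_mul, CharTwo.add_self_eq_zero, xU_zero]
  have hs0 : chevE6.simple 0 = 56 := (twE6_tab 0 (by decide)).1
  have hs2 : chevE6.simple 2 = 42 := (twE6_tab 2 (by decide)).1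
  have hs4 : chevE6.simple 4 = 37 := (twE6_tab 4 (by decide)).1
  have hs5 : chevE6.simple 5 = 36 := (twE6_tab 5 (by decide)).1
  have hinv : ∀ L ∈ B.blocks, ∀ s ∈ B.S L, B.gen L s * B.gen L s = 1 := by
    intro L hL s _
    rw [hblk] at hL
    rw [hBgen]
    simp only [blkE6, List.mem_cons, List.not_mem_nil, or_false] at hL
    rcases hL with rfl | rfl | rfl | rfl
    · exact hxx _ s
    · exact hxx _ s
    · show xU (packB_E6 K).sem (chevE6.simple 5) (T.φ s) * xU (packB_E6 K).sem (chevE6.simple 0) s *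
        (xU (packB_E6 K).sem (chevE6.simple 5) (T.φ s) * xU (packB_E6 K).sem (chevE6.simple 0) s) = 1
      rw [hs0, hs5]
      exact sq2 _ _ (twE6_comm (56, 36) (by decide) s (T.φ s)) (hxx _ _) (hxx _ _)
    · show xU (packB_E6 K).sem (chevE6.simple 4) (T.φ s) * xU (packB_E6 K).sem (chevE6.simple 2) s *
        (xU (packB_E6 K).sem (chevE6.simple 4) (T.φ s) * xU (packB_E6 K).sem (chevE6.simple 2) s) = 1
      rw [hs2, hs4]
      exact sq2 _ _ (twE6_comm (42, 37) (by decide) s (T.φ s)) (hxx _ _) (hxx _ _)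
  have hbw : BW B.blocks w0bE6 := by rw [hblk]; exact twE6_bw
  have hgen := pos_inf_le_closure (packB_E6 K) hV tabT_E6 tabL_E6 B hG w0bE6 tabW_E6b hbw hinv
  have hU := card_pos_inf (packB_E6 K) hV tabT_E6 tabL_E6 B hG w0bE6 tabW_E6b hbw q hcard
  rw [twE6_numPos] at hU
  have hGc := twE6_card hq hK
  have hM : Odd ((q ^ 2 - 1) * (q ^ 5 + 1) * (q ^ 6 - 1) * (q ^ 8 - 1) * (q ^ 9 + 1) * (q ^ 12 - 1)) :=
    (((((odd_pow_sub_one q 2 hqe hq0 (by norm_num)).mul (odd_pow_add_one q 5 hqe (by norm_num))).mul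
      (odd_pow_sub_one q 6 hqe hq0 (by norm_num))).mul (odd_pow_sub_one q 8 hqe hq0 (by norm_num))).mul
      (odd_pow_add_one q 9 hqe (by norm_num))).mul (odd_pow_sub_one q 12 hqe hq0 (by norm_num))
  exact goodSyl_of_sub (twistedE6 K q) (chevE6.posUnipotent K ⊓ twistedE6 K q) inf_le_right q 36 _ k
    (Nat.gcd 3 (q + 1)) hk hU (by rw [hGc]; simp only [mul_assoc]) hM hgen

/-- The statement, verbatim. -/
example : ∀ (K : Type) [Field K] [Fintype K] [CharP K 2] (q : ℕ), IsPrimePow q →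
    Fintype.card K = q ^ 2 → IsSimpleGroup (Lie.twistedE6 K q) → Cfsg.Agent.H56.Sq.GoodSyl (Lie.twistedE6 K q) :=
  twE6

end Cfsg.Agent.H46.Sq
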