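import Cfsg.Agent.H23.Comm

set_option autoImplicit false
set_option linter.unusedSectionVars false

/-!
# Abstract groups satisfying Steinberg's relations (R1), (R2): closures of root elements and normal forms
-/

namespace Cfsg.Agent.H46

open Cfsg.Lie Cfsg.Agent.H23

variable {D : ChevalleyDatum} {K : Type*} [Field K] {Γ : Type*} [Group Γ]

/-- The product of the root elements of a word. -/
def wordB (xb : ℕ → K → Γ) (w : List (ℕ × K)) : Γ := (w.map fun p => xb p.1 p.2).prod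

theorem wordB_nil (xb : ℕ → K → Γ) : wordB xb ([] : List (ℕ × K)) = 1 := rfl

theorem wordB_cons (xb : ℕ → K → Γ) (p : ℕ × K) (w : List (ℕ × K)) :
    wordB xb (p :: w) = xb p.1 p.2 * wordB xb w := by
  simp [wordB]

theorem wordB_append (xb : ℕ → K → Γ) (w w' : List (ℕ × K)) :
    wordB xb (w ++ w') = wordB xb w * wordB xb w' := by
  simp [wordB]

/-- Steinberg's relations (R1) and (R2) for a family of elements `xb r t` of a group. -/
structure StRel (D : ChevalleyDatum) (xb : ℕ → K → Γ) : Prop where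
  add : ∀ r < D.nroots, ∀ t u : K, xb r t * xb r u = xb r (t + u)
  comm : ∀ r < D.nroots, ∀ s < D.nroots, s ≠ r → s ≠ D.neg r → ∀ t u : K,
    (xb s u)⁻¹ * (xb r t)⁻¹ * xb s u * xb r t = wordB xb (D.commWord K r s t u)

section Rel

variable {xb : ℕ → K → Γ} (h : StRel D xb)
include h

theorem xb_zero (r : ℕ) (hr : r < D.nroots) : xb r (0 : K) = 1 := by
  have h1 := h.add r hr 0 0
  rw [add_zero] at h1
  exact mul_eq_left.mp h1

theorem xb_inv (r : ℕ) (hr : r < D.nroots) (t : K) : (xb r t)⁻¹ = xb r (-t) := by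
  rw [inv_eq_iff_mul_eq_one, h.add r hr, add_neg_cancel, xb_zero h r hr]

theorem xb_conj (r s : ℕ) (hr : r < D.nroots) (hs : s < D.nroots) (h1 : s ≠ r) (h2 : s ≠ D.neg r) (t u : K) :
    (xb r t)⁻¹ * xb s u * xb r t = xb s u * wordB xb (D.commWord K r s t u) := by
  rw [← h.comm r hr s hs h1 h2 t u]
  group

end Rel

/-- The subgroup generated by the root elements of the roots satisfying `P`. -/
def XP (xb : ℕ → K → Γ) (P : ℕ → Prop) : Subgroup Γ := Subgroup.closure {g | ∃ (r : ℕ) (t : K), P r ∧ g = xb r t}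

theorem xb_mem_XP (xb : ℕ → K → Γ) (P : ℕ → Prop) (r : ℕ) (hr : P r) (t : K) : xb r t ∈ XP xb P :=
  Subgroup.subset_closure ⟨r, t, hr, rfl⟩

theorem XP_mono (xb : ℕ → K → Γ) {P Q : ℕ → Prop} (hPQ : ∀ r, P r → Q r) : XP xb P ≤ XP xb Q := by
  apply Subgroup.closure_mono
  rintro g ⟨r, t, hr, rfl⟩
  exact ⟨r, t, hPQ r hr, rfl⟩

theorem wordB_mem_XP (xb : ℕ → K → Γ) (P : ℕ → Prop) (w : List (ℕ × K)) (hw : ∀ p ∈ w, P p.1) :
    wordB xb w ∈ XP xb P := by
  induction w with
  | nil => exact Subgroup.one_mem _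
  | cons p w ih =>
    rw [wordB_cons]
    exact Subgroup.mul_mem _ (xb_mem_XP xb P _ (hw p (List.mem_cons_self ..)) _)
      (ih (fun q hq => hw q (List.mem_cons_of_mem _ hq)))

theorem commWord_mem_XP (xb : ℕ → K → Γ) (P : ℕ → Prop) (r s : ℕ) (hc : ∀ c ∈ D.commTerms r s, P c.1) (t u : K) :
    wordB xb (D.commWord K r s t u) ∈ XP xb P := by
  apply wordB_mem_XP
  intro p hp
  unfold ChevalleyDatum.commWord at hp
  simp only [List.mem_map] at hp
  obtain ⟨c, hc', rfl⟩ := hp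
  exact hc c hc'

section Norm

variable {xb : ℕ → K → Γ} (h : StRel D xb)
include h

/-- A root element `xb q t` normalizes `XP P` when the commutator terms of `q` against `P` stay in `P`. -/
theorem xb_conj_mem (P : ℕ → Prop) (q : ℕ) (hq : q < D.nroots)
    (hP : ∀ s, P s → s < D.nroots ∧ s ≠ q ∧ s ≠ D.neg q ∧ ∀ c ∈ D.commTerms q s, P c.1) (t : K) :
    ∀ g ∈ XP xb P, xb q t * g * (xb q t)⁻¹ ∈ XP xb P := by
  apply conj_mem_of_closure
  rintro x ⟨s, u, hs, rfl⟩
  obtain ⟨h1, h2, h3, h4⟩ := hP s hs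
  have e : xb q t * xb s u * (xb q t)⁻¹ = (xb q (-t))⁻¹ * xb s u * xb q (-t) := by
    rw [← xb_inv h q hq t, inv_inv]
  rw [e, xb_conj h q s hq h1 h2 h3]
  exact Subgroup.mul_mem _ (xb_mem_XP xb P s hs u) (commWord_mem_XP xb P q s h4 _ _)

theorem xb_conj_mem' (P : ℕ → Prop) (q : ℕ) (hq : q < D.nroots)
    (hP : ∀ s, P s → s < D.nroots ∧ s ≠ q ∧ s ≠ D.neg q ∧ ∀ c ∈ D.commTerms q s, P c.1) (t : K) :
    ∀ g ∈ XP xb P, (xb q t)⁻¹ * g * xb q t ∈ XP xb P := by
  intro g hg
  have := xb_conj_mem h P q hq hP (-t) g hg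
  rwa [← xb_inv h q hq t, inv_inv] at this

/-- If `xb q` normalizes `XP P`, every element of the subgroup generated by `xb q` and `XP P` is `xb q t * z'`. -/
theorem decomp_of_norm (P : ℕ → Prop) (q : ℕ) (hq : q < D.nroots)
    (hn : ∀ t : K, ∀ g ∈ XP xb P, xb q t * g * (xb q t)⁻¹ ∈ XP xb P) :
    ∀ z ∈ XP xb (fun r => r = q ∨ P r), ∃ t : K, ∃ z' ∈ XP xb P, z = xb q t * z' := by
  intro z hz
  induction hz using Subgroup.closure_induction with
  | mem x hx =>
    obtain ⟨r, t, hr, rfl⟩ := hx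
    rcases hr with rfl | hr
    · exact ⟨t, 1, Subgroup.one_mem _, by rw [mul_one]⟩
    · exact ⟨0, xb r t, xb_mem_XP xb P r hr t, by rw [xb_zero h q hq, one_mul]⟩
  | one => exact ⟨0, 1, Subgroup.one_mem _, by rw [xb_zero h q hq, one_mul]⟩
  | mul x y _ _ hx hy =>
    obtain ⟨t, x', hx', rfl⟩ := hx
    obtain ⟨u, y', hy', rfl⟩ := hy
    refine ⟨t + u, (xb q (-u) * x' * (xb q (-u))⁻¹) * y', Subgroup.mul_mem _ (hn (-u) x' hx') hy', ?_⟩
    rw [← h.add q hq t u, ← xb_inv h q hq u]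
    group
  | inv x _ hx =>
    obtain ⟨t, x', hx', rfl⟩ := hx
    refine ⟨-t, xb q t * x'⁻¹ * (xb q t)⁻¹, hn t _ (Subgroup.inv_mem _ hx'), ?_⟩
    rw [← xb_inv h q hq t]
    group

end Norm

/-! ### Lists of roots with the chain condition -/

/-- The subgroup generated by the root elements of the roots of a list. -/
def XL (xb : ℕ → K → Γ) (L : List ℕ) : Subgroup Γ := XP xb (fun r => r ∈ L)

theorem XL_nil (xb : ℕ → K → Γ) : XL xb [] = ⊥ := by
  unfold XL XP
  rw [Subgroup.closure_eq_bot_iff]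
  rintro g ⟨r, t, hr, rfl⟩
  simp at hr

/-- The chain condition on a list of roots: the commutator terms of each root against a later root are later roots. -/
def chainOK (D : ChevalleyDatum) : List ℕ → Bool
  | [] => true
  | e :: L => (decide (e < D.nroots) && L.all (fun e' => decide (e' < D.nroots) && !(e' == e) && !(e' == D.neg e) &&
      (D.commTerms e e').all (fun c => L.contains c.1))) && chainOK D L

theorem chainOK_cons {e : ℕ} {L : List ℕ} (hc : chainOK D (e :: L) = true) :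
    e < D.nroots ∧ (∀ e' ∈ L, e' < D.nroots ∧ e' ≠ e ∧ e' ≠ D.neg e ∧ ∀ c ∈ D.commTerms e e', c.1 ∈ L) ∧
      chainOK D L = true := by
  unfold chainOK at hc
  simp only [Bool.and_eq_true, decide_eq_true_eq, List.all_eq_true, Bool.not_eq_true', beq_eq_false_iff_ne, ne_eq,
    List.contains_iff_mem] at hc
  refine ⟨hc.1.1, fun e' he' => ?_, hc.2⟩
  obtain ⟨⟨⟨h1, h2⟩, h3⟩, h4⟩ := hc.1.2 e' he'
  exact ⟨h1, h2, h3, h4⟩

theorem chainOK_lt {L : List ℕ} (hc : chainOK D L = true) : ∀ e ∈ L, e < D.nroots := by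
  induction L with
  | nil => intro e he; simp at he
  | cons a L ih =>
    intro e he
    obtain ⟨h1, _, h3⟩ := chainOK_cons hc
    rcases List.mem_cons.mp he with rfl | he
    · exact h1
    · exact ih h3 e he

/-- Normal form: with the chain condition, every element of `XL (e :: L)` is `xb e t * z'` with `z' ∈ XL L`. -/
theorem chain_decomp {xb : ℕ → K → Γ} (h : StRel D xb) {e : ℕ} {L : List ℕ} (hc : chainOK D (e :: L) = true) :
    ∀ z ∈ XL xb (e :: L), ∃ t : K, ∃ z' ∈ XL xb L, z = xb e t * z' := by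
  obtain ⟨h1, h2, _⟩ := chainOK_cons hc
  intro z hz
  have hz' : z ∈ XP xb (fun r => r = e ∨ r ∈ L) := by
    refine XP_mono xb ?_ hz
    intro r hr
    exact List.mem_cons.mp hr
  exact decomp_of_norm h (fun r => r ∈ L) e h1
    (fun t g hg => xb_conj_mem h (fun r => r ∈ L) e h1 (fun s hs => h2 s hs) t g hg) z hz'

end Cfsg.Agent.H46
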