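import Cfsg.Agent.H46.StChk

set_option autoImplicit false
set_option maxRecDepth 1000000
set_option synthInstance.maxSize 4000
set_option synthInstance.maxHeartbeats 400000

/-! Generated table data for the presented group of type B2 (scratch generator `gen.py`). -/

namespace Cfsg.Agent.H46

open Cfsg.Lie Cfsg.Agent.H23

/-- A reduced word of the longest element. -/
def stWB2 : List ℕ := [0, 1, 0, 1]

/-- The positive roots in the convex order of the word. -/
def stLpB2 : List ℕ := [5, 7, 6, 4]

/-- The negative roots in the corresponding order. -/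
def stLnB2 : List ℕ := [2, 0, 1, 3]

theorem stConvB2 : convChk chevB2 stWB2 stLpB2 = true := by decide +kernel

theorem stChPB2 : chainOK chevB2 stLpB2 = true := by decide +kernel

theorem stNegEqB2 : stLpB2.map chevB2.neg = stLnB2 := by decide +kernel

theorem stChNB2 : chainOK chevB2 stLnB2 = true := by decide +kernel

theorem stCovB2 : ∀ s < chevB2.nroots, chevB2.IsPosRoot s → s ∈ stLpB2 := by decide +kernel

theorem stTabCNB2 : TabCN chevB2 := by
  unfold TabCN
  decide +kernel

theorem stA4B2 : ∀ i < chevB2.rank, ∃ γ δ k T W, a4Chk chevB2 i γ δ k T W = true := by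
  intro i hi
  have hi' : i < 2 := hi
  interval_cases i
  · exact ⟨1, 7, 0, [1, 0, 2, 4], [[1, 0], [0], [], []], by decide +kernel⟩
  · exact ⟨0, 6, 1, [0, 1, 3, 5], [[1, 0], [1], [], []], by decide +kernel⟩

theorem stChkB2 : StChk chevB2 stWB2 stLpB2 stLnB2 :=
  ⟨stConvB2, stChPB2, stNegEqB2, stChNB2, stCovB2, stTabCNB2, stA4B2⟩

end Cfsg.Agent.H46
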