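import Cfsg.Agent.H46.StChk

set_option autoImplicit false
set_option maxRecDepth 1000000
set_option synthInstance.maxSize 4000
set_option synthInstance.maxHeartbeats 400000

/-! Generated table data for the presented group of type D4 (scratch generator `gen.py`). -/

namespace Cfsg.Agent.H46

open Cfsg.Lie Cfsg.Agent.H23

/-- A reduced word of the longest element. -/
def stWD4 : List ℕ := [0, 1, 0, 2, 1, 0, 3, 1, 0, 2, 1, 3]

/-- The positive roots in the convex order of the word. -/
def stLpD4 : List ℕ := [18, 19, 14, 21, 16, 13, 23, 22, 20, 17, 15, 12]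

/-- The negative roots in the corresponding order. -/
def stLnD4 : List ℕ := [5, 4, 9, 2, 7, 10, 0, 1, 3, 6, 8, 11]

theorem stConvD4 : convChk chevD4 stWD4 stLpD4 = true := by decide +kernel

theorem stChPD4 : chainOK chevD4 stLpD4 = true := by decide +kernel

theorem stNegEqD4 : stLpD4.map chevD4.neg = stLnD4 := by decide +kernel

theorem stChND4 : chainOK chevD4 stLnD4 = true := by decide +kernel

theorem stCovD4 : ∀ s < chevD4.nroots, chevD4.IsPosRoot s → s ∈ stLpD4 := by decide +kernel

theorem stTabCND4 : TabCN chevD4 := by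
  unfold TabCN
  decide +kernel

theorem stA4D4 : ∀ i < chevD4.rank, ∃ γ δ k T W, a4Chk chevD4 i γ δ k T W = true := by
  intro i hi
  have hi' : i < 4 := hi
  interval_cases i
  · exact ⟨6, 22, 0, [1, 5, 17], [[0], [], []], by decide +kernel⟩
  · exact ⟨1, 23, 0, [0, 9, 22], [[1], [], []], by decide +kernel⟩
  · exact ⟨3, 22, 0, [1, 10, 20], [[2], [], []], by decide +kernel⟩
  · exact ⟨2, 22, 0, [1, 11, 21], [[3], [], []], by decide +kernel⟩

theorem stChkD4 : StChk chevD4 stWD4 stLpD4 stLnD4 :=
  ⟨stConvD4, stChPD4, stNegEqD4, stChND4, stCovD4, stTabCND4, stA4D4⟩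

end Cfsg.Agent.H46
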