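import Cfsg.Agent.H46.StChk

set_option autoImplicit false
set_option maxRecDepth 1000000
set_option synthInstance.maxSize 4000
set_option synthInstance.maxHeartbeats 400000

/-! Generated table data for the presented group of type E6 (scratch generator `gen.py`). -/

namespace Cfsg.Agent.H46

open Cfsg.Lie Cfsg.Agent.H23

/-- A reduced word of the longest element. -/
def stWE6 : List ℕ := [0, 1, 2, 0, 3, 1, 2, 0, 3, 2, 4, 3, 1, 2, 0, 3, 2, 4, 3, 1, 5, 4, 3, 1, 2, 0, 3, 2, 4, 3, 1, 5, 4, 3, 2, 0]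

/-- The positive roots in the convex order of the word. -/
def stLpE6 : List ℕ := [56, 46, 57, 42, 61, 58, 50, 47, 43, 39, 67, 64, 53, 62, 59, 51, 44, 48, 40, 37, 71, 70, 69, 68, 66, 55, 65, 54, 63, 52, 49, 60, 45, 41, 38, 36]

/-- The negative roots in the corresponding order. -/
def stLnE6 : List ℕ := [15, 25, 14, 29, 10, 13, 21, 24, 28, 32, 4, 7, 18, 9, 12, 20, 27, 23, 31, 34, 0, 1, 2, 3, 5, 16, 6, 17, 8, 19, 22, 11, 26, 30, 33, 35]

theorem stConvE6 : convChk chevE6 stWE6 stLpE6 = true := by decide +kernel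

theorem stChPE6 : chainOK chevE6 stLpE6 = true := by decide +kernel

theorem stNegEqE6 : stLpE6.map chevE6.neg = stLnE6 := by decide +kernel

theorem stChNE6 : chainOK chevE6 stLnE6 = true := by decide +kernel

theorem stCovE6 : ∀ s < chevE6.nroots, chevE6.IsPosRoot s → s ∈ stLpE6 := by decide +kernel

theorem stTabCNE6 : TabCN chevE6 := by
  unfold TabCN
  decide +kernel

theorem stA4E6 : ∀ i < chevE6.rank, ∃ γ δ k T W, a4Chk chevE6 i γ δ k T W = true := by
  intro i hi
  have hi' : i < 6 := hi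
  interval_cases i
  · exact ⟨16, 66, 0, [5, 15, 55], [[0], [], []], by decide +kernel⟩
  · exact ⟨1, 71, 0, [0, 25, 70], [[1], [], []], by decide +kernel⟩
  · exact ⟨5, 69, 0, [2, 29, 66], [[2], [], []], by decide +kernel⟩
  · exact ⟨2, 70, 0, [1, 32, 69], [[3], [], []], by decide +kernel⟩
  · exact ⟨3, 69, 0, [2, 34, 68], [[4], [], []], by decide +kernel⟩
  · exact ⟨4, 68, 0, [3, 35, 67], [[5], [], []], by decide +kernel⟩

theorem stChkE6 : StChk chevE6 stWE6 stLpE6 stLnE6 :=
  ⟨stConvE6, stChPE6, stNegEqE6, stChNE6, stCovE6, stTabCNE6, stA4E6⟩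

end Cfsg.Agent.H46
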