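import Cfsg.Agent.H46.StChk

set_option autoImplicit false
set_option maxRecDepth 1000000
set_option synthInstance.maxSize 4000
set_option synthInstance.maxHeartbeats 400000

/-! Generated table data for the presented group of type E7 (scratch generator `gen.py`). -/

namespace Cfsg.Agent.H46

open Cfsg.Lie Cfsg.Agent.H23

/-- A reduced word of the longest element. -/
def stWE7 : List ℕ := [0, 1, 2, 0, 3, 1, 2, 0, 3, 2, 4, 3, 1, 2, 0, 3, 2, 4, 3, 1, 5, 4, 3, 1, 2, 0, 3, 2, 4, 3, 1, 5, 4, 3, 2, 0, 6, 5, 4, 3, 1, 2, 0, 3, 2, 4, 3, 1, 5, 4, 3, 2, 0, 6, 5, 4, 3, 1, 2, 3, 4, 5, 6]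

/-- The positive roots in the convex order of the word. -/
def stLpE7 : List ℕ := [93, 78, 94, 73, 99, 95, 83, 79, 74, 69, 109, 103, 87, 100, 96, 84, 75, 80, 70, 66, 119, 115, 112, 110, 106, 90, 104, 88, 101, 85, 81, 97, 76, 71, 67, 64, 125, 124, 123, 122, 118, 121, 120, 117, 116, 114, 113, 111, 108, 107, 105, 102, 98, 92, 91, 89, 86, 82, 77, 72, 68, 65, 63]

/-- The negative roots in the corresponding order. -/
def stLnE7 : List ℕ := [32, 47, 31, 52, 26, 30, 42, 46, 51, 56, 16, 22, 38, 25, 29, 41, 50, 45, 55, 59, 6, 10, 13, 15, 19, 35, 21, 37, 24, 40, 44, 28, 49, 54, 58, 61, 0, 1, 2, 3, 7, 4, 5, 8, 9, 11, 12, 14, 17, 18, 20, 23, 27, 33, 34, 36, 39, 43, 48, 53, 57, 60, 62]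

theorem stConvE7 : convChk chevE7 stWE7 stLpE7 = true := by decide +kernel

theorem stChPE7 : chainOK chevE7 stLpE7 = true := by decide +kernel

theorem stNegEqE7 : stLpE7.map chevE7.neg = stLnE7 := by decide +kernel

theorem stChNE7 : chainOK chevE7 stLnE7 = true := by decide +kernel

theorem stCovE7 : ∀ s < chevE7.nroots, chevE7.IsPosRoot s → s ∈ stLpE7 := by decide +kernel

theorem stTabCNE7 : TabCN chevE7 := by
  unfold TabCN
  decide +kernel

theorem stA4E7 : ∀ i < chevE7.rank, ∃ γ δ k T W, a4Chk chevE7 i γ δ k T W = true := by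
  intro i hi
  have hi' : i < 7 := hi
  interval_cases i
  · exact ⟨1, 125, 0, [0, 32, 124], [[0], [], []], by decide +kernel⟩
  · exact ⟨7, 122, 0, [3, 47, 118], [[1], [], []], by decide +kernel⟩
  · exact ⟨2, 124, 0, [1, 52, 123], [[2], [], []], by decide +kernel⟩
  · exact ⟨3, 123, 0, [2, 56, 122], [[3], [], []], by decide +kernel⟩
  · exact ⟨4, 122, 0, [3, 59, 121], [[4], [], []], by decide +kernel⟩
  · exact ⟨5, 121, 0, [4, 61, 120], [[5], [], []], by decide +kernel⟩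
  · exact ⟨6, 120, 0, [5, 62, 119], [[6], [], []], by decide +kernel⟩

theorem stChkE7 : StChk chevE7 stWE7 stLpE7 stLnE7 :=
  ⟨stConvE7, stChPE7, stNegEqE7, stChNE7, stCovE7, stTabCNE7, stA4E7⟩

end Cfsg.Agent.H46
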