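import Cfsg.Agent.H46.StDataE8L

set_option autoImplicit false
set_option maxRecDepth 1000000
set_option synthInstance.maxSize 4000
set_option synthInstance.maxHeartbeats 400000

/-! Generated: the chain condition for the list `stLnE8`, in ranges of rows. -/

namespace Cfsg.Agent.H46

open Cfsg.Lie Cfsg.Agent.H23

theorem stChLnE8_0 : chainOKn chevE8 20 stLnE8 = true := by decide +kernel

theorem stChLnE8_20 : chainOKn chevE8 20 stLnE8_20 = true := by decide +kernel

theorem stChLnE8_40 : chainOKn chevE8 20 stLnE8_40 = true := by decide +kernel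

theorem stChLnE8_60 : chainOKn chevE8 20 stLnE8_60 = true := by decide +kernel

theorem stChLnE8_80 : chainOKn chevE8 20 stLnE8_80 = true := by decide +kernel

theorem stChLnE8_100 : chainOKn chevE8 20 stLnE8_100 = true := by decide +kernel

theorem stChLnE8 : chainOK chevE8 stLnE8 = true :=
  chainOK_step 20 stLnE8 stLnE8_20 (by decide +kernel) stChLnE8_0 (chainOK_step 20 stLnE8_20 stLnE8_40 (by decide +kernel) stChLnE8_20 (chainOK_step 20 stLnE8_40 stLnE8_60 (by decide +kernel) stChLnE8_40 (chainOK_step 20 stLnE8_60 stLnE8_80 (by decide +kernel) stChLnE8_60 (chainOK_step 20 stLnE8_80 stLnE8_100 (by decide +kernel) stChLnE8_80 (chainOK_step 20 stLnE8_100 [] (by decide +kernel) stChLnE8_100 (rfl))))))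

end Cfsg.Agent.H46
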