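import Cfsg.Agent.H46.StDataE8P
import Cfsg.Agent.H46.StDataE8N

set_option autoImplicit false
set_option maxRecDepth 1000000
set_option synthInstance.maxSize 4000
set_option synthInstance.maxHeartbeats 400000

/-! Generated table data for the presented group of type E8 (scratch generator `genfast.py`). -/

namespace Cfsg.Agent.H46

open Cfsg.Lie Cfsg.Agent.H23

theorem stConvE8 : convChk chevE8 stWE8 stLpE8 = true :=
  convChkT_imp tabT_E8 _ _ (by decide +kernel)

theorem stNegEqE8 : stLpE8.map chevE8.neg = stLnE8 := by decide +kernel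

theorem stCovE8 : ∀ s < chevE8.nroots, chevE8.IsPosRoot s → s ∈ stLpE8 := by decide +kernel

theorem stTabCNLE8 : TabCNL chevE8 := by
  unfold TabCNL
  decide +kernel

theorem stA4E8 : ∀ i < chevE8.rank, ∃ γ δ k T W, a4Chk chevE8 i γ δ k T W = true := by
  intro i hi
  have hi' : i < 8 := hi
  interval_cases i
  · exact ⟨14, 233, 0, [6, 77, 225], [[0], [], []], by decide +kernel⟩
  · exact ⟨7, 234, 0, [5, 98, 232], [[1], [], []], by decide +kernel⟩
  · exact ⟨6, 234, 0, [5, 104, 233], [[2], [], []], by decide +kernel⟩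
  · exact ⟨5, 235, 0, [4, 109, 234], [[3], [], []], by decide +kernel⟩
  · exact ⟨4, 236, 0, [3, 113, 235], [[4], [], []], by decide +kernel⟩
  · exact ⟨3, 237, 0, [2, 116, 236], [[5], [], []], by decide +kernel⟩
  · exact ⟨2, 238, 0, [1, 118, 237], [[6], [], []], by decide +kernel⟩
  · exact ⟨1, 239, 0, [0, 119, 238], [[7], [], []], by decide +kernel⟩

theorem stChkE8 : StChk chevE8 stWE8 stLpE8 stLnE8 :=
  ⟨stConvE8, stChLpE8, stNegEqE8, stChLnE8, stCovE8, stTabCNLE8.tabCN, stA4E8⟩

end Cfsg.Agent.H46
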