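import Cfsg.Agent.H46.StChk

set_option autoImplicit false
set_option maxRecDepth 1000000
set_option synthInstance.maxSize 4000
set_option synthInstance.maxHeartbeats 400000

/-! Generated table data for the presented group of type F4 (scratch generator `gen.py`). -/

namespace Cfsg.Agent.H46

open Cfsg.Lie Cfsg.Agent.H23

/-- A reduced word of the longest element. -/
def stWF4 : List ℕ := [0, 1, 0, 2, 1, 0, 2, 1, 2, 3, 2, 1, 0, 2, 1, 2, 3, 2, 1, 0, 2, 1, 2, 3]

/-- The positive roots in the convex order of the word. -/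
def stLpF4 : List ℕ := [33, 34, 27, 41, 37, 35, 30, 28, 25, 46, 45, 44, 40, 43, 39, 32, 47, 42, 38, 36, 31, 29, 26, 24]

/-- The negative roots in the corresponding order. -/
def stLnF4 : List ℕ := [14, 13, 20, 6, 10, 12, 17, 19, 22, 1, 2, 3, 7, 4, 8, 15, 0, 5, 9, 11, 16, 18, 21, 23]

theorem stConvF4 : convChk chevF4 stWF4 stLpF4 = true := by decide +kernel

theorem stChPF4 : chainOK chevF4 stLpF4 = true := by decide +kernel

theorem stNegEqF4 : stLpF4.map chevF4.neg = stLnF4 := by decide +kernel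

theorem stChNF4 : chainOK chevF4 stLnF4 = true := by decide +kernel

theorem stCovF4 : ∀ s < chevF4.nroots, chevF4.IsPosRoot s → s ∈ stLpF4 := by decide +kernel

theorem stTabCNF4 : TabCN chevF4 := by
  unfold TabCN
  decide +kernel

theorem stA4F4 : ∀ i < chevF4.rank, ∃ γ δ k T W, a4Chk chevF4 i γ δ k T W = true := by
  intro i hi
  have hi' : i < 4 := hi
  interval_cases i
  · exact ⟨7, 44, 0, [3, 14, 40], [[0], [], []], by decide +kernel⟩
  · exact ⟨8, 40, 0, [7, 20, 39], [[1], [], []], by decide +kernel⟩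
  · exact ⟨2, 46, 0, [1, 22, 45], [[2], [], []], by decide +kernel⟩
  · exact ⟨1, 47, 0, [0, 23, 46], [[3], [], []], by decide +kernel⟩

theorem stChkF4 : StChk chevF4 stWF4 stLpF4 stLnF4 :=
  ⟨stConvF4, stChPF4, stNegEqF4, stChNF4, stCovF4, stTabCNF4, stA4F4⟩

end Cfsg.Agent.H46
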