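import Cfsg.Agent.H46.StChk

set_option autoImplicit false
set_option maxRecDepth 1000000
set_option synthInstance.maxSize 4000
set_option synthInstance.maxHeartbeats 400000

/-! Generated table data for the presented group of type G2 (scratch generator `gen.py`). -/

namespace Cfsg.Agent.H46

open Cfsg.Lie Cfsg.Agent.H23

/-- A reduced word of the longest element. -/
def stWG2 : List ℕ := [0, 1, 0, 1, 0, 1]

/-- The positive roots in the convex order of the word. -/
def stLpG2 : List ℕ := [7, 10, 9, 11, 8, 6]

/-- The negative roots in the corresponding order. -/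
def stLnG2 : List ℕ := [4, 1, 2, 0, 3, 5]

theorem stConvG2 : convChk chevG2 stWG2 stLpG2 = true := by decide +kernel

theorem stChPG2 : chainOK chevG2 stLpG2 = true := by decide +kernel

theorem stNegEqG2 : stLpG2.map chevG2.neg = stLnG2 := by decide +kernel

theorem stChNG2 : chainOK chevG2 stLnG2 = true := by decide +kernel

theorem stCovG2 : ∀ s < chevG2.nroots, chevG2.IsPosRoot s → s ∈ stLpG2 := by decide +kernel

theorem stTabCNG2 : TabCN chevG2 := by
  unfold TabCN
  decide +kernel

theorem stA4G2 : ∀ i < chevG2.rank, ∃ γ δ k T W, a4Chk chevG2 i γ δ k T W = true := by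
  intro i hi
  have hi' : i < 2 := hi
  interval_cases i
  · exact ⟨0, 9, 1, [0, 2, 1, 4, 6, 8], [[0, 1, 0], [1, 0], [0], [], [], []], by decide +kernel⟩
  · exact ⟨1, 11, 0, [0, 5, 10], [[1], [], []], by decide +kernel⟩

theorem stChkG2 : StChk chevG2 stWG2 stLpG2 stLnG2 :=
  ⟨stConvG2, stChPG2, stNegEqG2, stChNG2, stCovG2, stTabCNG2, stA4G2⟩

end Cfsg.Agent.H46
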