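import Cfsg.Agent.H46.StFinal
import Cfsg.Agent.H46.StDataG2
import Cfsg.Agent.H46.StDataB2
import Cfsg.Agent.H46.StDataD4
import Cfsg.Agent.H46.StDataF4
import Cfsg.Agent.H46.StDataE6
import Cfsg.Agent.H46.StDataE7
import Cfsg.Agent.H46.StDataE8
import Cfsg.Agent.H23.AllC
import Cfsg.Agent.H23.Tab2G2
import Cfsg.Agent.H23.Tab2B2
import Cfsg.Agent.H23.Tab2D4
import Cfsg.Agent.H23.Tab2F4
import Cfsg.Agent.H23.Tab2E6
import Cfsg.Agent.H23.Tab2E7
import Cfsg.Agent.H23.Tab2E8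
import Cfsg.Agent.H23.Gen.G2.Trin0
import Cfsg.Agent.H23.Gen.B2.Trin0
import Cfsg.Agent.H23.Gen.D4.Trin0
import Cfsg.Agent.H23.Gen.F4.Trin0
import Cfsg.Agent.H23.Gen.E6.Trin0
import Cfsg.Agent.H23.Gen.E7.Trin0
import Cfsg.Agent.H23.Gen.E8.Trin0

set_option autoImplicit false

/-!
# The kernel theorem for the seven tabulated types
-/

namespace Cfsg.Agent.H46

open Cfsg.Lie Cfsg.Agent.H23

/-- All the facts on a tabulated datum used for the presented group. -/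
structure PackSt (D : ChevalleyDatum) (K : Type*) [Field K] (z η : ℕ → ℕ → ℤ) (w w0 : List ℕ) : Prop where
  hP : PackB D K z η
  hV : SemV D K
  tab : StTab D w
  tabW : TabW D w0

theorem packSt_G2 (K : Type*) [Field K] :
    PackSt chevG2 K (zR chevG2 ctblG2) (fun i s => etaBit (etaG2.getD i 0) s) stWG2 w0G2 :=
  ⟨⟨chk_G2.sem K, nconj_G2.semN chk_G2.tblOK K, comm_G2.semC chk_G2.tblOK K, tab_G2,
      tabC_G2, etaNeg_G2, tab2_G2⟩, TriNOK.semV chk_G2.tblOK (all_of_allFrom _ 12 trin_G2_file0) K,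
    stChkG2.tab tab_G2, tabW_G2⟩

theorem packSt_B2 (K : Type*) [Field K] :
    PackSt chevB2 K (zR chevB2 ctblB2) (fun i s => etaBit (etaB2.getD i 0) s) stWB2 w0B2 :=
  ⟨⟨chk_B2.sem K, nconj_B2.semN chk_B2.tblOK K, comm_B2.semC chk_B2.tblOK K, tab_B2,
      tabC_B2, etaNeg_B2, tab2_B2⟩, TriNOK.semV chk_B2.tblOK (all_of_allFrom _ 8 trin_B2_file0) K,
    stChkB2.tab tab_B2, tabW_B2⟩

theorem packSt_D4 (K : Type*) [Field K] :
    PackSt chevD4 K (zR chevD4 ctblD4) (fun i s => etaBit (etaD4.getD i 0) s) stWD4 w0D4 :=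
  ⟨⟨chk_D4.sem K, nconj_D4.semN chk_D4.tblOK K, comm_D4.semC chk_D4.tblOK K, tab_D4,
      tabC_D4, etaNeg_D4, tab2_D4⟩, TriNOK.semV chk_D4.tblOK (all_of_allFrom _ 24 trin_D4_file0) K,
    stChkD4.tab tab_D4, tabW_D4⟩

theorem packSt_F4 (K : Type*) [Field K] :
    PackSt chevF4 K (zR chevF4 ctblF4) (fun i s => etaBit (etaF4.getD i 0) s) stWF4 w0F4 :=
  ⟨⟨chk_F4.sem K, nconj_F4.semN chk_F4.tblOK K, comm_F4.semC chk_F4.tblOK K, tab_F4,
      tabC_F4, etaNeg_F4, tab2_F4⟩, TriNOK.semV chk_F4.tblOK (all_of_allFrom _ 48 trin_F4_file0) K,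
    stChkF4.tab tab_F4, tabW_F4⟩

theorem packSt_E6 (K : Type*) [Field K] :
    PackSt chevE6 K (zR chevE6 ctblE6) (fun i s => etaBit (etaE6.getD i 0) s) stWE6 w0E6 :=
  ⟨⟨chk_E6.sem K, nconj_E6.semN chk_E6.tblOK K, comm_E6.semC chk_E6.tblOK K, tab_E6,
      tabC_E6, etaNeg_E6, tab2_E6⟩, TriNOK.semV chk_E6.tblOK (all_of_allFrom _ 72 trin_E6_file0) K,
    stChkE6.tab tab_E6, tabW_E6⟩

theorem packSt_E7 (K : Type*) [Field K] :
    PackSt chevE7 K (zR chevE7 ctblE7) (fun i s => etaBit (etaE7.getD i 0) s) stWE7 w0E7 :=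
  ⟨⟨chk_E7.sem K, nconj_E7.semN chk_E7.tblOK K, comm_E7.semC chk_E7.tblOK K, tab_E7,
      tabC_E7, etaNeg_E7, tab2_E7⟩, TriNOK.semV chk_E7.tblOK (all_of_allFrom _ 126 trin_E7_file0) K,
    stChkE7.tab tab_E7, tabW_E7⟩

theorem packSt_E8 (K : Type*) [Field K] :
    PackSt chevE8 K (zR chevE8 ctblE8) (fun i s => etaBit (etaE8.getD i 0) s) stWE8 w0E8 :=
  ⟨⟨chk_E8.sem K, nconj_E8.semN chk_E8.tblOK K, comm_E8.semC chk_E8.tblOK K, tab_E8,
      tabC_E8, etaNeg_E8, tab2_E8⟩, TriNOK.semV chk_E8.tblOK (all_of_allFrom _ 240 trin_E8_file0) K,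
    stChkE8.tab tab_E8, tabW_E8⟩

/-- The bundle holds for each of the seven tabulated data. -/
theorem packSt_all {K : Type*} [Field K] (D : ChevalleyDatum)
    (hD : D ∈ [chevG2, chevB2, chevD4, chevF4, chevE6, chevE7, chevE8]) : ∃ z η w w0, PackSt D K z η w w0 := by
  simp only [List.mem_cons, List.not_mem_nil, or_false] at hD
  rcases hD with rfl | rfl | rfl | rfl | rfl | rfl | rfl
  · exact ⟨_, _, _, _, packSt_G2 K⟩
  · exact ⟨_, _, _, _, packSt_B2 K⟩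
  · exact ⟨_, _, _, _, packSt_D4 K⟩
  · exact ⟨_, _, _, _, packSt_F4 K⟩
  · exact ⟨_, _, _, _, packSt_E6 K⟩
  · exact ⟨_, _, _, _, packSt_E7 K⟩
  · exact ⟨_, _, _, _, packSt_E8 K⟩

/-- For the seven tabulated types: the kernel of a homomorphism from a presented group satisfying (R1), (R2) onto
the Chevalley group, mapping `x̄_r(t)` to `x_r(t)`, lies in the subgroup generated by the `h̄_p(t)`, `p` fundamental,
and in the centre. -/
theorem presented_ker_all {K : Type*} [Field K] (D : ChevalleyDatum)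
    (hD : D ∈ [chevG2, chevB2, chevD4, chevF4, chevE6, chevE7, chevE8])
    (rels : Set (FreeGroup (Fin D.nroots × K)))
    (hA : ∀ (r : ℕ) (t₁ t₂ : K), r < D.nroots → D.stX r t₁ * D.stX r t₂ * (D.stX r (t₁ + t₂))⁻¹ ∈ rels)
    (hB : ∀ (r s : ℕ) (t u : K), r < D.nroots → s < D.nroots → s ≠ r → s ≠ D.neg r →
      (D.stX s u)⁻¹ * (D.stX r t)⁻¹ * D.stX s u * D.stX r t * (D.stWord (D.commWord K r s t u))⁻¹ ∈ rels)
    (θ : PresentedGroup rels →* ↥(D.group K))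
    (hθ : ∀ (r : ℕ) (t : K), r < D.nroots →
      ((θ (PresentedGroup.mk rels (D.stX r t)) : GL D.Idx K) : Matrix D.Idx D.Idx K) = D.x K r t) :
    θ.ker ≤ Subgroup.closure {h | ∃ (i : ℕ) (t : K), i < D.rank ∧ t ≠ 0 ∧
        h = PresentedGroup.mk rels (D.stH (D.simple i) t)} ⊓ Subgroup.center (PresentedGroup rels) := by
  obtain ⟨z, η, w, w0, hpk⟩ := packSt_all (K := K) D hD
  exact presented_ker rels hA hB hpk.tab hpk.hP hpk.hV θ hθ

end Cfsg.Agent.H46
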