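import Cfsg.Agent.H46.StMono2

set_option autoImplicit false
set_option linter.unusedSectionVars false

/-!
# The Bruhat decomposition of an abstract group satisfying Steinberg's relations
-/

namespace Cfsg.Agent.H46

open Cfsg.Lie Cfsg.Agent.H23

variable {D : ChevalleyDatum} {K : Type*} [Field K] {Γ : Type*} [Group Γ] {z η : ℕ → ℕ → ℤ}

theorem closure_left_induct {G : Type*} [Group G] (S : Set G) (hS : ∀ x ∈ S, x⁻¹ ∈ S) (p : G → Prop) (h1 : p 1)
    (hmul : ∀ x ∈ S, ∀ y, p y → p (x * y)) : ∀ g ∈ Subgroup.closure S, p g := by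
  intro g hg
  exact Subgroup.closure_induction_left (p := fun x _ => p x) h1 (fun x hx y _ hy => hmul x hx y hy)
    (fun x hx y _ hy => hmul x⁻¹ (hS x hx) y hy) hg

/-- The generators `n̄_p(t)` of `N̄`. -/
def nGen (C : StCtx D K Γ z η) : Set Γ :=
  {g | ∃ (i : ℕ) (t : K), i < D.rank ∧ t ≠ 0 ∧ g = nB D C.xb (D.simple i) t}

/-- The subgroup `N̄` generated by the `n̄_p(t)`, `p` fundamental, `t ≠ 0`. -/
def Nb (C : StCtx D K Γ z η) : Subgroup Γ := Subgroup.closure (nGen C)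

/-- `h̄_p(t) = n̄_p(t) n̄_p(-1)`. -/
def hB (C : StCtx D K Γ z η) (i : ℕ) (t : K) : Γ := nB D C.xb (D.simple i) t * nB D C.xb (D.simple i) (-1)

/-- The set `Ū N̄ Ū`. -/
def Cset (C : StCtx D K Γ z η) : Set Γ :=
  {g | ∃ u ∈ XP C.xb D.IsPosRoot, ∃ m ∈ Nb C, ∃ u' ∈ XP C.xb D.IsPosRoot, g = u * m * u'}

section Bru

variable (C : StCtx D K Γ z η)

theorem nB_mem_Nb (i : ℕ) (hi : i < D.rank) (t : K) (ht : t ≠ 0) : nB D C.xb (D.simple i) t ∈ Nb C :=
  Subgroup.subset_closure ⟨i, t, hi, ht, rfl⟩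

theorem nGen_inv : ∀ x ∈ nGen C, x⁻¹ ∈ nGen C := by
  rintro x ⟨i, t, hi, ht, rfl⟩
  exact ⟨i, -t, hi, neg_ne_zero.mpr ht, C.nB_inv _ (C.hP.tab.simple_lt i hi) t⟩

/-- Every element of `N̄` acts monomially through a word. -/
theorem exists_Mon : ∀ m ∈ Nb C, ∃ w : List ℕ, (∀ j ∈ w, j < D.rank) ∧ Mon C m w := by
  apply closure_left_induct (nGen C) (nGen_inv C)
  · exact ⟨[], by simp, Mon_one C⟩
  · rintro x ⟨i, t, hi, ht, rfl⟩ y ⟨w, hw, hM⟩
    refine ⟨[i] ++ w, ?_, Mon_mul C (Mon_nB C i hi t ht) hM hw⟩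
    intro j hj
    rcases List.mem_append.mp hj with h | h
    · rw [List.mem_singleton.mp h]; exact hi
    · exact hw j h

theorem xb_neg_eq (r : ℕ) (hr : r < D.nroots) (v : K) (hv : v ≠ 0) :
    C.xb (D.neg r) v = C.xb r v⁻¹ * nB D C.xb r (-v⁻¹) * C.xb r v⁻¹ := by
  unfold nB
  have e1 : -(-v⁻¹)⁻¹ = v := by rw [inv_neg, inv_inv, neg_neg]
  rw [e1]
  have e2 : C.xb r v⁻¹ * C.xb r (-v⁻¹) = 1 := by rw [C.rel.add r hr, add_neg_cancel, xb_zero C.rel r hr]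
  have e3 : C.xb r (-v⁻¹) * C.xb r v⁻¹ = 1 := by rw [C.rel.add r hr, neg_add_cancel, xb_zero C.rel r hr]
  calc C.xb (D.neg r) v = (C.xb r v⁻¹ * C.xb r (-v⁻¹)) * C.xb (D.neg r) v * (C.xb r (-v⁻¹) * C.xb r v⁻¹) := by
        rw [e2, e3, one_mul, mul_one]
    _ = C.xb r v⁻¹ * (C.xb r (-v⁻¹) * C.xb (D.neg r) v * C.xb r (-v⁻¹)) * C.xb r v⁻¹ := by group

/-- The action of `n̄_p(t)` on `x̄_p` and `x̄_{-p}`. -/
theorem Mon_nB_simple (i : ℕ) (hi : i < D.rank) (t : K) (ht : t ≠ 0) :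
    ∃ c : K, c ≠ 0 ∧
      (∀ u : K, nB D C.xb (D.simple i) t * C.xb (D.simple i) u * (nB D C.xb (D.simple i) t)⁻¹ =
        C.xb (D.neg (D.simple i)) (c * u)) ∧
      (∀ u : K, nB D C.xb (D.simple i) t * C.xb (D.neg (D.simple i)) u * (nB D C.xb (D.simple i) t)⁻¹ =
        C.xb (D.simple i) (c⁻¹ * u)) := by
  have hT := C.hP.tab
  have hp := hT.simple_lt i hi
  obtain ⟨c, h0, h1, h2⟩ := Mon_nB C i hi t ht (D.simple i) hp
  have e : reflW D [i] (D.simple i) = D.neg (D.simple i) := reflectRoot_simple D i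
  rw [e] at h1 h2
  rw [hT.neg_neg _ hp] at h2
  exact ⟨c, h0, h1, h2⟩

theorem hB_eq (i : ℕ) (hi : i < D.rank) (t : K) :
    hB C i t = nB D C.xb (D.simple i) t * (nB D C.xb (D.simple i) 1)⁻¹ := by
  rw [hB, C.nB_inv _ (C.hP.tab.simple_lt i hi)]

theorem Mon_hB (i : ℕ) (hi : i < D.rank) (t : K) (ht : t ≠ 0) : Mon C (hB C i t) [i, i] :=
  Mon_mul C (Mon_nB C i hi t ht) (Mon_nB C i hi (-1) (by simp)) (by simpa using hi)

/-- `h̄_p(t)` acts diagonally on the root elements. -/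
theorem hB_conj (i : ℕ) (hi : i < D.rank) (t : K) (ht : t ≠ 0) (s : ℕ) (hs : s < D.nroots) :
    ∃ c : K, c ≠ 0 ∧ (∀ u : K, hB C i t * C.xb s u * (hB C i t)⁻¹ = C.xb s (c * u)) ∧
      (∀ u : K, hB C i t * C.xb (D.neg s) u * (hB C i t)⁻¹ = C.xb (D.neg s) (c⁻¹ * u)) := by
  obtain ⟨c, h0, h1, h2⟩ := Mon_hB C i hi t ht s hs
  have e : reflW D [i, i] s = s := C.hP.tab.refl_invol i hi s hs
  rw [e] at h1 h2
  exact ⟨c, h0, h1, h2⟩

/-- `Ū = X̄_p Ū_p`. -/
theorem pos_decomp (i : ℕ) (hi : i < D.rank) :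
    ∀ u ∈ XP C.xb D.IsPosRoot, ∃ a : K, ∃ v ∈ XP C.xb (PosNe D i), u = C.xb (D.simple i) a * v := by
  intro u hu
  have hp := C.hP.tab.simple_lt i hi
  refine decomp_of_norm C.rel (PosNe D i) (D.simple i) hp
    (fun t g hg => xb_conj_mem C.rel (PosNe D i) _ hp (C.posNe_norm i hi).1 t g hg) u ?_
  refine XP_mono C.xb (fun r hr => ?_) hu
  by_cases h : r = D.simple i
  · exact Or.inl h
  · exact Or.inr ⟨hr, h⟩

theorem posNe_le {i : ℕ} : XP C.xb (PosNe D i) ≤ XP C.xb D.IsPosRoot := XP_mono C.xb (fun _ hr => hr.1)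

/-- The key step: `n̄_p(t) x̄_p(b) m ∈ Ū N̄ Ū` for `m ∈ N̄`. -/
theorem key_step (m : Γ) (hm : m ∈ Nb C) (i : ℕ) (hi : i < D.rank) (t : K) (ht : t ≠ 0) (b : K) :
    nB D C.xb (D.simple i) t * C.xb (D.simple i) b * m ∈ Cset C := by
  have hT := C.hP.tab
  have hp := hT.simple_lt i hi
  obtain ⟨w, hw, hM⟩ := exists_Mon C m hm
  have hwr : ∀ j ∈ w.reverse, j < D.rank := fun j hj => hw j (List.mem_reverse.mp hj)
  obtain ⟨c, hc0, hc1, hc2⟩ := Mon_inv C hM hw (D.simple i) hp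
  simp only [inv_inv] at hc1 hc2
  have hρlt : reflW D w.reverse (D.simple i) < D.nroots := reflW_lt hT w.reverse hwr _ hp
  have hnt := nB_mem_Nb C i hi t ht
  rcases pos_or_neg hT _ hρlt with hpos | hneg
  · refine ⟨1, Subgroup.one_mem _, _, Subgroup.mul_mem _ hnt hm, C.xb _ (c * b), xb_mem_XP C.xb _ _ hpos _, ?_⟩
    rw [← hc1 b]; group
  · by_cases hb : b = 0
    · subst hb
      rw [xb_zero C.rel _ hp, mul_one]
      exact ⟨1, Subgroup.one_mem _, _, Subgroup.mul_mem _ hnt hm, 1, Subgroup.one_mem _, by group⟩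
    · obtain ⟨c₁, hc10, hc11, _⟩ := Mon_nB_simple C i hi 1 one_ne_zero
      have hv : c₁ * b ≠ 0 := mul_ne_zero hc10 hb
      obtain ⟨c₃, hc30, hc31, _⟩ := Mon_inv C (Mon_nB C i hi 1 one_ne_zero) (by simpa using hi) (D.simple i) hp
      have e : reflW D [i].reverse (D.simple i) = D.neg (D.simple i) := reflectRoot_simple D i
      rw [e] at hc31
      simp only [inv_inv] at hc31
      obtain ⟨c₄, hc40, hc41, _⟩ := hB_conj C i hi t ht (D.simple i) hp
      have hposρ : D.IsPosRoot (D.neg (reflW D w.reverse (D.simple i))) := (hT.pos_neg _ hρlt).2.1 hneg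
      have hn1 := nB_mem_Nb C i hi 1 one_ne_zero
      have hnv := nB_mem_Nb C i hi (-(c₁ * b)⁻¹) (neg_ne_zero.mpr (inv_ne_zero hv))
      have hh : hB C i t ∈ Nb C := by
        rw [hB_eq C i hi]
        exact Subgroup.mul_mem _ hnt (Subgroup.inv_mem _ hn1)
      refine ⟨C.xb (D.simple i) (c₄ * (c₁ * b)⁻¹), xb_mem_XP C.xb _ _ (hT.simple_pos i hi) _,
        hB C i t * nB D C.xb (D.simple i) (-(c₁ * b)⁻¹) * nB D C.xb (D.simple i) 1 * m,
        Subgroup.mul_mem _ (Subgroup.mul_mem _ (Subgroup.mul_mem _ hh hnv) hn1) hm,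
        C.xb (D.neg (reflW D w.reverse (D.simple i))) (c⁻¹ * (c₃ * (c₁ * b)⁻¹)),
        xb_mem_XP C.xb _ _ hposρ _, ?_⟩
      rw [← hc41, ← hc2, ← hc31]
      have e1 := xb_neg_eq C (D.simple i) hp (c₁ * b) hv
      have e2 := hc11 b
      have e3 : C.xb (D.simple i) b = (nB D C.xb (D.simple i) 1)⁻¹ *
          (C.xb (D.simple i) (c₁ * b)⁻¹ * nB D C.xb (D.simple i) (-(c₁ * b)⁻¹) * C.xb (D.simple i) (c₁ * b)⁻¹) *
            nB D C.xb (D.simple i) 1 := by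
        rw [← e1, ← e2]; group
      rw [e3, hB_eq C i hi]
      group

/-- `Ū N̄ Ū` is stable under left multiplication by `n̄_p(t)`. -/
theorem nB_mul_mem (i : ℕ) (hi : i < D.rank) (t : K) (ht : t ≠ 0) (g : Γ) (hg : g ∈ Cset C) :
    nB D C.xb (D.simple i) t * g ∈ Cset C := by
  have hT := C.hP.tab
  have hp := hT.simple_lt i hi
  obtain ⟨u, hu, m, hm, u', hu', rfl⟩ := hg
  obtain ⟨a, v, hv, rfl⟩ := pos_decomp C i hi u hu
  obtain ⟨c, hc0, hc1, _⟩ := Mon_nB_simple C i hi t ht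
  have hnt := nB_mem_Nb C i hi t ht
  have hv' := C.posNe_conj i hi t v hv
  by_cases ha : a = 0
  · subst ha
    rw [xb_zero C.rel _ hp, one_mul]
    refine ⟨_, posNe_le C hv', _, Subgroup.mul_mem _ hnt hm, u', hu', ?_⟩
    group
  · have hca : c * a ≠ 0 := mul_ne_zero hc0 ha
    have e1 := xb_neg_eq C (D.simple i) hp (c * a) hca
    have e2 := hc1 a
    have hs0 : -(c * a)⁻¹ ≠ 0 := neg_ne_zero.mpr (inv_ne_zero hca)
    -- v'' and v'''
    have hv2 := xb_conj_mem C.rel (PosNe D i) _ hp (C.posNe_norm i hi).1 (c * a)⁻¹ _ hv'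
    have hv3 := C.posNe_conj i hi (-(c * a)⁻¹) _ hv2
    obtain ⟨u₁, hu₁, m₃, hm₃, u₂, hu₂, hkey⟩ :=
      key_step C (nB D C.xb (D.simple i) t * m) (Subgroup.mul_mem _ hnt hm) i hi (-(c * a)⁻¹) hs0 (c * a)⁻¹
    refine ⟨C.xb (D.simple i) (c * a)⁻¹ *
        (nB D C.xb (D.simple i) (-(c * a)⁻¹) * (C.xb (D.simple i) (c * a)⁻¹ *
          (nB D C.xb (D.simple i) t * v * (nB D C.xb (D.simple i) t)⁻¹) * (C.xb (D.simple i) (c * a)⁻¹)⁻¹) *
            (nB D C.xb (D.simple i) (-(c * a)⁻¹))⁻¹) * u₁,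
      Subgroup.mul_mem _ (Subgroup.mul_mem _ (xb_mem_XP C.xb _ _ (hT.simple_pos i hi) _) (posNe_le C hv3)) hu₁,
      m₃, hm₃, u₂ * u', Subgroup.mul_mem _ hu₂ hu', ?_⟩
    have e3 : nB D C.xb (D.simple i) t * (C.xb (D.simple i) a * v * m * u') =
        (nB D C.xb (D.simple i) t * C.xb (D.simple i) a * (nB D C.xb (D.simple i) t)⁻¹) *
          (nB D C.xb (D.simple i) t * v * (nB D C.xb (D.simple i) t)⁻¹) * (nB D C.xb (D.simple i) t * m) * u' := by
      group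
    rw [e3, e2, e1]
    have e4 : ∀ X Z V M U' U₁ M₃ U₂ : Γ, Z * X * M = U₁ * M₃ * U₂ →
        X * Z * X * V * M * U' = X * (Z * (X * V * X⁻¹) * Z⁻¹) * U₁ * M₃ * (U₂ * U') := by
      intro X Z V M U' U₁ M₃ U₂ h
      have : U₁ * M₃ * (U₂ * U') = (U₁ * M₃ * U₂) * U' := by group
      rw [mul_assoc (X * (Z * (X * V * X⁻¹) * Z⁻¹)), mul_assoc (X * (Z * (X * V * X⁻¹) * Z⁻¹)), this, ← h]
      group
    exact e4 _ _ _ _ _ _ _ _ hkey

/-- The generators of the subgroup generated by `Ū` and `N̄`. -/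
def bruGen (C : StCtx D K Γ z η) : Set Γ := (XP C.xb D.IsPosRoot : Set Γ) ∪ nGen C

theorem mem_Cset_of_closure : ∀ g ∈ Subgroup.closure (bruGen C), g ∈ Cset C := by
  apply closure_left_induct (bruGen C)
  · rintro x (hx | hx)
    · exact Or.inl (Subgroup.inv_mem _ hx)
    · exact Or.inr (nGen_inv C x hx)
  · exact ⟨1, Subgroup.one_mem _, 1, Subgroup.one_mem _, 1, Subgroup.one_mem _, by group⟩
  · rintro x (hx | ⟨i, t, hi, ht, rfl⟩) y hy
    · obtain ⟨u, hu, m, hm, u', hu', rfl⟩ := hy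
      exact ⟨x * u, Subgroup.mul_mem _ hx hu, m, hm, u', hu', by group⟩
    · exact nB_mul_mem C i hi t ht y hy

/-- The element of `N̄` of a word. -/
def nWB (C : StCtx D K Γ z η) (w : List ℕ) : Γ := (w.map fun i => nB D C.xb (D.simple i) 1).prod

theorem nWB_nil : nWB C [] = 1 := rfl

theorem nWB_cons (i : ℕ) (w : List ℕ) : nWB C (i :: w) = nB D C.xb (D.simple i) 1 * nWB C w := by
  simp [nWB]

theorem nWB_append (w w' : List ℕ) : nWB C (w ++ w') = nWB C w * nWB C w' := by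
  simp [nWB]

theorem nWB_mem (w : List ℕ) (hw : ∀ j ∈ w, j < D.rank) : nWB C w ∈ Nb C := by
  induction w with
  | nil => exact Subgroup.one_mem _
  | cons i w ih =>
    rw [nWB_cons]
    exact Subgroup.mul_mem _ (nB_mem_Nb C i (hw i (List.mem_cons_self ..)) 1 one_ne_zero)
      (ih (fun j hj => hw j (List.mem_cons_of_mem _ hj)))

theorem Mon_nWB (w : List ℕ) (hw : ∀ j ∈ w, j < D.rank) : Mon C (nWB C w) w := by
  induction w with
  | nil => exact Mon_one C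
  | cons i w ih =>
    have hw' : ∀ j ∈ w, j < D.rank := fun j hj => hw j (List.mem_cons_of_mem _ hj)
    rw [nWB_cons]
    exact Mon_mul C (Mon_nB C i (hw i (List.mem_cons_self ..)) 1 one_ne_zero) (ih hw') hw'

/-- The group is `Ū N̄ Ū` when it is generated by the root elements. -/
theorem mem_Cset (hgen : Subgroup.closure {g | ∃ (r : ℕ) (t : K), r < D.nroots ∧ g = C.xb r t} = ⊤) (g : Γ) :
    g ∈ Cset C := by
  apply mem_Cset_of_closure C
  have hT := C.hP.tab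
  have h1 : Subgroup.closure {g | ∃ (r : ℕ) (t : K), r < D.nroots ∧ g = C.xb r t} ≤
      Subgroup.closure (bruGen C) := by
    rw [Subgroup.closure_le]
    rintro x ⟨r, t, hr, rfl⟩
    obtain ⟨w, hw, j, hj, e⟩ := exists_word_to_simple hT r hr
    obtain ⟨c, hc0, hc1, _⟩ := Mon_nWB C w hw r hr
    rw [e] at hc1
    have h2 := hc1 t
    have h3 : C.xb r t = (nWB C w)⁻¹ * C.xb (D.simple j) (c * t) * nWB C w := by
      rw [← h2]; group
    have hN : nWB C w ∈ Subgroup.closure (bruGen C) := by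
      have := nWB_mem C w hw
      exact Subgroup.closure_mono (fun x hx => Or.inr hx) this
    have hX : C.xb (D.simple j) (c * t) ∈ Subgroup.closure (bruGen C) :=
      Subgroup.subset_closure (Or.inl (xb_mem_XP C.xb _ _ (hT.simple_pos j hj) _))
    show C.xb r t ∈ Subgroup.closure (bruGen C)
    rw [h3]
    exact Subgroup.mul_mem _ (Subgroup.mul_mem _ (Subgroup.inv_mem _ hN) hX) hN
  apply h1
  rw [hgen]
  exact Subgroup.mem_top g

end Bru

end Cfsg.Agent.H46
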