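import Cfsg.Agent.H46.StMono

set_option autoImplicit false
set_option linter.unusedSectionVars false

/-!
# Cheap checks implying the table facts `StTab`
-/

namespace Cfsg.Agent.H46

open Cfsg.Lie Cfsg.Agent.H23

variable {D : ChevalleyDatum}

/-- Check that `L` is the list `convList D w` of a reduced word `w`, peeling one reflection at a time. -/
def convChk (D : ChevalleyDatum) : List ℕ → List ℕ → Bool
  | [], L => L.isEmpty
  | i :: w, L =>
    match L with
    | [] => false
    | e :: L₁ => (decide (i < D.rank) && e == D.simple i && L₁.all (fun r => decide (D.IsPosRoot r))) &&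
        convChk D w (L₁.map (D.reflectRoot i))

theorem convChk_spec (hT : Tab D) : ∀ (w L : List ℕ), convChk D w L = true → L = convList D w ∧ convOK D w = true
  | [], L, h => by
    unfold convChk at h
    rw [List.isEmpty_iff] at h
    exact ⟨h, rfl⟩
  | i :: w, [], h => by
    unfold convChk at h
    exact absurd h (by simp)
  | i :: w, e :: L₁, h => by
    unfold convChk at h
    simp only [Bool.and_eq_true, decide_eq_true_eq, beq_iff_eq, List.all_eq_true] at h
    obtain ⟨⟨⟨hi, he⟩, hpos⟩, hrec⟩ := h
    obtain ⟨h1, h2⟩ := convChk_spec hT w _ hrec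
    have hL : (L₁.map (D.reflectRoot i)).map (D.reflectRoot i) = L₁ := by
      rw [List.map_map]
      conv_rhs => rw [← List.map_id L₁]
      apply List.map_congr_left
      intro r hr
      exact hT.refl_invol i hi r (hpos r hr).1
    constructor
    · show e :: L₁ = D.simple i :: (convList D w).map (D.reflectRoot i)
      rw [← h1, hL, he]
    · unfold convOK
      simp only [Bool.and_eq_true, decide_eq_true_eq, Bool.not_eq_true', List.contains_eq_mem,
        decide_eq_false_iff_not]
      refine ⟨⟨hi, ?_⟩, h2⟩
      rw [← h1]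
      intro hmem
      obtain ⟨r, hr, hr2⟩ := List.mem_map.mp hmem
      have h3 : r = D.neg (D.simple i) := by
        have := hT.refl_invol i hi r (hpos r hr).1
        rw [hr2, reflectRoot_simple] at this
        exact this.symm
      have h4 : D.IsNegRoot r := by
        rw [h3]; exact (hT.pos_neg _ (hT.simple_lt i hi)).1 (hT.simple_pos i hi)
      exact not_pos_and_neg hT r (hpos r hr).1 ⟨hpos r hr, h4⟩

/-- The checks, on explicit lists, implying `StTab`. -/
structure StChk (D : ChevalleyDatum) (w Lp Ln : List ℕ) : Prop where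
  conv : convChk D w Lp = true
  chP : chainOK D Lp = true
  negEq : Lp.map D.neg = Ln
  chN : chainOK D Ln = true
  cov : ∀ s < D.nroots, D.IsPosRoot s → s ∈ Lp
  tabCN : TabCN D
  a4 : ∀ i < D.rank, ∃ γ δ k T W, a4Chk D i γ δ k T W = true

theorem StChk.tab {w Lp Ln : List ℕ} (hT : Tab D) (h : StChk D w Lp Ln) : StTab D w := by
  obtain ⟨h1, h2⟩ := convChk_spec hT w Lp h.conv
  refine ⟨h2, ?_, ?_, ?_, h.tabCN, h.a4⟩
  · rw [← h1]; exact h.chP
  · rw [← h1, h.negEq]; exact h.chN
  · rw [← h1]; exact h.cov

end Cfsg.Agent.H46
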