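import Cfsg.Agent.H46.StChk
import Cfsg.Agent.H46.CommChk

set_option autoImplicit false
set_option linter.unusedSectionVars false

/-!
# Cheaper forms of the checks implying `StChk`
-/

namespace Cfsg.Agent.H46

open Cfsg.Lie Cfsg.Agent.H23

variable {D : ChevalleyDatum}

/-- `convChk` with the reflections read off a packed table. -/
def convChkT (D : ChevalleyDatum) (rT : List ℕ) : List ℕ → List ℕ → Bool
  | [], L => L.isEmpty
  | i :: w, L =>
    match L with
    | [] => false
    | e :: L₁ => (decide (i < D.rank) && e == D.simple i &&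
          L₁.all (fun r => strictN r fun r' => decide (D.IsPosRoot r'))) &&
        convChkT D rT w (L₁.map (rlk (rT.getD i 0)))

theorem convChkT_imp {rT : List ℕ} (hT : TabT D rT) :
    ∀ (w L : List ℕ), convChkT D rT w L = true → convChk D w L = true
  | [], L, h => by
    unfold convChkT at h
    unfold convChk
    exact h
  | i :: w, [], h => by
    unfold convChkT at h
    exact absurd h (by simp)
  | i :: w, e :: L₁, h => by
    unfold convChkT at h
    simp only [Bool.and_eq_true, decide_eq_true_eq, beq_iff_eq, List.all_eq_true, strictN_eq] at h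
    obtain ⟨⟨⟨hi, he⟩, hpos⟩, hrec⟩ := h
    have hL : L₁.map (D.reflectRoot i) = L₁.map (rlk (rT.getD i 0)) := by
      apply List.map_congr_left
      intro r hr
      exact hT.refl_eq i hi r (hpos r hr).1
    unfold convChk
    simp only [Bool.and_eq_true, decide_eq_true_eq, beq_iff_eq, List.all_eq_true]
    refine ⟨⟨⟨hi, he⟩, hpos⟩, ?_⟩
    rw [hL]
    exact convChkT_imp hT w _ hrec

/-- A row of the chain condition, through `commTermsL`. -/
def chainRowL (D : ChevalleyDatum) (e : ℕ) (L : List ℕ) : Bool :=
  decide (e < D.nroots) && L.all (fun e' => decide (e' < D.nroots) && !(e' == e) && !(e' == D.neg e) &&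
      (commTermsL D e e').all (fun c => L.contains c.1))

/-- The first `n` rows of the chain condition. -/
def chainOKn (D : ChevalleyDatum) : ℕ → List ℕ → Bool
  | 0, _ => true
  | _ + 1, [] => true
  | n + 1, e :: L => chainRowL D e L && chainOKn D n L

theorem chainOK_step : ∀ (n : ℕ) (L L' : List ℕ), L.drop n = L' → chainOKn D n L = true →
    chainOK D L' = true → chainOK D L = true
  | 0, L, L', hd, _, h2 => by
    rw [List.drop_zero] at hd
    rw [hd]; exact h2
  | n + 1, [], L', _, _, _ => rfl
  | n + 1, e :: L, L', hd, h1, h2 => by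
    rw [List.drop_succ_cons] at hd
    unfold chainOKn at h1
    rw [Bool.and_eq_true] at h1
    have ih := chainOK_step n L L' hd h1.2 h2
    unfold chainOK
    rw [Bool.and_eq_true]
    refine ⟨?_, ih⟩
    have h3 := h1.1
    unfold chainRowL at h3
    simp only [commTermsL_eq] at h3
    exact h3

/-- `TabCN` through `commTermsL`. -/
def TabCNL (D : ChevalleyDatum) : Prop :=
  ∀ i < D.rank, ∀ s < D.nroots, D.IsNegRoot s → s ≠ D.neg (D.simple i) →
    (∀ c ∈ commTermsL D (D.simple i) s, D.IsNegRoot c.1 ∧ c.1 ≠ D.neg (D.simple i)) ∧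
    (∀ c ∈ commTermsL D (D.neg (D.simple i)) s, D.IsNegRoot c.1 ∧ c.1 ≠ D.neg (D.simple i))

theorem TabCNL.tabCN (h : TabCNL D) : TabCN D := by
  intro i hi s hs h1 h2
  have h3 := h i hi s hs h1 h2
  rw [commTermsL_eq, commTermsL_eq] at h3
  exact h3

end Cfsg.Agent.H46
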