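import Cfsg.Agent.H46.StKer
import Cfsg.Prelude.Def_Steinberg

set_option autoImplicit false
set_option linter.unusedSectionVars false

/-!
# The kernel of the homomorphism from a presented group satisfying (R1), (R2) onto the Chevalley group
-/

namespace Cfsg.Agent.H46

open Cfsg.Lie Cfsg.Agent.H23

variable {D : ChevalleyDatum} {K : Type*} [Field K] {z η : ℕ → ℕ → ℤ}

/-- The image of `x̄_r(t)` in a presented group. -/
def xbP (D : ChevalleyDatum) (rels : Set (FreeGroup (Fin D.nroots × K))) (r : ℕ) (t : K) : PresentedGroup rels :=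
  PresentedGroup.mk rels (D.stX r t)

theorem mk_stWord (rels : Set (FreeGroup (Fin D.nroots × K))) (w : List (ℕ × K)) :
    PresentedGroup.mk rels (D.stWord w) = wordB (xbP D rels) w := by
  unfold ChevalleyDatum.stWord wordB
  rw [map_list_prod, List.map_map]
  rfl

theorem stRel_xbP (rels : Set (FreeGroup (Fin D.nroots × K)))
    (hA : ∀ (r : ℕ) (t₁ t₂ : K), r < D.nroots → D.stX r t₁ * D.stX r t₂ * (D.stX r (t₁ + t₂))⁻¹ ∈ rels)
    (hB : ∀ (r s : ℕ) (t u : K), r < D.nroots → s < D.nroots → s ≠ r → s ≠ D.neg r →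
      (D.stX s u)⁻¹ * (D.stX r t)⁻¹ * D.stX s u * D.stX r t * (D.stWord (D.commWord K r s t u))⁻¹ ∈ rels) :
    StRel D (xbP D rels) where
  add := fun r hr t u => by
    have h1 := PresentedGroup.one_of_mem (hA r t u hr)
    rw [map_mul, map_mul, map_inv, mul_inv_eq_one] at h1
    exact h1
  comm := fun r hr s hs h1 h2 t u => by
    have h3 := PresentedGroup.one_of_mem (hB r s t u hr hs h1 h2)
    rw [map_mul, map_mul, map_mul, map_mul, map_inv, map_inv, map_inv, mul_inv_eq_one, mk_stWord] at h3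
    exact h3

theorem xbP_of_ge (rels : Set (FreeGroup (Fin D.nroots × K))) (r : ℕ) (hr : D.nroots ≤ r) (t : K) :
    xbP D rels r t = 1 := by
  unfold xbP ChevalleyDatum.stX
  rw [dif_neg (by omega), map_one]

theorem closure_xbP (rels : Set (FreeGroup (Fin D.nroots × K))) :
    Subgroup.closure {g | ∃ (r : ℕ) (t : K), r < D.nroots ∧ g = xbP D rels r t} = ⊤ := by
  rw [eq_top_iff, ← PresentedGroup.closure_range_of rels]
  apply Subgroup.closure_mono
  rintro g ⟨⟨r, t⟩, rfl⟩
  refine ⟨r.val, t, r.isLt, ?_⟩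
  unfold xbP ChevalleyDatum.stX
  rw [dif_pos r.isLt]
  rfl

theorem mk_stH (rels : Set (FreeGroup (Fin D.nroots × K))) (r : ℕ) (t : K) :
    PresentedGroup.mk rels (D.stH r t) = nB D (xbP D rels) r t * nB D (xbP D rels) r (-1) := by
  unfold ChevalleyDatum.stH ChevalleyDatum.hWord ChevalleyDatum.nWord
  rw [mk_stWord, wordB_append]
  simp only [wordB_cons, wordB_nil, mul_one, nB, mul_assoc]

/-- The context of a presented group satisfying (R1), (R2) with a homomorphism onto the Chevalley group. -/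
noncomputable def ctxP (rels : Set (FreeGroup (Fin D.nroots × K)))
    (hA : ∀ (r : ℕ) (t₁ t₂ : K), r < D.nroots → D.stX r t₁ * D.stX r t₂ * (D.stX r (t₁ + t₂))⁻¹ ∈ rels)
    (hB : ∀ (r s : ℕ) (t u : K), r < D.nroots → s < D.nroots → s ≠ r → s ≠ D.neg r →
      (D.stX s u)⁻¹ * (D.stX r t)⁻¹ * D.stX s u * D.stX r t * (D.stWord (D.commWord K r s t u))⁻¹ ∈ rels)
    {w : List ℕ} (hTab : StTab D w) (hP : PackB D K z η) (hV : SemV D K)
    (θ : PresentedGroup rels →* ↥(D.group K))
    (hθ : ∀ (r : ℕ) (t : K), r < D.nroots →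
      ((θ (PresentedGroup.mk rels (D.stX r t)) : GL D.Idx K) : Matrix D.Idx D.Idx K) = D.x K r t) :
    StCtx D K (PresentedGroup rels) z η where
  xb := xbP D rels
  rel := stRel_xbP rels hA hB
  hP := hP
  hV := hV
  π := (D.group K).subtype.comp θ
  hπ := by
    intro r t
    by_cases hr : r < D.nroots
    · exact eq_xU hP.sem _ r t (hθ r t hr)
    · rw [xbP_of_ge rels r (by omega), map_one, xU_of_ge hP.sem r (by omega)]
  w := w
  tab := hTab

/-- The kernel of a homomorphism from a presented group satisfying (R1), (R2) onto the Chevalley group, mapping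
`x̄_r(t)` to `x_r(t)`, lies in the subgroup generated by the `h̄_p(t)` and in the centre. -/
theorem presented_ker (rels : Set (FreeGroup (Fin D.nroots × K)))
    (hA : ∀ (r : ℕ) (t₁ t₂ : K), r < D.nroots → D.stX r t₁ * D.stX r t₂ * (D.stX r (t₁ + t₂))⁻¹ ∈ rels)
    (hB : ∀ (r s : ℕ) (t u : K), r < D.nroots → s < D.nroots → s ≠ r → s ≠ D.neg r →
      (D.stX s u)⁻¹ * (D.stX r t)⁻¹ * D.stX s u * D.stX r t * (D.stWord (D.commWord K r s t u))⁻¹ ∈ rels)
    {w : List ℕ} (hTab : StTab D w) (hP : PackB D K z η) (hV : SemV D K)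
    (θ : PresentedGroup rels →* ↥(D.group K))
    (hθ : ∀ (r : ℕ) (t : K), r < D.nroots →
      ((θ (PresentedGroup.mk rels (D.stX r t)) : GL D.Idx K) : Matrix D.Idx D.Idx K) = D.x K r t) :
    θ.ker ≤ Subgroup.closure {h | ∃ (i : ℕ) (t : K), i < D.rank ∧ t ≠ 0 ∧
        h = PresentedGroup.mk rels (D.stH (D.simple i) t)} ⊓ Subgroup.center (PresentedGroup rels) := by
  intro k hk
  set C := ctxP rels hA hB hTab hP hV θ hθ with hC
  have hk' : C.π k = 1 := by
    show (D.group K).subtype (θ k) = 1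
    rw [MonoidHom.mem_ker.mp hk, map_one]
  have h1 := ker_mem C (closure_xbP rels) k hk'
  refine ⟨?_, h1.2⟩
  have h2 : Hb C = Subgroup.closure {h | ∃ (i : ℕ) (t : K), i < D.rank ∧ t ≠ 0 ∧
      h = PresentedGroup.mk rels (D.stH (D.simple i) t)} := by
    unfold Hb
    congr 1
    ext g
    constructor
    · rintro ⟨i, t, hi, ht, rfl⟩
      exact ⟨i, t, hi, ht, (mk_stH rels _ t).symm⟩
    · rintro ⟨i, t, hi, ht, rfl⟩
      exact ⟨i, t, hi, ht, mk_stH rels _ t⟩
  rw [← h2]
  exact h1.1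

end Cfsg.Agent.H46
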