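import Cfsg.Agent.H46.StSep

set_option autoImplicit false
set_option linter.unusedSectionVars false

/-!
# Matrix-side facts on `n_p(t)` used to lift relations to an abstract group
-/

namespace Cfsg.Agent.H46

open Cfsg.Lie Cfsg.Agent.H23

variable {D : ChevalleyDatum} {K : Type*} [Field K] {z η : ℕ → ℕ → ℤ}

theorem xU_inj (hP : PackB D K z η) (r : ℕ) (hr : r < D.nroots) (a b : K)
    (h : xU hP.sem r a = xU hP.sem r b) : a = b := by
  have h1 : xU hP.sem r (a - b) = 1 := by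
    rw [sub_eq_add_neg, ← xU_mul, ← xU_inv, h, mul_inv_cancel]
  exact sub_eq_zero.mp (xU_eq_one_imp hP.sem hP.tab hP.tab2 r hr _ h1)

/-- The character of a torus element takes inverse values on opposite roots. -/
theorem torus_neg (hP : PackB D K z η) (χ : ℕ → K) (g : GL D.Idx K) (hg : IsTorus D χ g) (s : ℕ)
    (hs : s < D.nroots) : χ (D.neg s) * χ s = 1 := by
  have hS := hP.sem
  have hn := hP.tab.neg_lt s hs
  have hne := hP.tab2.neg_ne s hs
  have h1 := isTorus_conj hS χ g hg s hs 1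
  rw [mul_inv_eq_iff_eq_mul] at h1
  have h2 := congrArg (fun m : GL D.Idx K => (m : Matrix D.Idx D.Idx K) (Sum.inr ⟨s, hs⟩) (Sum.inr ⟨D.neg s, hn⟩)) h1
  simp only [Units.val_mul, xU_val] at h2
  rw [hg.2.2.2, Matrix.diagonal_mul, Matrix.mul_diagonal, x_entry_neg s hs hn hne, x_entry_neg s hs hn hne] at h2
  have e1 : ix D (Sum.inr ⟨s, hs⟩ : D.Idx) = s := rfl
  have e2 : ix D (Sum.inr ⟨D.neg s, hn⟩ : D.Idx) = D.neg s := rfl
  rw [e1, e2, mul_one] at h2
  have h0 : χ s ≠ 0 := hg.1 s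
  have h3 : χ s * (χ (D.neg s) * χ s - 1) = 0 := by linear_combination h2
  rcases mul_eq_zero.mp h3 with h4 | h4
  · exact absurd h4 h0
  · exact sub_eq_zero.mp h4

theorem nU_eq_hU_mul (hS : Sem D K z) (r : ℕ) (t : K) : nU hS r t = hU hS r t * nU hS r 1 := by
  rw [hU_eq, mul_assoc, nU_neg_one_mul, mul_one]

/-- Conjugation by `n_p(t)`, `p` fundamental, on the root elements of `s` and `-s`. -/
theorem nU_conj_t (hP : PackB D K z η) (i : ℕ) (hi : i < D.rank) (t : K) (ht : t ≠ 0) (s : ℕ) (hs : s < D.nroots) :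
    ∃ c : K, c ≠ 0 ∧
      (∀ u : K, nU hP.sem (D.simple i) t * xU hP.sem s u * (nU hP.sem (D.simple i) t)⁻¹ =
        xU hP.sem (D.reflectRoot i s) (c * u)) ∧
      (∀ u : K, nU hP.sem (D.simple i) t * xU hP.sem (D.neg s) u * (nU hP.sem (D.simple i) t)⁻¹ =
        xU hP.sem (D.neg (D.reflectRoot i s)) (c⁻¹ * u)) := by
  have hS := hP.sem
  have hT := hP.tab
  have hp := hT.simple_lt i hi
  have hq := hT.refl_lt i hi s hs
  have htor := hU_isTorus hS hT (D.simple i) hp t ht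
  set χ : ℕ → K := fun c => t ^ z (D.simple i) c with hχ
  have he : ((η i s : ℤ) : K) ≠ 0 := by
    rcases hP.semN.eta i s with h | h <;> rw [h] <;> simp
  have hpair := torus_neg hP χ _ htor (D.reflectRoot i s) hq
  refine ⟨χ (D.reflectRoot i s) * ((η i s : ℤ) : K), mul_ne_zero (htor.1 _) he, fun u => ?_, fun u => ?_⟩
  · have e : nU hS (D.simple i) t * xU hS s u * (nU hS (D.simple i) t)⁻¹ =
        hU hS (D.simple i) t * (nU hS (D.simple i) 1 * xU hS s u * (nU hS (D.simple i) 1)⁻¹) *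
          (hU hS (D.simple i) t)⁻¹ := by
      rw [nU_eq_hU_mul hS (D.simple i) t]; group
    rw [e, nU_conj hS hP.semN i hi s hs, isTorus_conj hS χ _ htor _ hq, mul_assoc]
  · have e : nU hS (D.simple i) t * xU hS (D.neg s) u * (nU hS (D.simple i) t)⁻¹ =
        hU hS (D.simple i) t * (nU hS (D.simple i) 1 * xU hS (D.neg s) u * (nU hS (D.simple i) 1)⁻¹) *
          (hU hS (D.simple i) t)⁻¹ := by
      rw [nU_eq_hU_mul hS (D.simple i) t]; group
    rw [e, nU_conj hS hP.semN i hi _ (hT.neg_lt s hs), hT.refl_neg i hi s hs, hP.etaNeg i hi s hs,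
      isTorus_conj hS χ _ htor _ (hT.neg_lt _ hq), ← mul_assoc]
    congr 2
    have e3 : ((η i s : ℤ) : K)⁻¹ = ((η i s : ℤ) : K) := by
      rcases hP.semN.eta i s with h | h <;> rw [h] <;> simp
    rw [mul_inv, e3]
    congr 1
    exact eq_inv_of_mul_eq_one_left hpair

end Cfsg.Agent.H46
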