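import Cfsg.Agent.H46.StFinal
import Cfsg.Agent.H46.CommTr
import Cfsg.Prelude.Def_SteinbergCover

set_option autoImplicit false
set_option linter.unusedSectionVars false

/-!
# The homomorphism from a presented group onto the Chevalley group
-/

namespace Cfsg.Agent.H46

open Cfsg.Lie Cfsg.Agent.H23

variable {D : ChevalleyDatum} {K : Type*} [Field K] {z η : ℕ → ℕ → ℤ}

/-- The root elements as elements of the Chevalley group. -/
def genG (hS : Sem D K z) (p : Fin D.nroots × K) : ↥(D.group K) := ⟨xU hS p.1 p.2, xU_mem_group hS _ _⟩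

theorem lift_stX (hS : Sem D K z) (r : ℕ) (t : K) :
    ((FreeGroup.lift (genG hS) (D.stX r t) : ↥(D.group K)) : GL D.Idx K) = xU hS r t := by
  unfold ChevalleyDatum.stX
  split_ifs with h
  · rw [FreeGroup.lift_apply_of]; rfl
  · rw [map_one, xU_of_ge hS r (by omega)]; rfl

theorem lift_stWord (hS : Sem D K z) (w : List (ℕ × K)) :
    ((FreeGroup.lift (genG hS) (D.stWord w) : ↥(D.group K)) : GL D.Idx K) = wordU hS w := by
  induction w with
  | nil =>
    have h : D.stWord ([] : List (ℕ × K)) = 1 := rfl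
    rw [h, map_one, wordU_nil]; rfl
  | cons p w ih =>
    have h : D.stWord (p :: w) = D.stX p.1 p.2 * D.stWord w := by
      unfold ChevalleyDatum.stWord
      rw [List.map_cons, List.prod_cons]
    rw [h, map_mul, Subgroup.coe_mul, lift_stX, ih, wordU_cons]

theorem lift_relA (hS : Sem D K z) (r : ℕ) (t₁ t₂ : K) :
    FreeGroup.lift (genG hS) (D.stX r t₁ * D.stX r t₂ * (D.stX r (t₁ + t₂))⁻¹) = 1 := by
  apply Subtype.ext
  rw [map_mul, map_mul, map_inv, Subgroup.coe_mul, Subgroup.coe_mul, Subgroup.coe_inv, lift_stX, lift_stX,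
    lift_stX, Subgroup.coe_one, xU_mul, mul_inv_cancel]

theorem lift_relB (hS : Sem D K z) {r s : ℕ} (h : GoodPair hS r s) (t u : K) :
    FreeGroup.lift (genG hS) ((D.stX s u)⁻¹ * (D.stX r t)⁻¹ * D.stX s u * D.stX r t *
      (D.stWord (D.commWord K r s t u))⁻¹) = 1 := by
  apply Subtype.ext
  simp only [map_mul, map_inv, Subgroup.coe_mul, Subgroup.coe_inv, lift_stX, lift_stWord, Subgroup.coe_one]
  have h1 := h t u
  rw [mul_inv_eq_one, mul_assoc, mul_assoc, inv_mul_eq_iff_eq_mul, ← mul_assoc]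
  exact h1

theorem lift_relC (hS : Sem D K z) (r : ℕ) (hr : r < D.nroots) (t₁ t₂ : K) (h₁ : t₁ ≠ 0) (h₂ : t₂ ≠ 0) :
    FreeGroup.lift (genG hS) (D.stH r t₁ * D.stH r t₂ * (D.stH r (t₁ * t₂))⁻¹) = 1 := by
  apply Subtype.ext
  unfold ChevalleyDatum.stH
  simp only [map_mul, map_inv, Subgroup.coe_mul, Subgroup.coe_inv, lift_stWord, Subgroup.coe_one]
  rw [mul_inv_eq_one]
  apply Units.ext
  rw [Units.val_mul]
  exact hMat_mul hS r hr t₁ t₂ h₁ h₂

/-- The homomorphism from a presented group whose relators hold in the Chevalley group. -/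
theorem exists_hom (hS : Sem D K z) (rels : Set (FreeGroup (Fin D.nroots × K)))
    (h : ∀ g ∈ rels, FreeGroup.lift (genG hS) g = 1) :
    ∃ θ : PresentedGroup rels →* ↥(D.group K), Function.Surjective θ ∧
      ∀ (r : ℕ) (t : K), r < D.nroots →
        ((θ (PresentedGroup.mk rels (D.stX r t)) : GL D.Idx K) : Matrix D.Idx D.Idx K) = D.x K r t := by
  have hmk : ∀ x : FreeGroup (Fin D.nroots × K),
      PresentedGroup.toGroup h (PresentedGroup.mk rels x) = FreeGroup.lift (genG hS) x := fun x => rfl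
  refine ⟨PresentedGroup.toGroup h, ?_, ?_⟩
  · rw [← MonoidHom.range_eq_top, eq_top_iff]
    rintro ⟨g, hg⟩ -
    have key : ∀ (x : GL D.Idx K) (hx : x ∈ D.group K),
        (⟨x, hx⟩ : ↥(D.group K)) ∈ (PresentedGroup.toGroup h).range := by
      intro x hx
      unfold ChevalleyDatum.group at hx
      induction hx using Subgroup.closure_induction with
      | mem x hx =>
        obtain ⟨r, t, hx⟩ := hx
        refine ⟨PresentedGroup.mk rels (FreeGroup.of (r, t)), ?_⟩
        rw [hmk, FreeGroup.lift_apply_of]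
        apply Subtype.ext
        apply Units.ext
        show D.x K r.val t = _
        rw [hx]
        simp [ChevalleyDatum.x, r.isLt]
      | one => exact Subgroup.one_mem _
      | mul x y hx hy ihx ihy => exact Subgroup.mul_mem _ ihx ihy
      | inv x hx ihx => exact Subgroup.inv_mem _ ihx
    exact key g hg
  · intro r t hr
    rw [hmk, lift_stX, xU_val]

end Cfsg.Agent.H46
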