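import Cfsg.Agent.H46.StBru

set_option autoImplicit false
set_option linter.unusedSectionVars false

/-!
# The kernel of a homomorphism from a group satisfying Steinberg's relations onto the Chevalley group
-/

namespace Cfsg.Agent.H46

open Cfsg.Lie Cfsg.Agent.H23

variable {D : ChevalleyDatum} {K : Type*} [Field K] {Γ : Type*} [Group Γ] {z η : ℕ → ℕ → ℤ}

/-! ### The exchange property for words acting trivially on the roots -/

theorem invN_eq_length (hT : Tab D) : ∀ w : List ℕ, (∀ j ∈ w, j < D.rank) →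
    (∀ w₁ a u, w = w₁ ++ a :: u → D.IsPosRoot (reflW D u.reverse (D.simple a))) → invN D w = w.length
  | [], _, _ => invN_nil hT
  | i :: u, hw, h => by
    have hi := hw i (List.mem_cons_self ..)
    have hu : ∀ j ∈ u, j < D.rank := fun j hj => hw j (List.mem_cons_of_mem _ hj)
    have h1 := h [] i u rfl
    have h2 := invN_eq_length hT u hu (fun w₁ a u' e => h (i :: w₁) a u' (by rw [e]; rfl))
    rw [(invN_cons hT i hi u hu).1 h1, h2]; rfl

theorem exists_simple_of_neg (hT : Tab D) : ∀ (u : List ℕ), (∀ j ∈ u, j < D.rank) → ∀ s, D.IsPosRoot s →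
    D.IsNegRoot (reflW D u.reverse s) → ∃ u₁ b u₂, u = u₁ ++ b :: u₂ ∧ reflW D u₁.reverse s = D.simple b
  | [], _, s, hs, hneg => absurd ⟨hs, hneg⟩ (not_pos_and_neg hT s hs.1)
  | a :: u, hu, s, hs, hneg => by
    have ha := hu a (List.mem_cons_self ..)
    have hu' : ∀ j ∈ u, j < D.rank := fun j hj => hu j (List.mem_cons_of_mem _ hj)
    by_cases h : s = D.simple a
    · exact ⟨[], a, u, rfl, h⟩
    · rw [reflW_reverse_cons] at hneg
      have hp := (hT.refl_pos a ha s hs.1 hs h).1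
      obtain ⟨u₁, b, u₂, e, h2⟩ := exists_simple_of_neg hT u hu' _ hp hneg
      exact ⟨a :: u₁, b, u₂, by rw [e]; rfl, by rw [reflW_reverse_cons]; exact h2⟩

theorem exists_exchange (hT : Tab D) (w : List ℕ) (hw : ∀ j ∈ w, j < D.rank) (hne : w ≠ [])
    (htriv : ∀ s < D.nroots, reflW D w s = s) :
    ∃ w₁ a w₂ b w₃, w = w₁ ++ a :: (w₂ ++ b :: w₃) ∧ reflW D w₂ (D.simple b) = D.simple a := by
  have htriv' : ∀ s < D.nroots, reflW D w.reverse s = s := by
    intro s hs
    have := reflW_reverse_cancel hT w hw s hs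
    rwa [htriv s hs] at this
  have h0 : invN D w = 0 := by
    unfold invN
    rw [Finset.card_eq_zero, Finset.filter_eq_empty_iff]
    intro s hs
    rw [htriv' s (Finset.mem_range.mp hs)]
    exact not_pos_and_neg hT s (Finset.mem_range.mp hs)
  by_contra hcon
  have h1 : ∀ w₁ a u, w = w₁ ++ a :: u → D.IsPosRoot (reflW D u.reverse (D.simple a)) := by
    intro w₁ a u e
    have ha : a < D.rank := hw a (by rw [e]; simp)
    have hu : ∀ j ∈ u, j < D.rank := fun j hj => hw j (by rw [e]; simp [hj])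
    have hur : ∀ j ∈ u.reverse, j < D.rank := fun j hj => hu j (List.mem_reverse.mp hj)
    have hlt := reflW_lt hT u.reverse hur _ (hT.simple_lt a ha)
    rcases pos_or_neg hT _ hlt with h | h
    · exact h
    · exfalso
      obtain ⟨u₁, b, u₂, e2, h3⟩ := exists_simple_of_neg hT u hu _ (hT.simple_pos a ha) h
      apply hcon
      refine ⟨w₁, a, u₁, b, u₂, by rw [e, e2], ?_⟩
      have hu₁ : ∀ j ∈ u₁, j < D.rank := fun j hj => hu j (by rw [e2]; simp [hj])
      have := reflW_cancel_reverse hT u₁ hu₁ (D.simple a) (hT.simple_lt a ha)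
      rw [h3] at this
      exact this
  have h2 := invN_eq_length hT w hw h1
  rw [h0] at h2
  exact hne (List.length_eq_zero_iff.mp h2.symm)

/-! ### The subgroup `H̄` -/

/-- The subgroup generated by the `h̄_p(t)`, `p` fundamental, `t ≠ 0`. -/
def Hb (C : StCtx D K Γ z η) : Subgroup Γ :=
  Subgroup.closure {g | ∃ (i : ℕ) (t : K), i < D.rank ∧ t ≠ 0 ∧ g = hB C i t}

section Ker

variable (C : StCtx D K Γ z η)

theorem hB_mem_Hb (i : ℕ) (hi : i < D.rank) (t : K) (ht : t ≠ 0) : hB C i t ∈ Hb C :=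
  Subgroup.subset_closure ⟨i, t, hi, ht, rfl⟩

theorem nB_eq_hB_mul (i : ℕ) (hi : i < D.rank) (t : K) :
    nB D C.xb (D.simple i) t = hB C i t * nB D C.xb (D.simple i) 1 := by
  rw [hB_eq C i hi]; group

theorem nB_one_sq (i : ℕ) (hi : i < D.rank) :
    nB D C.xb (D.simple i) 1 * nB D C.xb (D.simple i) 1 = (hB C i (-1))⁻¹ := by
  rw [hB, ← C.nB_inv _ (C.hP.tab.simple_lt i hi), mul_inv_rev, inv_inv]

/-- Conjugation of `n̄_s(t)` by an element acting monomially. -/
theorem Mon_conj_nB {g : Γ} {w : List ℕ} (hg : Mon C g w) (s : ℕ) (hs : s < D.nroots) :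
    ∃ c : K, c ≠ 0 ∧ ∀ t : K, g * nB D C.xb s t * g⁻¹ = nB D C.xb (reflW D w s) (c * t) := by
  obtain ⟨c, h0, h1, h2⟩ := hg s hs
  refine ⟨c, h0, fun t => ?_⟩
  have e : g * nB D C.xb s t * g⁻¹ =
      (g * C.xb s t * g⁻¹) * (g * C.xb (D.neg s) (-t⁻¹) * g⁻¹) * (g * C.xb s t * g⁻¹) := by
    unfold nB; group
  rw [e, h1, h2]
  unfold nB
  have e2 : c⁻¹ * -t⁻¹ = -(c * t)⁻¹ := by rw [mul_inv]; ring
  rw [e2]

/-- `n̄_p(t)` normalizes `H̄`. -/
theorem nB_conj_Hb (j : ℕ) (hj : j < D.rank) (t' : K) (ht' : t' ≠ 0) :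
    ∀ h ∈ Hb C, nB D C.xb (D.simple j) t' * h * (nB D C.xb (D.simple j) t')⁻¹ ∈ Hb C := by
  have hT := C.hP.tab
  apply conj_mem_of_closure
  rintro x ⟨i, t, hi, ht, rfl⟩
  have hM := Mon_inv C (Mon_hB C i hi t ht) (by simp [hi])
  obtain ⟨c, hc0, hc⟩ := Mon_conj_nB C hM (D.simple j) (hT.simple_lt j hj)
  have e : reflW D [i, i].reverse (D.simple j) = D.simple j := hT.refl_invol i hi _ (hT.simple_lt j hj)
  rw [e] at hc
  have h1 := hc t'
  rw [inv_inv] at h1
  have e2 : nB D C.xb (D.simple j) t' * hB C i t * (nB D C.xb (D.simple j) t')⁻¹ =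
      hB C i t * ((hB C i t)⁻¹ * nB D C.xb (D.simple j) t' * hB C i t) * (nB D C.xb (D.simple j) t')⁻¹ := by
    group
  rw [e2, h1, nB_eq_hB_mul C j hj (c * t'), nB_eq_hB_mul C j hj t']
  have e3 : hB C i t * (hB C j (c * t') * nB D C.xb (D.simple j) 1) * (hB C j t' * nB D C.xb (D.simple j) 1)⁻¹ =
      hB C i t * hB C j (c * t') * (hB C j t')⁻¹ := by group
  rw [e3]
  exact Subgroup.mul_mem _ (Subgroup.mul_mem _ (hB_mem_Hb C i hi t ht) (hB_mem_Hb C j hj _ (mul_ne_zero hc0 ht')))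
    (Subgroup.inv_mem _ (hB_mem_Hb C j hj t' ht'))

theorem nWB_conj_Hb (w : List ℕ) (hw : ∀ j ∈ w, j < D.rank) :
    ∀ h ∈ Hb C, nWB C w * h * (nWB C w)⁻¹ ∈ Hb C := by
  induction w with
  | nil => intro h hh; simpa [nWB] using hh
  | cons i w ih =>
    intro h hh
    have hw' : ∀ j ∈ w, j < D.rank := fun j hj => hw j (List.mem_cons_of_mem _ hj)
    have e : nWB C (i :: w) * h * (nWB C (i :: w))⁻¹ =
        nB D C.xb (D.simple i) 1 * (nWB C w * h * (nWB C w)⁻¹) * (nB D C.xb (D.simple i) 1)⁻¹ := by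
      rw [nWB_cons]; group
    rw [e]
    exact nB_conj_Hb C i (hw i (List.mem_cons_self ..)) 1 one_ne_zero _ (ih hw' h hh)

/-- Every element of `N̄` is the product of an element of `H̄` and the element of a word. -/
theorem Nb_decomp : ∀ m ∈ Nb C, ∃ h ∈ Hb C, ∃ w : List ℕ, (∀ j ∈ w, j < D.rank) ∧ m = h * nWB C w := by
  apply closure_left_induct (nGen C) (nGen_inv C)
  · exact ⟨1, Subgroup.one_mem _, [], by simp, by simp [nWB]⟩
  · rintro x ⟨i, t, hi, ht, rfl⟩ y ⟨h, hh, w, hw, rfl⟩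
    refine ⟨hB C i t * (nB D C.xb (D.simple i) 1 * h * (nB D C.xb (D.simple i) 1)⁻¹),
      Subgroup.mul_mem _ (hB_mem_Hb C i hi t ht) (nB_conj_Hb C i hi 1 one_ne_zero h hh), i :: w, ?_, ?_⟩
    · intro j hj
      rcases List.mem_cons.mp hj with rfl | hj
      · exact hi
      · exact hw j hj
    · rw [nWB_cons, nB_eq_hB_mul C i hi t]; group

theorem map_pos_mem : ∀ g ∈ XP C.xb D.IsPosRoot, C.π g ∈ D.posUnipotent K := by
  intro g hg
  unfold XP at hg
  induction hg using Subgroup.closure_induction with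
  | mem x hx =>
    obtain ⟨r, t, hr, rfl⟩ := hx
    rw [C.hπ]
    exact Subgroup.subset_closure ⟨r, t, hr, rfl⟩
  | one => rw [map_one]; exact Subgroup.one_mem _
  | mul x y _ _ hx hy => rw [map_mul]; exact Subgroup.mul_mem _ hx hy
  | inv x _ hx => rw [map_inv]; exact Subgroup.inv_mem _ hx

theorem map_Nb_mem : ∀ g ∈ Nb C, C.π g ∈ D.monomialSubgroup K := by
  intro g hg
  unfold Nb at hg
  induction hg using Subgroup.closure_induction with
  | mem x hx =>
    obtain ⟨i, t, hi, ht, rfl⟩ := hx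
    have hp := C.hP.tab.simple_lt i hi
    rw [C.π_nB, nU_eq_hU_mul]
    exact Subgroup.mul_mem _ (diagonal_le_monomial (hU_mem_diag C.hP.sem _ hp t ht)) (nU_mem_mono C.hP.sem _ hp)
  | one => rw [map_one]; exact Subgroup.one_mem _
  | mul x y _ _ hx hy => rw [map_mul]; exact Subgroup.mul_mem _ hx hy
  | inv x _ hx => rw [map_inv]; exact Subgroup.inv_mem _ hx

theorem map_Hb_mem : ∀ g ∈ Hb C, C.π g ∈ D.diagonalSubgroup K := by
  intro g hg
  unfold Hb at hg
  induction hg using Subgroup.closure_induction with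
  | mem x hx =>
    obtain ⟨i, t, hi, ht, rfl⟩ := hx
    have hp := C.hP.tab.simple_lt i hi
    rw [hB, map_mul, C.π_nB, C.π_nB, ← hU_eq]
    exact hU_mem_diag C.hP.sem _ hp t ht
  | one => rw [map_one]; exact Subgroup.one_mem _
  | mul x y _ _ hx hy => rw [map_mul]; exact Subgroup.mul_mem _ hx hy
  | inv x _ hx => rw [map_inv]; exact Subgroup.inv_mem _ hx

/-- The element of a word mapped into the diagonal subgroup lies in `H̄`. -/
theorem nWB_mem_Hb : ∀ (n : ℕ) (w : List ℕ), w.length = n → (∀ j ∈ w, j < D.rank) →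
    C.π (nWB C w) ∈ D.diagonalSubgroup K → nWB C w ∈ Hb C := by
  intro n
  induction n using Nat.strong_induction_on with
  | _ n ih =>
    intro w hlen hw hπ
    have hT := C.hP.tab
    have hS := C.hP.sem
    by_cases hne : w = []
    · subst hne; exact Subgroup.one_mem _
    · have htriv : ∀ s < D.nroots, reflW D w s = s := by
        intro s hs
        obtain ⟨c, hc0, hc1, _⟩ := Mon_nWB C w hw s hs
        obtain ⟨χ, hχ⟩ : ∃ χ : ℕ → K, IsTorus D χ (C.π (nWB C w)) := diagonal_le_torus hS hT hπ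
        have h1 := congrArg C.π (hc1 1)
        rw [map_mul, map_mul, map_inv, C.hπ, C.hπ, isTorus_conj hS χ _ hχ s hs] at h1
        have h2 : χ s * 1 ≠ 0 := by rw [mul_one]; exact hχ.1 s
        exact (xU_eq_imp C.hP _ _ hs (reflW_lt hT w hw s hs) _ _ h1 h2).symm
      obtain ⟨w₁, a, w₂, b, w₃, e, hab⟩ := exists_exchange hT w hw hne htriv
      have hw₁ : ∀ j ∈ w₁, j < D.rank := fun j hj => hw j (by rw [e]; simp [hj])
      have ha : a < D.rank := hw a (by rw [e]; simp)
      have hw₂ : ∀ j ∈ w₂, j < D.rank := fun j hj => hw j (by rw [e]; simp [hj])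
      have hb : b < D.rank := hw b (by rw [e]; simp)
      have hw₃ : ∀ j ∈ w₃, j < D.rank := fun j hj => hw j (by rw [e]; simp [hj])
      obtain ⟨c, hc0, hc⟩ := Mon_conj_nB C (Mon_nWB C w₂ hw₂) (D.simple b) (hT.simple_lt b hb)
      rw [hab] at hc
      have h1 := hc 1
      set h₀ : Γ := nB D C.xb (D.simple a) 1 * nB D C.xb (D.simple a) (c * 1) with hh₀
      have hh₀mem : h₀ ∈ Hb C := by
        rw [hh₀, nB_eq_hB_mul C a ha (c * 1)]
        have e1 : nB D C.xb (D.simple a) 1 * (hB C a (c * 1) * nB D C.xb (D.simple a) 1) =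
            (nB D C.xb (D.simple a) 1 * hB C a (c * 1) * (nB D C.xb (D.simple a) 1)⁻¹) *
              (nB D C.xb (D.simple a) 1 * nB D C.xb (D.simple a) 1) := by group
        rw [e1, nB_one_sq C a ha]
        exact Subgroup.mul_mem _ (nB_conj_Hb C a ha 1 one_ne_zero _
          (hB_mem_Hb C a ha _ (mul_ne_zero hc0 one_ne_zero)))
          (Subgroup.inv_mem _ (hB_mem_Hb C a ha (-1) (by simp)))
      have e2 : nWB C w = (nWB C w₁ * h₀ * (nWB C w₁)⁻¹) * nWB C (w₁ ++ (w₂ ++ w₃)) := by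
        rw [e, nWB_append, nWB_cons, nWB_append, nWB_cons, nWB_append, nWB_append, hh₀, ← h1]
        group
      have hconj := nWB_conj_Hb C w₁ hw₁ h₀ hh₀mem
      have hw' : ∀ j ∈ w₁ ++ (w₂ ++ w₃), j < D.rank := by
        intro j hj
        rcases List.mem_append.mp hj with h | h
        · exact hw₁ j h
        · rcases List.mem_append.mp h with h | h
          · exact hw₂ j h
          · exact hw₃ j h
      have hπ' : C.π (nWB C (w₁ ++ (w₂ ++ w₃))) ∈ D.diagonalSubgroup K := by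
        have h3' := congrArg C.π e2
        rw [map_mul] at h3'
        have h3 : C.π (nWB C (w₁ ++ (w₂ ++ w₃))) =
            (C.π (nWB C w₁ * h₀ * (nWB C w₁)⁻¹))⁻¹ * C.π (nWB C w) := by
          rw [h3']; group
        rw [h3]
        exact Subgroup.mul_mem _ (Subgroup.inv_mem _ (map_Hb_mem C _ hconj)) hπ
      have hlt : (w₁ ++ (w₂ ++ w₃)).length < n := by
        rw [← hlen, e]
        simp only [List.length_append, List.length_cons]
        omega
      rw [e2]
      exact Subgroup.mul_mem _ hconj (ih _ hlt _ rfl hw' hπ')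

/-- An element of `N̄` in the kernel centralizes the root elements. -/
theorem Nb_ker_comm (m : Γ) (hm : m ∈ Nb C) (hπ : C.π m = 1) (s : ℕ) (hs : s < D.nroots) (u : K) :
    m * C.xb s u * m⁻¹ = C.xb s u := by
  have hT := C.hP.tab
  obtain ⟨w, hw, hM⟩ := exists_Mon C m hm
  obtain ⟨c, hc0, hc1, _⟩ := hM s hs
  have h1 := congrArg C.π (hc1 1)
  rw [map_mul, map_mul, map_inv, hπ, C.hπ, C.hπ, one_mul, inv_one, mul_one] at h1
  have h2 := xU_eq_imp C.hP _ _ hs (reflW_lt hT w hw s hs) _ _ h1 one_ne_zero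
  rw [← h2] at h1 hc1
  have h3 := xU_inj C.hP s hs _ _ h1
  rw [mul_one] at h3
  rw [hc1 u, ← h3, one_mul]

/-- The kernel lies in `H̄` and in the centre. -/
theorem ker_mem (hgen : Subgroup.closure {g | ∃ (r : ℕ) (t : K), r < D.nroots ∧ g = C.xb r t} = ⊤) (k : Γ)
    (hk : C.π k = 1) : k ∈ Hb C ∧ k ∈ Subgroup.center Γ := by
  have hS := C.hP.sem
  obtain ⟨u, hu, m, hm, u', hu', rfl⟩ := mem_Cset C hgen k
  rw [map_mul, map_mul] at hk
  have hπm : C.π m = 1 := by
    have h1 : C.π m = (C.π u)⁻¹ * (C.π u')⁻¹ := by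
      have : C.π m = (C.π u)⁻¹ * (C.π u * C.π m * C.π u') * (C.π u')⁻¹ := by group
      rw [this, hk, mul_one]
    have h2 : C.π m ∈ D.posUnipotent K ⊓ D.monomialSubgroup K := by
      refine ⟨?_, map_Nb_mem C m hm⟩
      rw [h1]
      exact Subgroup.mul_mem _ (Subgroup.inv_mem _ (map_pos_mem C u hu)) (Subgroup.inv_mem _ (map_pos_mem C u' hu'))
    rw [posUnipotent_inf_monomial hS, Subgroup.mem_bot] at h2
    exact h2
  have huu : u * u' = 1 := by
    apply C.inj_pos _ (Subgroup.mul_mem _ hu hu')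
    rw [map_mul]
    rw [hπm, mul_one] at hk
    exact hk
  have hcen : m ∈ Subgroup.center Γ := by
    rw [Subgroup.mem_center_iff]
    intro g
    have hg : g ∈ Subgroup.centralizer ({m} : Set Γ) := by
      have h3 : Subgroup.closure {g | ∃ (r : ℕ) (t : K), r < D.nroots ∧ g = C.xb r t} ≤
          Subgroup.centralizer ({m} : Set Γ) := by
        rw [Subgroup.closure_le]
        rintro x ⟨r, t, hr, rfl⟩
        rw [SetLike.mem_coe, Subgroup.mem_centralizer_iff]
        intro h hh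
        rw [Set.mem_singleton_iff] at hh
        subst hh
        have h4 := Nb_ker_comm C h hm hπm r hr t
        rw [mul_inv_eq_iff_eq_mul] at h4
        exact h4
      apply h3
      rw [hgen]
      exact Subgroup.mem_top g
    rw [Subgroup.mem_centralizer_iff] at hg
    exact (hg m rfl).symm
  have hkm : u * m * u' = m := by
    rw [Subgroup.mem_center_iff] at hcen
    rw [hcen u, mul_assoc, huu, mul_one]
  rw [hkm]
  refine ⟨?_, hcen⟩
  obtain ⟨h, hh, w, hw, rfl⟩ := Nb_decomp C m hm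
  refine Subgroup.mul_mem _ hh (nWB_mem_Hb C _ w rfl hw ?_)
  have h5 : C.π (nWB C w) = (C.π h)⁻¹ := by
    rw [map_mul] at hπm
    exact eq_inv_of_mul_eq_one_right hπm
  rw [h5]
  exact Subgroup.inv_mem _ (map_Hb_mem C h hh)

end Ker

end Cfsg.Agent.H46
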