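import Cfsg.Agent.H46.StHom
import Cfsg.Agent.H23.Cell

set_option autoImplicit false
set_option linter.unusedSectionVars false

/-!
# The presented groups map onto the Chevalley group with central kernel
-/

namespace Cfsg.Agent.H46

open Cfsg.Lie Cfsg.Agent.H23

variable {D : ChevalleyDatum} {K : Type*} [Field K] {z η : ℕ → ℕ → ℤ}

/-- The commutator formula for all pairs of roots, in matrix form. -/
def CommMat (D : ChevalleyDatum) (K : Type*) [Field K] : Prop :=
  ∀ (r s : ℕ), r < D.nroots → s < D.nroots → s ≠ r → s ≠ D.neg r → ∀ t u : K,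
    D.x K s u * D.x K r t = D.x K r t * D.x K s u * D.wordMat K (D.commWord K r s t u)

theorem goodPair_of_mat (hS : Sem D K z) {r s : ℕ}
    (h : ∀ t u : K, D.x K s u * D.x K r t = D.x K r t * D.x K s u * D.wordMat K (D.commWord K r s t u)) :
    GoodPair hS r s := by
  intro t u
  rw [mul_assoc, inv_mul_eq_iff_eq_mul]
  apply Units.ext
  simp only [Units.val_mul, xU_val, wordU_val]
  rw [← mul_assoc]
  exact h t u

/-- The centre of the Chevalley group is trivial. -/
theorem center_group_eq_bot (hP : PackB D K z η) (hV : SemV D K) (w0 : List ℕ) (hW : TabW D w0) :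
    Subgroup.center ↥(D.group K) = ⊥ := by
  rw [eq_bot_iff, ← borel_normalCore hP hV w0 hW, Subgroup.normal_le_normalCore]
  intro zz hz
  rw [Subgroup.mem_subgroupOf]
  apply mem_borel_of_conj hP _ zz.2
  intro b hb
  have hbG : b ∈ D.group K := borel_le_group hP.sem hb
  have h1 := Subgroup.mem_center_iff.mp hz ⟨b, hbG⟩
  have h2 : b * (zz : GL D.Idx K) = zz * b := congrArg Subtype.val h1
  rw [← h2, mul_inv_cancel_right]
  exact hb

/-- The relators (R1), (R2) hold in the Chevalley group. -/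
theorem lift_relsAB (hS : Sem D K z) (hC : CommMat D K) :
    ∀ g ∈ D.steinbergRelsAB K, FreeGroup.lift (genG hS) g = 1 := by
  rintro g (⟨r, t₁, t₂, _, rfl⟩ | ⟨r, s, t, u, hr, hs, h1, h2, rfl⟩)
  · exact lift_relA hS r t₁ t₂
  · exact lift_relB hS (goodPair_of_mat hS (hC r s hr hs h1 h2)) t u

/-- The relators (R1), (R2), (R3) hold in the Chevalley group. -/
theorem lift_rels (hS : Sem D K z) (hC : CommMat D K) :
    ∀ g ∈ D.steinbergRels K, FreeGroup.lift (genG hS) g = 1 := by
  rintro g ((⟨r, t₁, t₂, _, rfl⟩ | ⟨r, s, t, u, hr, hs, h1, h2, rfl⟩) | ⟨r, t₁, t₂, hr, h₁, h₂, rfl⟩)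
  · exact lift_relA hS r t₁ t₂
  · exact lift_relB hS (goodPair_of_mat hS (hC r s hr hs h1 h2)) t u
  · exact lift_relC hS r hr t₁ t₂ h₁ h₂

/-- The group presented by (R1), (R2) is a central extension of the Chevalley group. -/
theorem cover_central {w : List ℕ} (hTab : StTab D w) (hP : PackB D K z η) (hV : SemV D K) (hC : CommMat D K) :
    ∃ θ : D.SteinbergCover K →* ↥(D.group K), Function.Surjective θ ∧
      θ.ker ≤ Subgroup.center (D.SteinbergCover K) ∧
      ∀ (r : ℕ) (t : K), r < D.nroots →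
        ((θ (D.scGen K r t) : GL D.Idx K) : Matrix D.Idx D.Idx K) = D.x K r t := by
  obtain ⟨θ, h1, h2⟩ := exists_hom hP.sem (D.steinbergRelsAB K) (lift_relsAB hP.sem hC)
  refine ⟨θ, h1, ?_, h2⟩
  exact (presented_ker (D.steinbergRelsAB K) (fun r t₁ t₂ hr => Or.inl ⟨r, t₁, t₂, hr, rfl⟩)
    (fun r s t u hr hs h1 h2 => Or.inr ⟨r, s, t, u, hr, hs, h1, h2, rfl⟩) hTab hP hV θ h2).trans inf_le_right

/-- Steinberg's theorem: the presented group maps onto the Chevalley group, with kernel the centre. -/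
theorem steinberg_ker_center {w w0 : List ℕ} (hTab : StTab D w) (hP : PackB D K z η) (hV : SemV D K)
    (hW : TabW D w0) (hC : CommMat D K) :
    ∃ θ : D.SteinbergGroup K →* ↥(D.group K), Function.Surjective θ ∧
      θ.ker = Subgroup.center (D.SteinbergGroup K) ∧
      ∀ (r : ℕ) (t : K), r < D.nroots →
        ((θ (D.stGen K r t) : GL D.Idx K) : Matrix D.Idx D.Idx K) = D.x K r t := by
  obtain ⟨θ, h1, h2⟩ := exists_hom hP.sem (D.steinbergRels K) (lift_rels hP.sem hC)
  refine ⟨θ, h1, le_antisymm ?_ ?_, h2⟩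
  · exact (presented_ker (D.steinbergRels K) (fun r t₁ t₂ hr => Or.inl (Or.inl ⟨r, t₁, t₂, hr, rfl⟩))
      (fun r s t u hr hs h1 h2 => Or.inl (Or.inr ⟨r, s, t, u, hr, hs, h1, h2, rfl⟩)) hTab hP hV θ h2).trans
      inf_le_right
  · intro k hk
    rw [MonoidHom.mem_ker]
    have hc : θ k ∈ Subgroup.center ↥(D.group K) := by
      rw [Subgroup.mem_center_iff]
      intro g
      obtain ⟨x, rfl⟩ := h1 g
      rw [← map_mul, ← map_mul, Subgroup.mem_center_iff.mp hk x]
    rw [center_group_eq_bot hP hV w0 hW, Subgroup.mem_bot] at hc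
    exact hc

end Cfsg.Agent.H46
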