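import Cfsg.Agent.H46.StG

set_option autoImplicit false
set_option linter.unusedSectionVars false

/-!
# Conjugation by `n̄_p(t)` in an abstract group satisfying Steinberg's relations
-/

namespace Cfsg.Agent.H46

open Cfsg.Lie Cfsg.Agent.H23

variable {D : ChevalleyDatum} {K : Type*} [Field K] {Γ : Type*} [Group Γ] {z η : ℕ → ℕ → ℤ}

/-- Table facts on the commutator terms of fundamental roots against negative roots (mirror of `TabC`). -/
def TabCN (D : ChevalleyDatum) : Prop :=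
  ∀ i < D.rank, ∀ s < D.nroots, D.IsNegRoot s → s ≠ D.neg (D.simple i) →
    (∀ c ∈ D.commTerms (D.simple i) s, D.IsNegRoot c.1 ∧ c.1 ≠ D.neg (D.simple i)) ∧
    (∀ c ∈ D.commTerms (D.neg (D.simple i)) s, D.IsNegRoot c.1 ∧ c.1 ≠ D.neg (D.simple i))

/-- The check of the data expressing `x_{p_i}` through a commutator of root elements of two roots `γ, δ`
independent of `p_i`, with a good list `T` containing the reflected roots. -/
def a4Chk (D : ChevalleyDatum) (i γ δ k : ℕ) (T : List ℕ) (W : List (List ℕ)) : Bool :=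
  (decide (γ < D.nroots) && decide (δ < D.nroots) && !(δ == γ) && !(δ == D.neg γ)) &&
  (match (D.commTerms γ δ)[k]? with
    | some e => e.1 == D.simple i && (e.2.1 == 1 || e.2.1 == -1) && e.2.2.1 == 1
    | none => false) &&
  ((γ :: δ :: ((D.commTerms γ δ).eraseIdx k).map (fun c => c.1)).all (fun ε => decide (ε < D.nroots) &&
    !(ε == D.simple i) && !(ε == D.neg (D.simple i)) && T.contains (D.reflectRoot i ε))) &&
  (T.contains (D.neg (D.simple i)) && chainOK D T && sepChk D T W)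

/-- The table facts needed for the theory of the presented group. -/
structure StTab (D : ChevalleyDatum) (w : List ℕ) : Prop where
  conv : convOK D w = true
  chP : chainOK D (convList D w) = true
  chN : chainOK D ((convList D w).map D.neg) = true
  cov : ∀ s < D.nroots, D.IsPosRoot s → s ∈ convList D w
  tabCN : TabCN D
  a4 : ∀ i < D.rank, ∃ γ δ k T W, a4Chk D i γ δ k T W = true

/-- The context: a group with elements satisfying (R1), (R2), mapped to the matrices `x_r(t)`. -/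
structure StCtx (D : ChevalleyDatum) (K : Type*) [Field K] (Γ : Type*) [Group Γ] (z η : ℕ → ℕ → ℤ) where
  xb : ℕ → K → Γ
  rel : StRel D xb
  hP : PackB D K z η
  hV : SemV D K
  π : Γ →* GL D.Idx K
  hπ : ∀ r t, π (xb r t) = xU hP.sem r t
  w : List ℕ
  tab : StTab D w

/-- `n̄_r(t) = x̄_r(t) x̄_{-r}(-t⁻¹) x̄_r(t)`. -/
def nB (D : ChevalleyDatum) (xb : ℕ → K → Γ) (r : ℕ) (t : K) : Γ := xb r t * xb (D.neg r) (-t⁻¹) * xb r t

/-- The roots of the group `U^-_p`. -/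
def NegNe (D : ChevalleyDatum) (i : ℕ) (s : ℕ) : Prop := D.IsNegRoot s ∧ s ≠ D.neg (D.simple i)

section Ctx

variable (C : StCtx D K Γ z η)
include C

theorem StCtx.inj_pos : ∀ g ∈ XP C.xb D.IsPosRoot, C.π g = 1 → g = 1 := by
  intro g hg
  refine inj_of_sep C.rel C.hP.sem C.π C.hπ (convList D C.w) C.tab.chP (SepG_convList C.hP C.hV C.w C.tab.conv) g ?_
  exact XP_mono C.xb (fun r hr => C.tab.cov r hr.1 hr) hg

theorem StCtx.inj_neg : ∀ g ∈ XP C.xb D.IsNegRoot, C.π g = 1 → g = 1 := by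
  intro g hg
  refine inj_of_sep C.rel C.hP.sem C.π C.hπ ((convList D C.w).map D.neg) C.tab.chN
    (SepG_convList_neg C.hP C.hV C.w C.tab.conv) g ?_
  refine XP_mono C.xb (fun r hr => ?_) hg
  have hT := C.hP.tab
  have h1 := (hT.pos_neg r hr.1).2.1 hr
  have h2 := C.tab.cov _ h1.1 h1
  rw [← hT.neg_neg r hr.1]
  exact List.mem_map_of_mem h2

theorem StCtx.π_nB (r : ℕ) (t : K) : C.π (nB D C.xb r t) = nU C.hP.sem r t := by
  rw [nU_eq, nB, map_mul, map_mul, C.hπ, C.hπ]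

theorem StCtx.nB_inv (r : ℕ) (hr : r < D.nroots) (t : K) : (nB D C.xb r t)⁻¹ = nB D C.xb r (-t) := by
  have hn := C.hP.tab.neg_lt r hr
  unfold nB
  rw [mul_inv_rev, mul_inv_rev, xb_inv C.rel r hr, xb_inv C.rel _ hn, neg_neg, inv_neg, neg_neg, mul_assoc]

/-- Lifting a conjugation formula from the matrix group, inside a subgroup on which `π` is injective. -/
theorem StCtx.lift (S : Subgroup Γ) (hinj : ∀ y ∈ S, C.π y = 1 → y = 1) (g : Γ) (s s' : ℕ) (c u : K)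
    (hG : C.π g * xU C.hP.sem s u * (C.π g)⁻¹ = xU C.hP.sem s' (c * u))
    (h1 : g * C.xb s u * g⁻¹ ∈ S) (h2 : C.xb s' (c * u) ∈ S) : g * C.xb s u * g⁻¹ = C.xb s' (c * u) := by
  have h3 : g * C.xb s u * g⁻¹ * (C.xb s' (c * u))⁻¹ = 1 := by
    apply hinj _ (Subgroup.mul_mem _ h1 (Subgroup.inv_mem _ h2))
    rw [map_mul, map_mul, map_mul, map_inv, map_inv, C.hπ, C.hπ, hG, mul_inv_cancel]
  exact mul_inv_eq_one.mp h3

theorem StCtx.posNe_norm (i : ℕ) (hi : i < D.rank) :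
    (∀ s, PosNe D i s → s < D.nroots ∧ s ≠ D.simple i ∧ s ≠ D.neg (D.simple i) ∧
      ∀ c ∈ D.commTerms (D.simple i) s, PosNe D i c.1) ∧
    (∀ s, PosNe D i s → s < D.nroots ∧ s ≠ D.neg (D.simple i) ∧ s ≠ D.neg (D.neg (D.simple i)) ∧
      ∀ c ∈ D.commTerms (D.neg (D.simple i)) s, PosNe D i c.1) := by
  have hT := C.hP.tab
  have hp := hT.simple_lt i hi
  have hneg : ∀ s, PosNe D i s → s ≠ D.neg (D.simple i) := by
    intro s hs e
    have h1 : D.IsNegRoot s := by rw [e]; exact (hT.pos_neg _ hp).1 (hT.simple_pos i hi)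
    exact not_pos_and_neg hT s hs.1.1 ⟨hs.1, h1⟩
  constructor
  · intro s hs
    have h2 := (C.hP.tabC.terms i hi s hs.1.1 hs.1 hs.2).1
    exact ⟨hs.1.1, hs.2, hneg s hs, fun c hc => ⟨(h2 c hc).1, (h2 c hc).2.1⟩⟩
  · intro s hs
    have h2 := (C.hP.tabC.terms i hi s hs.1.1 hs.1 hs.2).2
    refine ⟨hs.1.1, hneg s hs, ?_, fun c hc => ⟨(h2 c hc).1, (h2 c hc).2.1⟩⟩
    rw [hT.neg_neg _ hp]; exact hs.2

theorem StCtx.negNe_norm (i : ℕ) (hi : i < D.rank) :
    (∀ s, NegNe D i s → s < D.nroots ∧ s ≠ D.simple i ∧ s ≠ D.neg (D.simple i) ∧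
      ∀ c ∈ D.commTerms (D.simple i) s, NegNe D i c.1) ∧
    (∀ s, NegNe D i s → s < D.nroots ∧ s ≠ D.neg (D.simple i) ∧ s ≠ D.neg (D.neg (D.simple i)) ∧
      ∀ c ∈ D.commTerms (D.neg (D.simple i)) s, NegNe D i c.1) := by
  have hT := C.hP.tab
  have hp := hT.simple_lt i hi
  have hpos : ∀ s, NegNe D i s → s ≠ D.simple i := by
    intro s hs e
    have h1 : D.IsPosRoot s := by rw [e]; exact hT.simple_pos i hi
    exact not_pos_and_neg hT s hs.1.1 ⟨h1, hs.1⟩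
  constructor
  · intro s hs
    have h2 := (C.tab.tabCN i hi s hs.1.1 hs.1 hs.2).1
    exact ⟨hs.1.1, hpos s hs, hs.2, fun c hc => h2 c hc⟩
  · intro s hs
    have h2 := (C.tab.tabCN i hi s hs.1.1 hs.1 hs.2).2
    refine ⟨hs.1.1, hs.2, ?_, fun c hc => h2 c hc⟩
    rw [hT.neg_neg _ hp]; exact hpos s hs

/-- `n̄_r(t)` normalizes a group `XP P` normalized by the root elements of `r` and `-r`. -/
theorem StCtx.nB_conj_mem (P : ℕ → Prop) (r : ℕ) (hr : r < D.nroots)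
    (h1 : ∀ s, P s → s < D.nroots ∧ s ≠ r ∧ s ≠ D.neg r ∧ ∀ c ∈ D.commTerms r s, P c.1)
    (h2 : ∀ s, P s → s < D.nroots ∧ s ≠ D.neg r ∧ s ≠ D.neg (D.neg r) ∧ ∀ c ∈ D.commTerms (D.neg r) s, P c.1)
    (t : K) : ∀ g ∈ XP C.xb P, nB D C.xb r t * g * (nB D C.xb r t)⁻¹ ∈ XP C.xb P := by
  intro g hg
  have hn := C.hP.tab.neg_lt r hr
  have e : nB D C.xb r t * g * (nB D C.xb r t)⁻¹ =
      C.xb r t * (C.xb (D.neg r) (-t⁻¹) * (C.xb r t * g * (C.xb r t)⁻¹) * (C.xb (D.neg r) (-t⁻¹))⁻¹) *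
        (C.xb r t)⁻¹ := by
    unfold nB; group
  rw [e]
  exact xb_conj_mem C.rel P r hr h1 t _ (xb_conj_mem C.rel P _ hn h2 _ _ (xb_conj_mem C.rel P r hr h1 t g hg))

theorem StCtx.posNe_conj (i : ℕ) (hi : i < D.rank) (t : K) :
    ∀ g ∈ XP C.xb (PosNe D i), nB D C.xb (D.simple i) t * g * (nB D C.xb (D.simple i) t)⁻¹ ∈ XP C.xb (PosNe D i) :=
  C.nB_conj_mem (PosNe D i) (D.simple i) (C.hP.tab.simple_lt i hi) (C.posNe_norm i hi).1 (C.posNe_norm i hi).2 t

theorem StCtx.negNe_conj (i : ℕ) (hi : i < D.rank) (t : K) :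
    ∀ g ∈ XP C.xb (NegNe D i), nB D C.xb (D.simple i) t * g * (nB D C.xb (D.simple i) t)⁻¹ ∈ XP C.xb (NegNe D i) :=
  C.nB_conj_mem (NegNe D i) (D.simple i) (C.hP.tab.simple_lt i hi) (C.negNe_norm i hi).1 (C.negNe_norm i hi).2 t

/-- Conjugation by `n̄_p(t)` on the root elements of the roots other than `±p`. -/
theorem StCtx.conj_nB_ne (i : ℕ) (hi : i < D.rank) (t : K) (s : ℕ) (hs : s < D.nroots) (h1 : s ≠ D.simple i)
    (h2 : s ≠ D.neg (D.simple i)) (c : K)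
    (hG : ∀ u : K, nU C.hP.sem (D.simple i) t * xU C.hP.sem s u * (nU C.hP.sem (D.simple i) t)⁻¹ =
      xU C.hP.sem (D.reflectRoot i s) (c * u)) (u : K) :
    nB D C.xb (D.simple i) t * C.xb s u * (nB D C.xb (D.simple i) t)⁻¹ = C.xb (D.reflectRoot i s) (c * u) := by
  have hT := C.hP.tab
  have hG' : C.π (nB D C.xb (D.simple i) t) * xU C.hP.sem s u * (C.π (nB D C.xb (D.simple i) t))⁻¹ =
      xU C.hP.sem (D.reflectRoot i s) (c * u) := by rw [C.π_nB]; exact hG u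
  rcases pos_or_neg hT s hs with hpos | hneg
  · refine C.lift (XP C.xb D.IsPosRoot) C.inj_pos _ s _ c u hG' ?_ ?_
    · exact XP_mono C.xb (fun r hr => hr.1) (C.posNe_conj i hi t _ (xb_mem_XP C.xb _ s ⟨hpos, h1⟩ u))
    · exact xb_mem_XP C.xb _ _ (hT.refl_pos i hi s hs hpos h1).1 _
  · refine C.lift (XP C.xb D.IsNegRoot) C.inj_neg _ s _ c u hG' ?_ ?_
    · exact XP_mono C.xb (fun r hr => hr.1) (C.negNe_conj i hi t _ (xb_mem_XP C.xb _ s ⟨hneg, h2⟩ u))
    · refine xb_mem_XP C.xb _ _ ?_ _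
      have h3 := (hT.pos_neg s hs).2.1 hneg
      have h4 : D.neg s ≠ D.simple i := by
        intro e
        apply h2
        rw [← e, hT.neg_neg s hs]
      have h5 := (hT.refl_pos i hi _ h3.1 h3 h4).1
      rw [hT.refl_neg i hi s hs] at h5
      have h6 := (hT.pos_neg _ h5.1).1 h5
      rwa [hT.neg_neg _ (hT.refl_lt i hi s hs)] at h6

end Ctx

end Cfsg.Agent.H46
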