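import Cfsg.Agent.H46.StMono

set_option autoImplicit false
set_option linter.unusedSectionVars false

/-!
# Conjugation by `n̄_p(t)` on `x̄_{±p}`, and elements acting monomially on the root elements
-/

namespace Cfsg.Agent.H46

open Cfsg.Lie Cfsg.Agent.H23

variable {D : ChevalleyDatum} {K : Type*} [Field K] {Γ : Type*} [Group Γ] {z η : ℕ → ℕ → ℤ}

theorem a4Chk_spec {i γ δ k : ℕ} {T : List ℕ} {W : List (List ℕ)} (h : a4Chk D i γ δ k T W = true) :
    γ < D.nroots ∧ δ < D.nroots ∧ δ ≠ γ ∧ δ ≠ D.neg γ ∧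
    (∃ e, (D.commTerms γ δ)[k]? = some e ∧ e.1 = D.simple i ∧ (e.2.1 = 1 ∨ e.2.1 = -1) ∧ e.2.2.1 = 1) ∧
    (∀ ε ∈ γ :: δ :: ((D.commTerms γ δ).eraseIdx k).map (fun c => c.1),
      ε < D.nroots ∧ ε ≠ D.simple i ∧ ε ≠ D.neg (D.simple i) ∧ D.reflectRoot i ε ∈ T) ∧
    D.neg (D.simple i) ∈ T ∧ chainOK D T = true ∧ sepChk D T W = true := by
  unfold a4Chk at h
  rw [Bool.and_eq_true, Bool.and_eq_true, Bool.and_eq_true] at h
  obtain ⟨⟨⟨h1, h2⟩, h3⟩, h4⟩ := h
  simp only [Bool.and_eq_true, decide_eq_true_eq, Bool.not_eq_true', beq_eq_false_iff_ne, ne_eq] at h1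
  simp only [Bool.and_eq_true, List.contains_iff_mem] at h4
  refine ⟨h1.1.1.1, h1.1.1.2, h1.1.2, h1.2, ?_, ?_, h4.1.1, h4.1.2, h4.2⟩
  · cases hk : (D.commTerms γ δ)[k]? with
    | none => rw [hk] at h2; simp at h2
    | some e =>
      rw [hk] at h2
      simp only [Bool.and_eq_true, Bool.or_eq_true, beq_iff_eq] at h2
      exact ⟨e, rfl, h2.1.1, h2.1.2, h2.2⟩
  · intro ε hε
    rw [List.all_eq_true] at h3
    have h5 := h3 ε hε
    simp only [Bool.and_eq_true, decide_eq_true_eq, Bool.not_eq_true', beq_eq_false_iff_ne, ne_eq,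
      List.contains_iff_mem] at h5
    exact ⟨h5.1.1.1, h5.1.1.2, h5.1.2, h5.2⟩

theorem wordB_map_split (xb : ℕ → K → Γ) {α : Type} (f : α → ℕ × K) (l : List α) (k : ℕ) (e : α)
    (hk : l[k]? = some e) :
    wordB xb (l.map f) = wordB xb ((l.take k).map f) * (xb (f e).1 (f e).2 * wordB xb ((l.drop (k + 1)).map f)) := by
  obtain ⟨hkl, hke⟩ := List.getElem?_eq_some_iff.mp hk
  have hsplit : l = l.take k ++ e :: l.drop (k + 1) := by
    rw [← hke, ← List.drop_eq_getElem_cons hkl, List.take_append_drop]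
  conv_lhs => rw [hsplit]
  rw [List.map_append, List.map_cons, wordB_append, wordB_cons]

/-- A root element of a commutator term with coefficient `±1` and exponent `1` lies in the group generated by the
root elements of the two roots and of the other terms. -/
theorem a4_expr {xb : ℕ → K → Γ} (h : StRel D xb) (γ δ k : ℕ) (hγ : γ < D.nroots) (hδ : δ < D.nroots)
    (h1 : δ ≠ γ) (h2 : δ ≠ D.neg γ) (e : ℕ × ℤ × ℕ × ℕ) (hk : (D.commTerms γ δ)[k]? = some e)
    (hC : e.2.1 = 1 ∨ e.2.1 = -1) (hp : e.2.2.1 = 1) (u : K) :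
    xb e.1 u ∈ XP xb (fun r => r ∈ γ :: δ :: ((D.commTerms γ δ).eraseIdx k).map (fun c => c.1)) := by
  set P : ℕ → Prop := fun r => r ∈ γ :: δ :: ((D.commTerms γ δ).eraseIdx k).map (fun c => c.1) with hP
  set a : K := -((e.2.1 : ℤ) : K) * u with ha
  have hrel := h.comm γ hγ δ hδ h1 h2 a 1
  unfold ChevalleyDatum.commWord at hrel
  rw [wordB_map_split xb _ _ k e hk] at hrel
  have hval : ((e.2.1 : ℤ) : K) * (-a) ^ e.2.2.1 * (1 : K) ^ e.2.2.2 = u := by
    rw [hp, pow_one, one_pow, mul_one, ha]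
    rcases hC with hC | hC <;> rw [hC] <;> simp
  simp only [hval] at hrel
  have hγP : P γ := List.mem_cons_self ..
  have hδP : P δ := List.mem_cons_of_mem _ (List.mem_cons_self ..)
  have herase : (D.commTerms γ δ).eraseIdx k = (D.commTerms γ δ).take k ++ (D.commTerms γ δ).drop (k + 1) :=
    List.eraseIdx_eq_take_drop_succ _ _
  have hpre : wordB xb (((D.commTerms γ δ).take k).map
      (fun c => (c.1, ((c.2.1 : ℤ) : K) * (-a) ^ c.2.2.1 * (1 : K) ^ c.2.2.2))) ∈ XP xb P := by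
    apply wordB_mem_XP
    intro p hp'
    obtain ⟨c, hc, rfl⟩ := List.mem_map.mp hp'
    refine List.mem_cons_of_mem _ (List.mem_cons_of_mem _ ?_)
    rw [herase, List.map_append]
    exact List.mem_append_left _ (List.mem_map_of_mem hc)
  have hpost : wordB xb (((D.commTerms γ δ).drop (k + 1)).map
      (fun c => (c.1, ((c.2.1 : ℤ) : K) * (-a) ^ c.2.2.1 * (1 : K) ^ c.2.2.2))) ∈ XP xb P := by
    apply wordB_mem_XP
    intro p hp'
    obtain ⟨c, hc, rfl⟩ := List.mem_map.mp hp'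
    refine List.mem_cons_of_mem _ (List.mem_cons_of_mem _ ?_)
    rw [herase, List.map_append]
    exact List.mem_append_right _ (List.mem_map_of_mem hc)
  have hlhs : (xb δ 1)⁻¹ * (xb γ a)⁻¹ * xb δ 1 * xb γ a ∈ XP xb P :=
    Subgroup.mul_mem _ (Subgroup.mul_mem _ (Subgroup.mul_mem _ (Subgroup.inv_mem _ (xb_mem_XP xb P δ hδP 1))
      (Subgroup.inv_mem _ (xb_mem_XP xb P γ hγP a))) (xb_mem_XP xb P δ hδP 1)) (xb_mem_XP xb P γ hγP a)
  rw [hrel] at hlhs
  have h3 := Subgroup.mul_mem _ (Subgroup.mul_mem _ (Subgroup.inv_mem _ hpre) hlhs) (Subgroup.inv_mem _ hpost)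
  have e3 : ∀ A B X : Γ, A⁻¹ * (A * (X * B)) * B⁻¹ = X := by intro A B X; group
  rwa [e3] at h3

section Ctx

variable (C : StCtx D K Γ z η)
include C

/-- Conjugation by `n̄_p(t)` on `x̄_p`. -/
theorem StCtx.conj_nB_simple (i : ℕ) (hi : i < D.rank) (t : K) (ht : t ≠ 0) (c : K)
    (hG : ∀ u : K, nU C.hP.sem (D.simple i) t * xU C.hP.sem (D.simple i) u * (nU C.hP.sem (D.simple i) t)⁻¹ =
      xU C.hP.sem (D.neg (D.simple i)) (c * u)) (u : K) :
    nB D C.xb (D.simple i) t * C.xb (D.simple i) u * (nB D C.xb (D.simple i) t)⁻¹ =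
      C.xb (D.neg (D.simple i)) (c * u) := by
  obtain ⟨γ, δ, k, T, W, hchk⟩ := C.tab.a4 i hi
  obtain ⟨hγ, hδ, h1, h2, ⟨e, hk, he1, hC, hp⟩, hall, hnT, hcT, hsT⟩ := a4Chk_spec hchk
  have hTlt := chainOK_lt hcT
  have hinj := inj_of_sep C.rel C.hP.sem C.π C.hπ T hcT (SepG_of_chk C.hP C.hV T hTlt W hsT)
  have hmem := a4_expr C.rel γ δ k hγ hδ h1 h2 e hk hC hp u
  rw [he1] at hmem
  have hconj : ∀ g ∈ XP C.xb (fun r => r ∈ γ :: δ :: ((D.commTerms γ δ).eraseIdx k).map (fun c => c.1)),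
      nB D C.xb (D.simple i) t * g * (nB D C.xb (D.simple i) t)⁻¹ ∈ XL C.xb T := by
    apply conj_mem_of_closure
    rintro x ⟨ε, v, hε, rfl⟩
    obtain ⟨hε1, hε2, hε3, hε4⟩ := hall ε hε
    obtain ⟨c', _, hc', _⟩ := nU_conj_t C.hP i hi t ht ε hε1
    rw [C.conj_nB_ne i hi t ε hε1 hε2 hε3 c' hc' v]
    exact xb_mem_XP C.xb _ _ hε4 _
  refine C.lift (XL C.xb T) hinj _ (D.simple i) _ c u ?_ (hconj _ hmem) (xb_mem_XP C.xb _ _ hnT _)
  rw [C.π_nB]; exact hG u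

/-- Conjugation by `n̄_p(t)` on `x̄_{-p}`. -/
theorem StCtx.conj_nB_neg_simple (i : ℕ) (hi : i < D.rank) (t : K) (ht : t ≠ 0) (c : K)
    (hG : ∀ u : K, nU C.hP.sem (D.simple i) t * xU C.hP.sem (D.neg (D.simple i)) u *
      (nU C.hP.sem (D.simple i) t)⁻¹ = xU C.hP.sem (D.simple i) (c * u)) (u : K) :
    nB D C.xb (D.simple i) t * C.xb (D.neg (D.simple i)) u * (nB D C.xb (D.simple i) t)⁻¹ =
      C.xb (D.simple i) (c * u) := by
  have hT := C.hP.tab
  have hp := hT.simple_lt i hi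
  obtain ⟨d, hd0, hd, _⟩ := nU_conj_t C.hP i hi (-t) (neg_ne_zero.mpr ht) (D.simple i) hp
  rw [reflectRoot_simple] at hd
  have h1 := C.conj_nB_simple i hi (-t) (neg_ne_zero.mpr ht) d hd (d⁻¹ * u)
  rw [← C.nB_inv _ hp, inv_inv, mul_inv_cancel_left₀ hd0] at h1
  have h2 : nB D C.xb (D.simple i) t * C.xb (D.neg (D.simple i)) u * (nB D C.xb (D.simple i) t)⁻¹ =
      C.xb (D.simple i) (d⁻¹ * u) := by
    rw [← h1]; group
  rw [h2]
  have h3 := congrArg C.π h2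
  rw [map_mul, map_mul, map_inv, C.π_nB, C.hπ, C.hπ, hG u] at h3
  rw [xU_inj C.hP _ hp _ _ h3]

/-- Conjugation by `n̄_p(t)` on all root elements, with the constant of the matrix group. -/
theorem StCtx.conj_nB (i : ℕ) (hi : i < D.rank) (t : K) (ht : t ≠ 0) (s : ℕ) (hs : s < D.nroots) (c : K)
    (hG : ∀ u : K, nU C.hP.sem (D.simple i) t * xU C.hP.sem s u * (nU C.hP.sem (D.simple i) t)⁻¹ =
      xU C.hP.sem (D.reflectRoot i s) (c * u)) (u : K) :
    nB D C.xb (D.simple i) t * C.xb s u * (nB D C.xb (D.simple i) t)⁻¹ = C.xb (D.reflectRoot i s) (c * u) := by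
  have hT := C.hP.tab
  by_cases h1 : s = D.simple i
  · subst h1
    rw [reflectRoot_simple] at hG ⊢
    exact C.conj_nB_simple i hi t ht c hG u
  · by_cases h2 : s = D.neg (D.simple i)
    · subst h2
      rw [reflectRoot_neg_simple hT i hi] at hG ⊢
      exact C.conj_nB_neg_simple i hi t ht c hG u
    · exact C.conj_nB_ne i hi t s hs h1 h2 c hG u

end Ctx

/-- `g` acts on the root elements as the word `w` of the Weyl group, up to scalars inverse on opposite roots. -/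
def Mon (C : StCtx D K Γ z η) (g : Γ) (w : List ℕ) : Prop :=
  ∀ s < D.nroots, ∃ c : K, c ≠ 0 ∧ (∀ u : K, g * C.xb s u * g⁻¹ = C.xb (reflW D w s) (c * u)) ∧
    (∀ u : K, g * C.xb (D.neg s) u * g⁻¹ = C.xb (D.neg (reflW D w s)) (c⁻¹ * u))

section Mon

variable (C : StCtx D K Γ z η)

theorem Mon_nB (i : ℕ) (hi : i < D.rank) (t : K) (ht : t ≠ 0) : Mon C (nB D C.xb (D.simple i) t) [i] := by
  intro s hs
  have hT := C.hP.tab
  obtain ⟨c, hc0, hc1, hc2⟩ := nU_conj_t C.hP i hi t ht s hs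
  refine ⟨c, hc0, fun u => C.conj_nB i hi t ht s hs c hc1 u, fun u => ?_⟩
  have h3 := C.conj_nB i hi t ht (D.neg s) (hT.neg_lt s hs) c⁻¹ (by rw [hT.refl_neg i hi s hs]; exact hc2) u
  rw [hT.refl_neg i hi s hs] at h3
  exact h3

theorem Mon_one : Mon C (1 : Γ) [] := by
  intro s _
  exact ⟨1, one_ne_zero, fun u => by simp [reflW], fun u => by simp [reflW]⟩

theorem Mon_mul {g g' : Γ} {w w' : List ℕ} (hg : Mon C g w) (hg' : Mon C g' w') (hw' : ∀ j ∈ w', j < D.rank) :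
    Mon C (g * g') (w ++ w') := by
  intro s hs
  have hT := C.hP.tab
  obtain ⟨c₁, h10, h11, h12⟩ := hg' s hs
  obtain ⟨c₂, h20, h21, h22⟩ := hg (reflW D w' s) (reflW_lt hT w' hw' s hs)
  refine ⟨c₂ * c₁, mul_ne_zero h20 h10, fun u => ?_, fun u => ?_⟩
  · have e : g * g' * C.xb s u * (g * g')⁻¹ = g * (g' * C.xb s u * g'⁻¹) * g⁻¹ := by group
    rw [e, h11, h21, reflW_append, mul_assoc]
  · have e : g * g' * C.xb (D.neg s) u * (g * g')⁻¹ = g * (g' * C.xb (D.neg s) u * g'⁻¹) * g⁻¹ := by group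
    rw [e, h12, h22, reflW_append, mul_inv, mul_assoc]

theorem Mon_inv {g : Γ} {w : List ℕ} (hg : Mon C g w) (hw : ∀ j ∈ w, j < D.rank) : Mon C g⁻¹ w.reverse := by
  intro s hs
  have hT := C.hP.tab
  have hwr : ∀ j ∈ w.reverse, j < D.rank := fun j hj => hw j (List.mem_reverse.mp hj)
  have hs' := reflW_lt hT w.reverse hwr s hs
  obtain ⟨c, h0, h1, h2⟩ := hg (reflW D w.reverse s) hs'
  rw [reflW_cancel_reverse hT w hw s hs] at h1 h2
  refine ⟨c⁻¹, inv_ne_zero h0, fun u => ?_, fun u => ?_⟩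
  · have h3 := h1 (c⁻¹ * u)
    rw [mul_inv_cancel_left₀ h0] at h3
    rw [← h3]; group
  · have h3 := h2 (c * u)
    rw [inv_mul_cancel_left₀ h0] at h3
    rw [inv_inv, ← h3]; group

/-- Two words through which the same element acts agree on the roots. -/
theorem Mon_unique {g : Γ} {w w' : List ℕ} (hg : Mon C g w) (hg' : Mon C g w') (hw : ∀ j ∈ w, j < D.rank)
    (hw' : ∀ j ∈ w', j < D.rank) (s : ℕ) (hs : s < D.nroots) : reflW D w s = reflW D w' s := by
  have hT := C.hP.tab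
  obtain ⟨c, h0, h1, _⟩ := hg s hs
  obtain ⟨c', _, h1', _⟩ := hg' s hs
  have h2 := (h1 1).symm.trans (h1' 1)
  have h3 := congrArg C.π h2
  rw [C.hπ, C.hπ, mul_one] at h3
  exact xU_eq_imp C.hP _ _ (reflW_lt hT w hw s hs) (reflW_lt hT w' hw' s hs) _ _ h3 h0

end Mon

end Cfsg.Agent.H46
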