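import Cfsg.Agent.H46.StAbs
import Cfsg.Agent.H23.Canon

set_option autoImplicit false
set_option linter.unusedSectionVars false

/-!
# Injectivity of a homomorphism onto the Chevalley group on subgroups generated by good lists of root elements
-/

namespace Cfsg.Agent.H46

open Cfsg.Lie Cfsg.Agent.H23

variable {D : ChevalleyDatum} {K : Type*} [Field K] {Γ : Type*} [Group Γ] {z η : ℕ → ℕ → ℤ}

/-- The subgroup of the general linear group generated by the root elements of the roots of a list. -/
def GXL (hS : Sem D K z) (L : List ℕ) : Subgroup (GL D.Idx K) :=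
  Subgroup.closure {g | ∃ (r : ℕ) (t : K), r ∈ L ∧ g = xU hS r t}

/-- Separation on the matrix side: no nontrivial root element of the head lies in the group of the tail. -/
def SepG (hS : Sem D K z) : List ℕ → Prop
  | [] => True
  | e :: L => (∀ t : K, xU hS e t ∈ GXL hS L → t = 0) ∧ SepG hS L

theorem GXL_le_pos (hS : Sem D K z) (L : List ℕ) (hL : ∀ r ∈ L, D.IsPosRoot r) : GXL hS L ≤ D.posUnipotent K := by
  unfold GXL ChevalleyDatum.posUnipotent
  apply Subgroup.closure_mono
  rintro g ⟨r, t, hr, rfl⟩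
  exact ⟨r, t, hL r hr, rfl⟩

theorem GXL_le_neg (hS : Sem D K z) (L : List ℕ) (hL : ∀ r ∈ L, D.IsNegRoot r) : GXL hS L ≤ D.negUnipotent K := by
  unfold GXL ChevalleyDatum.negUnipotent
  apply Subgroup.closure_mono
  rintro g ⟨r, t, hr, rfl⟩
  exact ⟨r, t, hL r hr, rfl⟩

theorem GXL_nil (hS : Sem D K z) : GXL hS [] = ⊥ := by
  unfold GXL
  rw [Subgroup.closure_eq_bot_iff]
  rintro g ⟨r, t, hr, rfl⟩
  simp at hr

theorem mem_GXL_single (hS : Sem D K z) (e : ℕ) (g : GL D.Idx K) (hg : g ∈ GXL hS [e]) : ∃ t : K, g = xU hS e t := by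
  unfold GXL at hg
  induction hg using Subgroup.closure_induction with
  | mem x hx =>
    obtain ⟨r, t, hr, rfl⟩ := hx
    rw [List.mem_singleton] at hr
    exact ⟨t, by rw [hr]⟩
  | one => exact ⟨0, (xU_zero hS e).symm⟩
  | mul x y _ _ hx hy =>
    obtain ⟨t, rfl⟩ := hx
    obtain ⟨u, rfl⟩ := hy
    exact ⟨t + u, xU_mul hS e t u⟩
  | inv x _ hx =>
    obtain ⟨t, rfl⟩ := hx
    exact ⟨-t, xU_inv hS e t⟩

section Sep

variable (hP : PackB D K z η) (hV : SemV D K)
include hP hV

theorem sep_neg_pos (e : ℕ) (L : List ℕ) (he : D.IsNegRoot e) (hL : ∀ r ∈ L, D.IsPosRoot r) (t : K)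
    (ht : xU hP.sem e t ∈ GXL hP.sem L) : t = 0 := by
  have h1 : xU hP.sem e t ∈ D.posUnipotent K ⊓ D.negUnipotent K :=
    ⟨GXL_le_pos hP.sem L hL ht, Subgroup.subset_closure ⟨e, t, he, rfl⟩⟩
  rw [pos_inf_neg hP.sem hV, Subgroup.mem_bot] at h1
  exact xU_eq_one_imp hP.sem hP.tab hP.tab2 e he.1 t h1

theorem sep_pos_neg (e : ℕ) (L : List ℕ) (he : D.IsPosRoot e) (hL : ∀ r ∈ L, D.IsNegRoot r) (t : K)
    (ht : xU hP.sem e t ∈ GXL hP.sem L) : t = 0 := by
  have h1 : xU hP.sem e t ∈ D.posUnipotent K ⊓ D.negUnipotent K :=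
    ⟨Subgroup.subset_closure ⟨e, t, he, rfl⟩, GXL_le_neg hP.sem L hL ht⟩
  rw [pos_inf_neg hP.sem hV, Subgroup.mem_bot] at h1
  exact xU_eq_one_imp hP.sem hP.tab hP.tab2 e he.1 t h1

omit hV in
/-- Conjugation by the element of a word maps the group of a list into the group of the reflected list. -/
theorem GXL_conj_word (w : List ℕ) (hw : ∀ i ∈ w, i < D.rank) (L : List ℕ) (hL : ∀ r ∈ L, r < D.nroots) :
    ∀ g ∈ GXL hP.sem L, nWU hP.sem w * g * (nWU hP.sem w)⁻¹ ∈ GXL hP.sem (L.map (reflW D w)) := by
  apply conj_mem_of_closure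
  rintro x ⟨r, t, hr, rfl⟩
  obtain ⟨c, _, hc⟩ := nWU_conj hP.sem hP.semN hP.tab w hw r (hL r hr)
  rw [hc t]
  exact Subgroup.subset_closure ⟨_, _, List.mem_map_of_mem hr, rfl⟩

/-- Separation by a word of the Weyl group. -/
theorem sep_word (e : ℕ) (L : List ℕ) (he : e < D.nroots) (hL : ∀ r ∈ L, r < D.nroots) (w : List ℕ)
    (hw : ∀ i ∈ w, i < D.rank)
    (hsep : (D.IsNegRoot (reflW D w e) ∧ ∀ r ∈ L, D.IsPosRoot (reflW D w r)) ∨
      (D.IsPosRoot (reflW D w e) ∧ ∀ r ∈ L, D.IsNegRoot (reflW D w r))) (t : K)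
    (ht : xU hP.sem e t ∈ GXL hP.sem L) : t = 0 := by
  have h1 := GXL_conj_word hP w hw L hL _ ht
  obtain ⟨c, hc1, hc⟩ := nWU_conj hP.sem hP.semN hP.tab w hw e he
  rw [hc t] at h1
  have hc0 : c ≠ 0 := by rcases hc1 with rfl | rfl <;> simp
  have h2 : c * t = 0 := by
    rcases hsep with ⟨h3, h4⟩ | ⟨h3, h4⟩
    · refine sep_neg_pos hP hV _ _ h3 ?_ _ h1
      intro r hr
      obtain ⟨r', hr', rfl⟩ := List.mem_map.mp hr
      exact h4 r' hr'
    · refine sep_pos_neg hP hV _ _ h3 ?_ _ h1
      intro r hr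
      obtain ⟨r', hr', rfl⟩ := List.mem_map.mp hr
      exact h4 r' hr'
  rcases mul_eq_zero.mp h2 with h5 | h5
  · exact absurd h5 hc0
  · exact h5

omit hV in
theorem sep_single (e e' : ℕ) (he : e < D.nroots) (he' : e' < D.nroots) (hne : e' ≠ e) (t : K)
    (ht : xU hP.sem e t ∈ GXL hP.sem [e']) : t = 0 := by
  by_contra h0
  obtain ⟨t', h1⟩ := mem_GXL_single hP.sem e' _ ht
  exact hne (xU_eq_imp hP e e' he he' t t' h1 h0).symm

omit hV in
theorem sep_nil (e : ℕ) (he : e < D.nroots) (t : K) (ht : xU hP.sem e t ∈ GXL hP.sem []) : t = 0 := by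
  rw [GXL_nil, Subgroup.mem_bot] at ht
  exact xU_eq_one_imp hP.sem hP.tab hP.tab2 e he t ht

omit hV in
/-- Separation is invariant under a fundamental reflection. -/
theorem sep_map_refl (i : ℕ) (hi : i < D.rank) (e : ℕ) (L : List ℕ) (he : e < D.nroots) (hL : ∀ r ∈ L, r < D.nroots)
    (hsep : ∀ t : K, xU hP.sem e t ∈ GXL hP.sem L → t = 0) (t : K)
    (ht : xU hP.sem (D.reflectRoot i e) t ∈ GXL hP.sem (L.map (D.reflectRoot i))) : t = 0 := by
  have hT := hP.tab
  have hL' : ∀ r ∈ L.map (D.reflectRoot i), r < D.nroots := by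
    intro r hr
    obtain ⟨r', hr', rfl⟩ := List.mem_map.mp hr
    exact hT.refl_lt i hi r' (hL r' hr')
  have h1 := GXL_conj_word hP [i] (by simpa using hi) _ hL' _ ht
  obtain ⟨c, hc1, hc⟩ := nWU_conj hP.sem hP.semN hT [i] (by simpa using hi) (D.reflectRoot i e)
    (hT.refl_lt i hi e he)
  rw [hc t] at h1
  have e1 : reflW D [i] (D.reflectRoot i e) = e := hT.refl_invol i hi e he
  have e2 : (L.map (D.reflectRoot i)).map (reflW D [i]) = L := by
    rw [List.map_map]
    conv_rhs => rw [← List.map_id L]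
    apply List.map_congr_left
    intro r hr
    exact hT.refl_invol i hi r (hL r hr)
  rw [e1, e2] at h1
  have hc0 : c ≠ 0 := by rcases hc1 with rfl | rfl <;> simp
  rcases mul_eq_zero.mp (hsep _ h1) with h5 | h5
  · exact absurd h5 hc0
  · exact h5

omit hV in
theorem SepG_map_refl (i : ℕ) (hi : i < D.rank) (L : List ℕ) (hL : ∀ r ∈ L, r < D.nroots)
    (hsep : SepG hP.sem L) : SepG hP.sem (L.map (D.reflectRoot i)) := by
  induction L with
  | nil => trivial
  | cons e L ih =>
    have hL' : ∀ r ∈ L, r < D.nroots := fun r hr => hL r (List.mem_cons_of_mem _ hr)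
    exact ⟨sep_map_refl hP i hi e L (hL e (List.mem_cons_self ..)) hL' hsep.1, ih hL' hsep.2⟩

end Sep

/-! ### The convex order of the positive roots given by a reduced word -/

/-- The list `p_{i_1}, w_{i_1}(p_{i_2}), w_{i_1} w_{i_2}(p_{i_3}), …` of a word `i_1, i_2, …`. -/
def convList (D : ChevalleyDatum) : List ℕ → List ℕ
  | [] => []
  | i :: w => D.simple i :: (convList D w).map (D.reflectRoot i)

/-- The word is reduced (checked through the lists `convList` of its suffixes). -/
def convOK (D : ChevalleyDatum) : List ℕ → Bool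
  | [] => true
  | i :: w => (decide (i < D.rank) && !((convList D w).contains (D.simple i))) && convOK D w

theorem convOK_cons {i : ℕ} {w : List ℕ} (h : convOK D (i :: w) = true) :
    i < D.rank ∧ D.simple i ∉ convList D w ∧ convOK D w = true := by
  unfold convOK at h
  simp only [Bool.and_eq_true, decide_eq_true_eq, Bool.not_eq_true', List.contains_eq_mem,
    decide_eq_false_iff_not] at h
  exact ⟨h.1.1, h.1.2, h.2⟩

theorem convList_pos (hT : Tab D) (w : List ℕ) (h : convOK D w = true) : ∀ r ∈ convList D w, D.IsPosRoot r := by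
  induction w with
  | nil => intro r hr; simp [convList] at hr
  | cons i w ih =>
    obtain ⟨hi, hni, hw⟩ := convOK_cons h
    intro r hr
    unfold convList at hr
    rcases List.mem_cons.mp hr with rfl | hr
    · exact hT.simple_pos i hi
    · obtain ⟨r', hr', rfl⟩ := List.mem_map.mp hr
      have hp := ih hw r' hr'
      exact (hT.refl_pos i hi r' hp.1 hp (fun e => hni (e ▸ hr'))).1

theorem SepG_convList (hP : PackB D K z η) (hV : SemV D K) (w : List ℕ) (h : convOK D w = true) :
    SepG hP.sem (convList D w) := by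
  have hT := hP.tab
  induction w with
  | nil => trivial
  | cons i w ih =>
    obtain ⟨hi, hni, hw⟩ := convOK_cons h
    have hpos := convList_pos hT w hw
    have hlt : ∀ r ∈ convList D w, r < D.nroots := fun r hr => (hpos r hr).1
    refine ⟨?_, SepG_map_refl hP i hi _ hlt (ih hw)⟩
    intro t ht
    have hlt' : ∀ r ∈ (convList D w).map (D.reflectRoot i), r < D.nroots := by
      intro r hr
      obtain ⟨r', hr', rfl⟩ := List.mem_map.mp hr
      exact hT.refl_lt i hi r' (hlt r' hr')
    refine sep_word hP hV (D.simple i) _ (hT.simple_lt i hi) hlt' [i] (by simpa using hi) (Or.inl ⟨?_, ?_⟩) t ht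
    · show D.IsNegRoot (D.reflectRoot i (D.simple i))
      rw [reflectRoot_simple]
      exact (hT.pos_neg _ (hT.simple_lt i hi)).1 (hT.simple_pos i hi)
    · intro r hr
      obtain ⟨r', hr', rfl⟩ := List.mem_map.mp hr
      show D.IsPosRoot (D.reflectRoot i (D.reflectRoot i r'))
      rw [hT.refl_invol i hi r' (hlt r' hr')]
      exact hpos r' hr'

theorem convList_map_neg (hT : Tab D) (w : List ℕ) (h : convOK D w = true) :
    (convList D (w)).map D.neg = match w with
      | [] => []
      | i :: w' => D.neg (D.simple i) :: ((convList D w').map D.neg).map (D.reflectRoot i) := by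
  cases w with
  | nil => rfl
  | cons i w' =>
    obtain ⟨hi, _, hw⟩ := convOK_cons h
    have hpos := convList_pos hT w' hw
    show D.neg (D.simple i) :: ((convList D w').map (D.reflectRoot i)).map D.neg = _
    congr 1
    rw [List.map_map, List.map_map]
    apply List.map_congr_left
    intro r hr
    exact (hT.refl_neg i hi r (hpos r hr).1).symm

theorem SepG_convList_neg (hP : PackB D K z η) (hV : SemV D K) (w : List ℕ) (h : convOK D w = true) :
    SepG hP.sem ((convList D w).map D.neg) := by
  have hT := hP.tab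
  induction w with
  | nil => trivial
  | cons i w ih =>
    obtain ⟨hi, hni, hw⟩ := convOK_cons h
    have hpos := convList_pos hT w hw
    have hneg : ∀ r ∈ (convList D w).map D.neg, D.IsNegRoot r := by
      intro r hr
      obtain ⟨r', hr', rfl⟩ := List.mem_map.mp hr
      exact (hT.pos_neg r' (hpos r' hr').1).1 (hpos r' hr')
    have hlt : ∀ r ∈ (convList D w).map D.neg, r < D.nroots := fun r hr => (hneg r hr).1
    rw [convList_map_neg hT (i :: w) h]
    refine ⟨?_, SepG_map_refl hP i hi _ hlt (ih hw)⟩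
    intro t ht
    have hlt' : ∀ r ∈ ((convList D w).map D.neg).map (D.reflectRoot i), r < D.nroots := by
      intro r hr
      obtain ⟨r', hr', rfl⟩ := List.mem_map.mp hr
      exact hT.refl_lt i hi r' (hlt r' hr')
    refine sep_word hP hV (D.neg (D.simple i)) _ (hT.neg_lt _ (hT.simple_lt i hi)) hlt' [i] (by simpa using hi)
      (Or.inr ⟨?_, ?_⟩) t ht
    · show D.IsPosRoot (D.reflectRoot i (D.neg (D.simple i)))
      rw [reflectRoot_neg_simple hT i hi]
      exact hT.simple_pos i hi
    · intro r hr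
      obtain ⟨r', hr', rfl⟩ := List.mem_map.mp hr
      show D.IsNegRoot (D.reflectRoot i (D.reflectRoot i r'))
      rw [hT.refl_invol i hi r' (hlt r' hr')]
      exact hneg r' hr'

/-! ### Checked separation of short lists -/

/-- One step of the separation check: the tail has at most one element, different from the head, or a word of the
Weyl group separates the head from the tail by sign. -/
def sepStep (D : ChevalleyDatum) (e : ℕ) (L : List ℕ) (w : List ℕ) : Bool :=
  (decide (L.length ≤ 1) && L.all (fun r => !(r == e))) ||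
  (w.all (fun i => decide (i < D.rank)) &&
    ((decide (D.IsNegRoot (reflW D w e)) && L.all (fun r => decide (D.IsPosRoot (reflW D w r)))) ||
     (decide (D.IsPosRoot (reflW D w e)) && L.all (fun r => decide (D.IsNegRoot (reflW D w r))))))

/-- The separation check of a list, with one word for each position. -/
def sepChk (D : ChevalleyDatum) : List ℕ → List (List ℕ) → Bool
  | [], _ => true
  | e :: L, W => sepStep D e L (W.headD []) && sepChk D L W.tail

theorem SepG_of_chk (hP : PackB D K z η) (hV : SemV D K) (L : List ℕ) (hL : ∀ r ∈ L, r < D.nroots) :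
    ∀ W : List (List ℕ), sepChk D L W = true → SepG hP.sem L := by
  induction L with
  | nil => intro _ _; trivial
  | cons e L ih =>
    intro W h
    unfold sepChk at h
    rw [Bool.and_eq_true] at h
    have hL' : ∀ r ∈ L, r < D.nroots := fun r hr => hL r (List.mem_cons_of_mem _ hr)
    have he := hL e (List.mem_cons_self ..)
    refine ⟨?_, ih hL' _ h.2⟩
    have h1 := h.1
    unfold sepStep at h1
    rw [Bool.or_eq_true] at h1
    rcases h1 with h1 | h1
    · simp only [Bool.and_eq_true, decide_eq_true_eq, List.all_eq_true, Bool.not_eq_true', beq_eq_false_iff_ne,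
        ne_eq] at h1
      match L, h1, hL' with
      | [], _, _ => exact fun t ht => sep_nil hP e he t ht
      | [e'], h1, hL' =>
        exact fun t ht => sep_single hP e e' he (hL' e' (List.mem_cons_self ..)) (h1.2 e' (List.mem_cons_self ..)) t ht
      | _ :: _ :: _, h1, _ => simp at h1
    · simp only [Bool.and_eq_true, Bool.or_eq_true, decide_eq_true_eq, List.all_eq_true] at h1
      exact fun t ht => sep_word hP hV e L he hL' _ h1.1 h1.2 t ht

/-! ### Injectivity -/

theorem map_XL_mem {xb : ℕ → K → Γ} (hS : Sem D K z) (π : Γ →* GL D.Idx K) (hπ : ∀ r t, π (xb r t) = xU hS r t)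
    (L : List ℕ) : ∀ g ∈ XL xb L, π g ∈ GXL hS L := by
  intro g hg
  unfold XL XP at hg
  induction hg using Subgroup.closure_induction with
  | mem x hx =>
    obtain ⟨r, t, hr, rfl⟩ := hx
    rw [hπ]
    exact Subgroup.subset_closure ⟨r, t, hr, rfl⟩
  | one => rw [map_one]; exact Subgroup.one_mem _
  | mul x y _ _ hx hy => rw [map_mul]; exact Subgroup.mul_mem _ hx hy
  | inv x _ hx => rw [map_inv]; exact Subgroup.inv_mem _ hx

/-- A homomorphism onto the matrix group is injective on the group of a list with the chain condition and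
separation. -/
theorem inj_of_sep {xb : ℕ → K → Γ} (h : StRel D xb) (hS : Sem D K z) (π : Γ →* GL D.Idx K)
    (hπ : ∀ r t, π (xb r t) = xU hS r t) (L : List ℕ) (hc : chainOK D L = true) (hsep : SepG hS L) :
    ∀ g ∈ XL xb L, π g = 1 → g = 1 := by
  induction L with
  | nil =>
    intro g hg _
    rw [XL_nil, Subgroup.mem_bot] at hg
    exact hg
  | cons e L ih =>
    intro g hg hg1
    obtain ⟨he, _, hcL⟩ := chainOK_cons hc
    obtain ⟨t, g', hg', rfl⟩ := chain_decomp h hc g hg
    have h1 : xU hS e t ∈ GXL hS L := by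
      have h2 := map_XL_mem hS π hπ L g' hg'
      rw [map_mul, hπ, mul_eq_one_iff_eq_inv] at hg1
      rw [hg1]
      exact Subgroup.inv_mem _ h2
    have ht := hsep.1 t h1
    rw [ht, xb_zero h e he, one_mul] at hg1 ⊢
    exact ih hcL hsep.2 g' hg' hg1

end Cfsg.Agent.H46
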