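import Cfsg.Agent.H67.UmDefs

/-!
# UM-AR2C (helper46, for helper67's S2263): two parts, largest multiplicity three

`L := Qn a * Qn b / (q + 1)`, `p ^ t := 4` if `p = 2` and `p` otherwise.  `L ≤ q ^ (a + b - 1) + 1 ≤ q ^ (d - 3) + 1`;
the only tight case is `q = 2`, `d` odd, where `(a, k, m) = (1, 3, 1)` gives `L = 2 ^ (d - 3) - 1` and otherwise
`a + b ≤ d - 3`.
-/

set_option autoImplicit false

namespace Cfsg.Agent.H46.Um

open Cfsg.Agent.H67.Um

theorem qn_dvd (q a : ℕ) : q + 1 ∣ Qn q a := by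
  unfold Qn
  split_ifs with h
  · obtain ⟨c, rfl⟩ := h
    have h1 : q ^ 2 - 1 ∣ (q ^ 2) ^ c - 1 ^ c := Nat.sub_dvd_pow_sub_pow _ _ _
    have h2 : q + 1 ∣ q ^ 2 - 1 := by
      have := Nat.sq_sub_sq q 1
      rw [one_pow] at this
      rw [this]
      exact Dvd.intro _ rfl
    rw [← pow_mul, one_pow, two_mul] at h1
    exact h2.trans h1
  · have ho : Odd a := Nat.not_even_iff_odd.1 h
    have := Odd.nat_add_dvd_pow_add_pow q 1 ho
    rwa [one_pow] at this

theorem qn_le (q a : ℕ) : Qn q a ≤ q ^ a + 1 := by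
  unfold Qn
  split_ifs <;> omega

theorem qn_pos (q a : ℕ) (hq : 2 ≤ q) (ha : 1 ≤ a) : 1 ≤ Qn q a := by
  unfold Qn
  split_ifs
  · have : 2 ^ 1 ≤ q ^ a := le_trans (Nat.pow_le_pow_left hq 1) (Nat.pow_le_pow_right (by omega) ha)
    omega
  · omega

theorem key_le (q a b : ℕ) (hq : 1 ≤ q) (ha : 1 ≤ a) (hb : 1 ≤ b) :
    (q ^ a + 1) * (q ^ b + 1) ≤ (q + 1) * (q ^ (a + b - 1) + 1) := by
  obtain ⟨a', rfl⟩ : ∃ a', a = a' + 1 := ⟨a - 1, by omega⟩
  obtain ⟨b', rfl⟩ : ∃ b', b = b' + 1 := ⟨b - 1, by omega⟩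
  have e : a' + 1 + (b' + 1) - 1 = a' + b' + 1 := by omega
  rw [e, pow_succ, pow_succ, pow_succ, pow_add]
  have hx : 1 ≤ q ^ a' := Nat.one_le_pow _ _ hq
  have hy : 1 ≤ q ^ b' := Nat.one_le_pow _ _ hq
  generalize q ^ a' = x at hx ⊢
  generalize q ^ b' = y at hy ⊢
  obtain ⟨x', rfl⟩ : ∃ x', x = x' + 1 := ⟨x - 1, by omega⟩
  obtain ⟨y', rfl⟩ : ∃ y', y = y' + 1 := ⟨y - 1, by omega⟩
  nlinarith [Nat.zero_le (x' * y' * q), Nat.zero_le (x' * y'), Nat.zero_le q]

/-- the product bound -/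
theorem L_le (q a b : ℕ) (hq : 1 ≤ q) (ha : 1 ≤ a) (hb : 1 ≤ b) :
    Qn q a * Qn q b / (q + 1) ≤ q ^ (a + b - 1) + 1 := by
  calc Qn q a * Qn q b / (q + 1) ≤ (q ^ a + 1) * (q ^ b + 1) / (q + 1) :=
        Nat.div_le_div_right (Nat.mul_le_mul (qn_le q a) (qn_le q b))
    _ ≤ (q + 1) * (q ^ (a + b - 1) + 1) / (q + 1) := Nat.div_le_div_right (key_le q a b hq ha hb)
    _ = q ^ (a + b - 1) + 1 := Nat.mul_div_cancel_left _ (by omega)

theorem ar2c_aux (p f d a b m : ℕ) (hp : p.Prime) (hf : 1 ≤ f) (hd3 : ¬ (d = 3 ∧ p ^ f = 2))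
    (ha : 1 ≤ a) (hb : 1 ≤ b) (hm : 1 ≤ m) (hm3 : m ≤ 3) (hd : a * 3 + b * m = d) :
    Ar2C p f d a 3 b m := by
  have hp2 : 2 ≤ p := hp.two_le
  obtain ⟨q, hq⟩ : ∃ q, q = p ^ f := ⟨_, rfl⟩
  have hpq : p ≤ q := by
    rw [hq]; calc p = p ^ 1 := (pow_one p).symm
      _ ≤ p ^ f := Nat.pow_le_pow_right (by omega) hf
  have hq2 : 2 ≤ q := le_trans hp2 hpq
  have hbm : b ≤ b * m := Nat.le_mul_of_pos_right _ (by omega)
  obtain ⟨e, he⟩ : ∃ e, d = e + 4 := ⟨d - 4, by omega⟩
  have hX : 1 ≤ q ^ (e + 1) := Nat.one_le_pow _ _ (by omega)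
  have hL1 := L_le q a b (by omega) ha hb
  have hLpos : 1 ≤ Qn q a * Qn q b / (q + 1) := by
    rw [Nat.mul_div_assoc _ (qn_dvd q b)]
    have h1 := qn_pos q a hq2 ha
    have h2 : 1 ≤ Qn q b / (q + 1) :=
      Nat.div_pos (Nat.le_of_dvd (qn_pos q b hq2 hb) (qn_dvd q b)) (by omega)
    exact Nat.mul_le_mul h1 h2
  have hsum : a + b - 1 ≤ e + 1 := by omega
  have hLX : Qn q a * Qn q b / (q + 1) ≤ q ^ (e + 1) + 1 :=
    le_trans hL1 (Nat.add_le_add_right (Nat.pow_le_pow_right (by omega) hsum) 1)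
  unfold Ar2C
  rw [← hq]
  refine ⟨Qn q a * Qn q b / (q + 1), if p = 2 then 2 else 1, hLpos, ?_, ?_, ?_, ?_, ?_⟩
  · rw [Nat.mul_div_assoc _ (qn_dvd q b)]; exact Dvd.intro _ rfl
  · rw [← Nat.div_mul_right_comm (qn_dvd q a)]; exact Dvd.intro_left _ rfl
  · split_ifs with h2
    · rw [h2]; norm_num
    · have : 3 ≤ p := by omega
      simpa using this
  · split_ifs with h2
    · rw [h2]; norm_num; omega
    · have : 3 ≤ p := by omega
      rw [pow_one]; omega
  · -- the bound
    have hd1 : d - 1 = e + 1 + 2 := by omega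
    have hd2 : d - 2 = e + 1 + 1 := by omega
    have hd3' : d - 3 = e + 1 := by omega
    unfold tgt
    rw [← hq, hd1, hd2, hd3']
    generalize hLdef : Qn q a * Qn q b / (q + 1) = L at hLX hLpos hL1
    have hpow2 : q ^ (e + 1 + 2) = q ^ (e + 1) * q ^ 2 := pow_add _ _ _
    by_cases h2 : p = 2
    · rw [if_pos h2, h2]
      subst h2
      split_ifs with ho hf2 hq3
      · -- odd d, f ≥ 2 : q ≥ 4
        have hq4 : 4 ≤ q := by
          rw [hq]; calc 4 = 2 ^ 2 := by norm_num
            _ ≤ 2 ^ f := Nat.pow_le_pow_right (by omega) hf2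
        have h16 : 16 ≤ q ^ 2 := by nlinarith
        have := Nat.mul_le_mul_left (q ^ (e + 1)) h16
        rw [hpow2]
        omega
      · -- odd d, f = 1 : q = 2
        have hf1 : f = 1 := by omega
        have hq2' : q = 2 := by rw [hq, hf1]; norm_num
        subst hq2'
        have hLle : L ≤ 2 ^ (e + 1) := by
          by_cases hcase : a = 1 ∧ m = 1
          · obtain ⟨rfl, rfl⟩ := hcase
            have hbe : b = e + 1 := by omega
            have hbev : Even b := by
              rw [hbe]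
              have : Odd (e + 4) := he ▸ ho
              rcases this with ⟨c, hc⟩
              exact ⟨c - 1, by omega⟩
            have hQ1 : Qn 2 1 = 3 := by norm_num [Qn]
            have hQb : Qn 2 b = 2 ^ b - 1 := by simp [Qn, hbev]
            rw [← hLdef, hQ1, hQb, Nat.mul_div_cancel_left _ (by norm_num : 0 < 2 + 1), hbe]
            omega
          · have hsum' : a + b - 1 ≤ e := by
              rcases Nat.lt_or_ge 1 a with h | h
              · omega
              · have ha1 : a = 1 := by omega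
                have hm2 : 2 ≤ m := by
                  by_contra hcon
                  exact hcase ⟨ha1, by omega⟩
                have : b * 2 ≤ b * m := Nat.mul_le_mul_left _ hm2
                omega
            have h3 : L ≤ 2 ^ e + 1 :=
              le_trans hL1 (Nat.add_le_add_right (Nat.pow_le_pow_right (by omega) hsum') 1)
            have h4 : 1 ≤ 2 ^ e := Nat.one_le_pow _ _ (by omega)
            rw [pow_succ]
            omega
        have h5 : 2 ^ (e + 1 + 1) = 2 ^ (e + 1) * 2 := pow_succ _ _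
        rw [h5]
        norm_num
        omega
      · -- even d, q > 2
        have h9 : 9 ≤ q ^ 2 := by nlinarith
        have := Nat.mul_le_mul_left (q ^ (e + 1)) h9
        rw [hpow2]
        omega
      · -- even d, q = 2
        have hq2' : q = 2 := by omega
        subst hq2'
        norm_num
        omega
    · rw [if_neg h2, pow_one]
      have hp3 : 3 ≤ p := by omega
      have hLp : L * p ≤ (q ^ (e + 1) + 1) * p := Nat.mul_le_mul_right _ hLX
      have hexp : (q ^ (e + 1) + 1) * p = q ^ (e + 1) * p + p := by ring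
      have hpX : p ≤ q ^ (e + 1) * p := Nat.le_mul_of_pos_left _ (by omega)
      split_ifs with ho hf2 hq3
      · -- odd d, f ≥ 2 : q ≥ p^2
        have hqp : p ^ 2 ≤ q := by
          rw [hq]; exact Nat.pow_le_pow_right (by omega) hf2
        have h1 : 2 * p + 1 ≤ q ^ 2 := by nlinarith
        have h2' := Nat.mul_le_mul_left (q ^ (e + 1)) h1
        have h3 : q ^ (e + 1) * (2 * p + 1) = 2 * (q ^ (e + 1) * p) + q ^ (e + 1) := by ring
        rw [hpow2]
        omega
      · -- odd d, f = 1 : q = p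
        have hf1 : f = 1 := by omega
        have hqp : q = p := by rw [hq, hf1, pow_one]
        subst hqp
        have h5 : q ^ (e + 1 + 1) = q ^ (e + 1) * q := pow_succ _ _
        rw [h5]
        have h6 : (q ^ (e + 1) * q + 1) * q = q ^ (e + 1) * q * q + q := by ring
        have h7 : q ^ (e + 1) * q ≤ q ^ (e + 1) * q * q := Nat.le_mul_of_pos_right _ (by omega)
        omega
      · -- even d, q > 2
        have h1 : 2 * p ≤ q ^ 2 := by nlinarith
        have h2' := Nat.mul_le_mul_left (q ^ (e + 1)) h1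
        have h3 : q ^ (e + 1) * (2 * p) = 2 * (q ^ (e + 1) * p) := by ring
        rw [hpow2]
        omega
      · omega

theorem ar2c : StAr2c := by
  intro p f d a k b m hp hf hd hd3 ha hk hb hm hsum hmax
  have hcases : (k = 3 ∧ m ≤ 3) ∨ (m = 3 ∧ k ≤ 3) := by
    rcases le_total k m with h | h
    · rw [max_eq_right h] at hmax; right; omega
    · rw [max_eq_left h] at hmax; left; omega
  rcases hcases with ⟨rfl, hm3⟩ | ⟨rfl, hk3⟩
  · exact ar2c_aux p f d a b m hp hf hd3 ha hb hm hm3 hsum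
  · obtain ⟨L, t, h1, h2, h3, h4, h5, h6⟩ :=
      ar2c_aux p f d b a k hp hf hd3 hb ha hk hk3 (by omega)
    exact ⟨L, t, h1, h3, h2, h5, h4, h6⟩


example : StAr2c := ar2c

end Cfsg.Agent.H46.Um
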